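import Mathlib
import Cfsg.Agent.Lib.FF.SylowIn

/-!
# Sylow 2-subgroups of the alternating group of degree 8: the kernel checks
-/

set_option autoImplicit false

namespace Cfsg.Agent.Lib.Amalgam.A8Sylow

open Equiv Equiv.Perm Subgroup

/-- Words with exponents 0/1 in a list of permutations. -/
def W : List (Perm (Fin 8)) → List (Perm (Fin 8))
  | [] => [1]
  | g :: gs => W gs ++ (W gs).map (g * ·)

def gens : List (Perm (Fin 8)) :=
  [swap 4 5 * swap 6 7, swap 4 6 * swap 5 7, swap 2 3 * swap 6 7, swap 0 1 * swap 6 7,
    swap 0 2 * swap 1 3, swap 0 4 * swap 1 5 * swap 2 6 * swap 3 7]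

def zP : Perm (Fin 8) := swap 0 1 * swap 2 3 * swap 4 5 * swap 6 7

def LP : List (Perm (Fin 8)) := W gens

/-! ### Codes -/

/-- The `i`-th base 8 digit. -/
def ap (c i : Nat) : Nat := (c >>> (3 * i)) % 8

/-- Packing of eight values. -/
def pack8 (f : Nat → Nat) : Nat :=
  f 0 + f 1 * 8 + f 2 * 64 + f 3 * 512 + f 4 * 4096 + f 5 * 32768 + f 6 * 262144 + f 7 * 2097152

def comp (c d : Nat) : Nat := pack8 fun i => ap c (ap d i)

def LC : List Nat := [16434824, 6852524, 16433690, 2207660, 14599809, 6823404, 14598234, 372204, 14599368, 5017068, 14598675, 2178540, 16434369, 4988844, 16433235, 343980, 11789960, 6851390, 11788826, 2206526, 9954945, 6822270, 9953370, 371070, 9954504, 5015934, 9953811, 2177406, 11789505, 4987710, 11788371, 342846, 14571144, 6852069, 14570010, 2207205, 16406145, 6823845, 16404570, 372645, 16405704, 5017509, 16405011, 2178981, 14570689, 4988389, 14569555, 343525, 9926280, 6850935, 9925146, 2206071, 11761281, 6822711, 11759706, 371511, 11760840, 5016375, 11760147, 2177847, 9925825, 4987255, 9924691, 342391]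
def genC : List Nat := [14571144, 11789960, 14599368, 14599809, 16433690, 6852524]
def zC : Nat := 14570689
def tauC : Nat := 16434817
def idC : Nat := 16434824

def elemC (x : Nat) : List Nat → Bool
  | [] => false
  | y :: l => Nat.beq x y || elemC x l

def WC : List Nat → List Nat
  | [] => [idC]
  | g :: gs => WC gs ++ (WC gs).map (comp g)

theorem LC_eq : LC = WC genC := by decide +kernel

theorem LC_nodup : LC.Nodup := by decide +kernel

theorem gens_mul_check : (genC.all fun g => LC.all fun u => elemC (comp g u) LC) = true := by decide +kernel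

theorem center_check : (LC.all fun t => !(genC.all fun s => Nat.beq (comp t s) (comp s t)) || Nat.beq t idC || Nat.beq t zC) = true := by
  decide +kernel

theorem z_center_check : (LC.all fun s => Nat.beq (comp s zC) (comp zC s)) = true := by decide +kernel

def tupC (a b c d : Nat) : Nat :=
  pack8 fun i => match i with
    | 0 => a | 1 => ap zC a | 2 => b | 3 => ap zC b | 4 => c | 5 => ap zC c | 6 => d | _ => ap zC d

def injC (f : Nat) : Bool :=
  (List.range 8).all fun i => (List.range i).all fun j => !(Nat.beq (ap f i) (ap f j))

def tupOK (f : Nat) : Bool :=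
  !(injC f) || !(genC.all fun s => LC.any fun t => Nat.beq (comp f s) (comp t f)) ||
    elemC f LC || elemC (comp tauC f) LC

theorem tup_check : ((List.range 8).all fun a => (List.range 8).all fun b => (List.range 8).all fun c =>
    (List.range 8).all fun d => tupOK (tupC a b c d)) = true := by decide +kernel

end Cfsg.Agent.Lib.Amalgam.A8Sylow
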