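import Cfsg.Agent.Lib.Amalgam.A8Data

/-!
# Sylow 2-subgroups of the alternating group of degree 8 are self-normalizing
-/

set_option autoImplicit false

namespace Cfsg.Agent.Lib.Amalgam.A8Sylow

open Equiv Equiv.Perm Subgroup

/-! ### The link between permutations and their codes -/

def enc (g : Fin 8 → Fin 8) : Nat := pack8 fun i => if h : i < 8 then (g ⟨i, h⟩).val else 0

theorem digits (a0 a1 a2 a3 a4 a5 a6 a7 : Nat) (h0 : a0 < 8) (h1 : a1 < 8) (h2 : a2 < 8) (h3 : a3 < 8)
    (h4 : a4 < 8) (h5 : a5 < 8) (h6 : a6 < 8) (h7 : a7 < 8) (c : Nat)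
    (hc : c = a0 + a1 * 8 + a2 * 64 + a3 * 512 + a4 * 4096 + a5 * 32768 + a6 * 262144 + a7 * 2097152) :
    ap c 0 = a0 ∧ ap c 1 = a1 ∧ ap c 2 = a2 ∧ ap c 3 = a3 ∧ ap c 4 = a4 ∧ ap c 5 = a5 ∧ ap c 6 = a6 ∧ ap c 7 = a7 := by
  simp only [ap, Nat.shiftRight_eq_div_pow]
  norm_num
  omega

theorem ap_enc (g : Fin 8 → Fin 8) (i : Fin 8) : ap (enc g) i.val = (g i).val := by
  have key : enc g = (g 0).val + (g 1).val * 8 + (g 2).val * 64 + (g 3).val * 512 + (g 4).val * 4096
      + (g 5).val * 32768 + (g 6).val * 262144 + (g 7).val * 2097152 := rfl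
  obtain ⟨d0, d1, d2, d3, d4, d5, d6, d7⟩ := digits _ _ _ _ _ _ _ _ (g 0).isLt (g 1).isLt (g 2).isLt (g 3).isLt
    (g 4).isLt (g 5).isLt (g 6).isLt (g 7).isLt _ key
  fin_cases i
  · exact d0
  · exact d1
  · exact d2
  · exact d3
  · exact d4
  · exact d5
  · exact d6
  · exact d7

theorem enc_inj {g h : Fin 8 → Fin 8} (e : enc g = enc h) : g = h := by
  funext i
  apply Fin.ext
  rw [← ap_enc g i, ← ap_enc h i, e]

theorem enc_comp (g h : Fin 8 → Fin 8) : enc (g ∘ h) = comp (enc g) (enc h) := by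
  have key : ∀ i : Fin 8, ap (enc g) (ap (enc h) i.val) = (g (h i)).val := by
    intro i
    rw [ap_enc h i, ap_enc g (h i)]
  show _ = _ + _ + _ + _ + _ + _ + _ + _
  simp only [show ap (enc g) (ap (enc h) 0) = (g (h 0)).val from key 0,
    show ap (enc g) (ap (enc h) 1) = (g (h 1)).val from key 1,
    show ap (enc g) (ap (enc h) 2) = (g (h 2)).val from key 2,
    show ap (enc g) (ap (enc h) 3) = (g (h 3)).val from key 3,
    show ap (enc g) (ap (enc h) 4) = (g (h 4)).val from key 4,
    show ap (enc g) (ap (enc h) 5) = (g (h 5)).val from key 5,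
    show ap (enc g) (ap (enc h) 6) = (g (h 6)).val from key 6,
    show ap (enc g) (ap (enc h) 7) = (g (h 7)).val from key 7]
  rfl

/-- The code of a permutation. -/
abbrev ep (g : Perm (Fin 8)) : Nat := enc ⇑g

theorem ep_mul (g h : Perm (Fin 8)) : ep (g * h) = comp (ep g) (ep h) := enc_comp (⇑g) (⇑h)

theorem ep_inj {g h : Perm (Fin 8)} (e : ep g = ep h) : g = h :=
  Equiv.coe_fn_injective (enc_inj e)

theorem ep_one : ep 1 = idC := by decide +kernel

theorem W_nil : W [] = [1] := rfl
theorem W_cons (g : Perm (Fin 8)) (gs : List (Perm (Fin 8))) : W (g :: gs) = W gs ++ (W gs).map (g * ·) := rfl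
theorem WC_nil : WC [] = [idC] := rfl
theorem WC_cons (g : Nat) (gs : List Nat) : WC (g :: gs) = WC gs ++ (WC gs).map (comp g) := rfl

/-- Words in an abstract magma. -/
def WG (c : Nat → Nat → Nat) (i : Nat) : List Nat → List Nat
  | [] => [i]
  | g :: gs => WG c i gs ++ (WG c i gs).map (c g)

theorem WG_nil (c : Nat → Nat → Nat) (i : Nat) : WG c i [] = [i] := rfl
theorem WG_cons (c : Nat → Nat → Nat) (i : Nat) (g : Nat) (gs : List Nat) :
    WG c i (g :: gs) = WG c i gs ++ (WG c i gs).map (c g) := rfl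

set_option maxHeartbeats 100000 in
theorem W_map_gen (e : Perm (Fin 8) → Nat) (c : Nat → Nat → Nat) (i : Nat) (he1 : e 1 = i)
    (hem : ∀ g h, e (g * h) = c (e g) (e h)) (gs : List (Perm (Fin 8))) :
    (W gs).map e = WG c i (gs.map e) := by
  induction gs with
  | nil =>
    rw [W_nil, List.map_nil, WG_nil, List.map_cons, List.map_nil, he1]
  | cons g gs ih =>
    rw [W_cons, List.map_cons, WG_cons, List.map_append, ih, List.map_map, ← ih, List.map_map]
    congr 1
    apply List.map_congr_left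
    intro x _
    simp only [Function.comp_apply]
    exact hem g x

set_option maxHeartbeats 100000 in
theorem WG_eq (gs : List Nat) : WG comp idC gs = WC gs := by
  induction gs with
  | nil => rw [WG_nil, WC_nil]
  | cons g gs ih => rw [WG_cons, WC_cons, ih]

set_option maxHeartbeats 100000 in
theorem W_map (gs : List (Perm (Fin 8))) : (W gs).map ep = WC (gs.map ep) := by
  rw [W_map_gen ep comp idC ep_one ep_mul gs, WG_eq]

theorem gens_map : gens.map ep = genC := by decide +kernel

theorem LP_map : LP.map ep = LC := by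
  rw [LP, W_map, gens_map, LC_eq]

theorem elemC_iff (x : Nat) (l : List Nat) : elemC x l = true ↔ x ∈ l := by
  induction l with
  | nil => simp [elemC]
  | cons y l ih =>
    simp only [elemC, Bool.or_eq_true, List.mem_cons, ih, Nat.beq_eq]

theorem mem_LP_iff (g : Perm (Fin 8)) : g ∈ LP ↔ ep g ∈ LC := by
  rw [← LP_map]
  constructor
  · exact fun h => List.mem_map_of_mem h
  · intro h
    obtain ⟨u, hu, e⟩ := List.mem_map.1 h
    rwa [← ep_inj e]

theorem mem_gens_ep {g : Perm (Fin 8)} (h : g ∈ gens) : ep g ∈ genC := by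
  rw [← gens_map]; exact List.mem_map_of_mem h

theorem gens_mul : ∀ g ∈ gens, ∀ u ∈ LP, g * u ∈ LP := by
  intro g hg u hu
  have h1 := List.all_eq_true.1 gens_mul_check (ep g) (mem_gens_ep hg)
  have h2 := List.all_eq_true.1 h1 (ep u) ((mem_LP_iff u).1 hu)
  rw [mem_LP_iff, ep_mul]
  exact (elemC_iff _ _).1 h2

theorem W_mul (gs : List (Perm (Fin 8))) (hgs : ∀ g ∈ gs, g ∈ gens) :
    ∀ t ∈ W gs, ∀ u ∈ LP, t * u ∈ LP := by
  induction gs with
  | nil =>
    intro t ht u hu
    simp only [W, List.mem_singleton] at ht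
    subst ht
    simpa using hu
  | cons g gs ih =>
    have ih' := ih fun x hx => hgs x (List.mem_cons_of_mem _ hx)
    intro t ht u hu
    simp only [W, List.mem_append, List.mem_map] at ht
    rcases ht with ht | ⟨t', ht', rfl⟩
    · exact ih' t ht u hu
    · rw [mul_assoc]
      exact gens_mul g (hgs g List.mem_cons_self) _ (ih' t' ht' u hu)

theorem one_mem_LP : (1 : Perm (Fin 8)) ∈ LP := by
  rw [mem_LP_iff, ep_one]
  decide +kernel

/-- The Sylow 2-subgroup, as a submonoid first. -/
def P0M : Submonoid (Perm (Fin 8)) where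
  carrier := {g | g ∈ LP}
  mul_mem' := fun {a b} ha hb => W_mul gens (fun _ h => h) a ha b hb
  one_mem' := one_mem_LP

/-- The Sylow 2-subgroup of the alternating group of `Fin 8`. -/
def P0 : Subgroup (Perm (Fin 8)) where
  toSubmonoid := P0M
  inv_mem' := fun {a} ha => by
    have h1 : a⁻¹ = a ^ (orderOf a - 1) := by
      apply inv_eq_of_mul_eq_one_right
      rw [← pow_succ']
      have : orderOf a - 1 + 1 = orderOf a := Nat.sub_add_cancel (orderOf_pos a)
      rw [this, pow_orderOf_eq_one]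
    rw [h1]
    exact pow_mem (S := P0M) ha _

theorem mem_P0 {g : Perm (Fin 8)} : g ∈ P0 ↔ g ∈ LP := Iff.rfl

theorem W_sign (gs : List (Perm (Fin 8))) (hgs : ∀ g ∈ gs, sign g = 1) : ∀ t ∈ W gs, sign t = 1 := by
  induction gs with
  | nil =>
    intro t ht
    simp only [W, List.mem_singleton] at ht
    subst ht
    simp
  | cons g gs ih =>
    have ih' := ih fun x hx => hgs x (List.mem_cons_of_mem _ hx)
    intro t ht
    simp only [W, List.mem_append, List.mem_map] at ht
    rcases ht with ht | ⟨t', ht', rfl⟩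
    · exact ih' t ht
    · rw [Perm.sign_mul, hgs g List.mem_cons_self, ih' t' ht', one_mul]

theorem gens_sign : ∀ g ∈ gens, sign g = 1 := by
  intro g hg
  simp only [gens, List.mem_cons, List.mem_nil_iff, or_false] at hg
  rcases hg with rfl | rfl | rfl | rfl | rfl | rfl <;> simp [Perm.sign_mul, sign_swap']

theorem P0_le : P0 ≤ alternatingGroup (Fin 8) := by
  intro g hg
  exact Equiv.Perm.mem_alternatingGroup.2 (W_sign gens gens_sign g hg)

theorem LP_nodup : LP.Nodup := by
  have := LC_nodup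
  rw [← LP_map] at this
  exact List.Nodup.of_map _ this

theorem LP_length : LP.length = 64 := by
  have h := congrArg List.length LP_map
  rw [List.length_map] at h
  rw [h]
  rfl

theorem card_P0 : Nat.card P0 = 64 := by
  classical
  have h1 : Nat.card P0 = Nat.card {g // g ∈ LP} := rfl
  rw [h1, Nat.card_eq_fintype_card, ← LP_length, ← List.toFinset_card_of_nodup LP_nodup]
  simp only [← List.mem_toFinset]
  exact Fintype.card_coe _


theorem ap_zC : ∀ x : Fin 8, ap zC x.val = (zP x).val := by decide +kernel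

theorem z_mem : zP ∈ P0 := by
  rw [mem_P0, mem_LP_iff]
  decide +kernel

theorem z_ne_one : zP ≠ 1 := by decide +kernel

theorem z_center' {s : Perm (Fin 8)} (hs : s ∈ P0) : s * zP = zP * s := by
  have h1 := List.all_eq_true.1 z_center_check (ep s) ((mem_LP_iff s).1 hs)
  have h2 : Nat.beq (comp (ep s) zC) (comp zC (ep s)) = true := h1
  rw [Nat.beq_eq] at h2
  apply ep_inj
  rw [ep_mul, ep_mul]
  exact h2

theorem center_eq {t : Perm (Fin 8)} (ht : t ∈ P0) (hc : ∀ s ∈ gens, t * s = s * t) : t = 1 ∨ t = zP := by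
  have h1 := List.all_eq_true.1 center_check (ep t) ((mem_LP_iff t).1 ht)
  have h2 : (genC.all fun s => Nat.beq (comp (ep t) s) (comp s (ep t))) = true := by
    rw [List.all_eq_true]
    intro s hs
    rw [← gens_map] at hs
    obtain ⟨s', hs', rfl⟩ := List.mem_map.1 hs
    rw [Nat.beq_eq, ← ep_mul, ← ep_mul, hc s' hs']
  simp only [h2, Bool.not_true, Bool.false_or, Bool.or_eq_true, Nat.beq_eq] at h1
  rcases h1 with h1 | h1
  · left
    apply ep_inj
    rw [h1, ep_one]
  · right
    apply ep_inj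
    rw [h1]
    decide +kernel

theorem enc_tup (g : Perm (Fin 8)) (h : g * zP = zP * g) :
    ep g = tupC (g 0).val (g 2).val (g 4).val (g 6).val := by
  have hz : ∀ x, g (zP x) = zP (g x) := fun x => congrArg (fun e : Perm (Fin 8) => e x) h
  have h1 : g 1 = zP (g 0) := hz 0
  have h3 : g 3 = zP (g 2) := hz 2
  have h5 : g 5 = zP (g 4) := hz 4
  have h7 : g 7 = zP (g 6) := hz 6
  show (g 0).val + (g 1).val * 8 + (g 2).val * 64 + (g 3).val * 512 + (g 4).val * 4096
      + (g 5).val * 32768 + (g 6).val * 262144 + (g 7).val * 2097152 =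
    (g 0).val + ap zC (g 0).val * 8 + (g 2).val * 64 + ap zC (g 2).val * 512 + (g 4).val * 4096
      + ap zC (g 4).val * 32768 + (g 6).val * 262144 + ap zC (g 6).val * 2097152
  rw [ap_zC, ap_zC, ap_zC, ap_zC, h1, h3, h5, h7]

theorem inj_check (g : Perm (Fin 8)) : injC (ep g) = true := by
  rw [injC, List.all_eq_true]
  intro i hi
  rw [List.all_eq_true]
  intro j hj
  have hi' : i < 8 := List.mem_range.1 hi
  have hj' : j < i := List.mem_range.1 hj
  have e1 := ap_enc (⇑g) ⟨i, hi'⟩
  have e2 := ap_enc (⇑g) ⟨j, by omega⟩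
  simp only at e1 e2
  rw [Bool.not_eq_true', ← Bool.not_eq_true, Nat.beq_eq]
  intro e
  rw [e1, e2] at e
  have := g.injective (Fin.ext e)
  simp only [Fin.mk.injEq] at this
  omega

theorem gens_le {s : Perm (Fin 8)} (hs : s ∈ gens) : s ∈ P0 := by
  have := gens_mul s hs 1 one_mem_LP
  rwa [mul_one] at this

theorem ep_tau : ep (swap 0 1) = tauC := by decide +kernel

/-- The normalizer of `P0` in the alternating group is `P0`. -/
theorem norm_mem {g : Perm (Fin 8)} (hg : g ∈ normalizer (P0 : Set (Perm (Fin 8)))) (he : sign g = 1) : g ∈ P0 := by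
  rw [Subgroup.mem_normalizer_iff] at hg
  have hconj : ∀ s ∈ P0, g * s * g⁻¹ ∈ P0 := fun s hs => (hg s).1 hs
  have hconj' : ∀ s ∈ P0, g⁻¹ * s * g ∈ P0 := fun s hs => by
    apply (hg _).2
    simpa [mul_assoc] using hs
  -- `g` commutes with `zP`
  have hz : g * zP = zP * g := by
    have h1 : g * zP * g⁻¹ ∈ P0 := hconj _ z_mem
    have h2 : ∀ s ∈ gens, (g * zP * g⁻¹) * s = s * (g * zP * g⁻¹) := by
      intro s hs
      have h3 := z_center' (hconj' s (gens_le hs))
      calc (g * zP * g⁻¹) * s = g * (zP * (g⁻¹ * s * g)) * g⁻¹ := by simp [mul_assoc]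
        _ = g * ((g⁻¹ * s * g) * zP) * g⁻¹ := by rw [h3]
        _ = s * (g * zP * g⁻¹) := by simp [mul_assoc]
    rcases center_eq h1 h2 with h3 | h3
    · exfalso
      apply z_ne_one
      have h4 : g * zP = g := by
        rw [mul_inv_eq_one] at h3
        exact h3
      simpa using h4
    · rw [mul_inv_eq_iff_eq_mul] at h3
      exact h3
  have h1 := List.all_eq_true.1 tup_check (g 0).val (List.mem_range.2 (g 0).isLt)
  have h2 := List.all_eq_true.1 h1 (g 2).val (List.mem_range.2 (g 2).isLt)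
  have h3 := List.all_eq_true.1 h2 (g 4).val (List.mem_range.2 (g 4).isLt)
  have h4 := List.all_eq_true.1 h3 (g 6).val (List.mem_range.2 (g 6).isLt)
  rw [← enc_tup g hz] at h4
  have h5 : (genC.all fun s => LC.any fun t => Nat.beq (comp (ep g) s) (comp t (ep g))) = true := by
    rw [List.all_eq_true]
    intro s hs
    rw [← gens_map] at hs
    obtain ⟨s', hs', rfl⟩ := List.mem_map.1 hs
    rw [List.any_eq_true]
    refine ⟨ep (g * s' * g⁻¹), (mem_LP_iff _).1 (hconj s' (gens_le hs')), ?_⟩
    rw [Nat.beq_eq, ← ep_mul, ← ep_mul]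
    simp
  rw [tupOK, inj_check, h5] at h4
  simp only [Bool.not_true, Bool.false_or, Bool.or_eq_true] at h4
  rcases h4 with h4 | h4
  · exact (mem_LP_iff g).2 ((elemC_iff _ _).1 h4)
  · exfalso
    have h6 : swap 0 1 * g ∈ P0 := by
      rw [mem_P0, mem_LP_iff, ep_mul, ep_tau]
      exact (elemC_iff _ _).1 h4
    have h7 := mem_alternatingGroup.1 (P0_le h6)
    rw [Perm.sign_mul, he, mul_one, sign_swap (by decide)] at h7
    exact absurd h7 (by decide)

theorem card_A8 : Nat.card (alternatingGroup (Fin 8)) = 20160 := by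
  have h := two_mul_nat_card_alternatingGroup (α := Fin 8)
  rw [Nat.card_eq_fintype_card (α := Perm (Fin 8)), Fintype.card_perm, Fintype.card_fin] at h
  have h2 : Nat.factorial 8 = 40320 := rfl
  omega

theorem isSylowIn_of_card {Q : Subgroup (Perm (Fin 8))} (hle : Q ≤ alternatingGroup (Fin 8)) (hc : Nat.card Q = 64) :
    FF.IsSylowIn 2 Q (alternatingGroup (Fin 8)) := by
  refine ⟨hle, IsPGroup.of_card (n := 6) (by rw [hc]; norm_num), ?_⟩
  have h1 : Q.relIndex (alternatingGroup (Fin 8)) * Nat.card Q = Nat.card (alternatingGroup (Fin 8)) := by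
    rw [Subgroup.relIndex, mul_comm, ← Subgroup.card_mul_index (Q.subgroupOf (alternatingGroup (Fin 8)))]
    congr 1
    exact (Nat.card_congr (Subgroup.subgroupOfEquivOfLe hle).toEquiv).symm
  rw [hc, card_A8] at h1
  have h2 : Q.relIndex (alternatingGroup (Fin 8)) = 315 := by omega
  rw [h2]
  decide

/-- Self-normalizing property of subgroups of order 64 of an alternating group of degree 8. -/
theorem main_A8 {X : Type*} [Fintype X] [DecidableEq X] (hX : Fintype.card X = 8) (P : Subgroup (Perm X))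
    (hP : P ≤ alternatingGroup X) (hc : Nat.card P = 64) {g : Perm X} (hg : g ∈ alternatingGroup X)
    (hn : g ∈ normalizer (P : Set (Perm X))) : g ∈ P := by
  haveI : Fact (Nat.Prime 2) := ⟨Nat.prime_two⟩
  let e : X ≃ Fin 8 := Fintype.equivFinOfCardEq hX
  let φ : Perm X ≃* Perm (Fin 8) := e.permCongrHom
  have hsign : ∀ x, sign (φ x) = sign x := fun x => sign_permCongr e x
  have hP'le : P.map φ.toMonoidHom ≤ alternatingGroup (Fin 8) := by
    rintro _ ⟨x, hx, rfl⟩
    rw [mem_alternatingGroup]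
    exact (hsign x).trans (mem_alternatingGroup.1 (hP hx))
  have hcard' : Nat.card (P.map φ.toMonoidHom) = 64 := by
    rw [Subgroup.card_map_of_injective φ.injective]; exact hc
  obtain ⟨l, hl, e'⟩ := FF.IsSylowIn.exists_conj (isSylowIn_of_card hP'le hcard') (isSylowIn_of_card P0_le card_P0)
  let ψ : Perm X ≃* Perm (Fin 8) := φ.trans (MulAut.conj l)
  have hψ : P.map ψ.toMonoidHom = P0 := by
    rw [← e', Subgroup.map_map]
    rfl
  have h1 : ψ g ∈ normalizer (P0 : Set (Perm (Fin 8))) := by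
    rw [← hψ, ← Subgroup.map_equiv_normalizer_eq]
    exact ⟨g, hn, rfl⟩
  have h2 : sign (ψ g) = 1 := by
    show sign (l * φ g * l⁻¹) = 1
    rw [map_mul, map_mul, map_inv, hsign, mem_alternatingGroup.1 hg, mul_one, mul_inv_cancel]
  have h3 := norm_mem h1 h2
  rw [← hψ] at h3
  obtain ⟨x, hx, hxe⟩ := h3
  have : x = g := ψ.injective hxe
  rwa [← this]

end Cfsg.Agent.Lib.Amalgam.A8Sylow
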