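import Cfsg.Agent.Lib.Amalgam.Asym
import Cfsg.Agent.Lib.Transfer.Basic
import Cfsg.Agent.Lib.Transfer.Frat

/-!
# Asymmetric `Y_M`: overgroups of `O_p(M)`
-/

set_option autoImplicit false

namespace Cfsg.Agent.Lib.Amalgam

open Cfsg
open scoped commutatorElement

variable {G : Type*} [Group G] [Finite G] {p : ℕ} [hp : Fact p.Prime]

/-- If all `p'`-elements are central modulo a normal `p`-subgroup, then the group is `p`-closed. -/
theorem sylow_normal_of_central_mod {D : Type*} [Group D] [Finite D] (O : Subgroup D) [hO : O.Normal]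
    (hOp : IsPGroup p O) (h : ∀ x : D, (orderOf x).Coprime p → ∀ d : D, ⁅x, d⁆ ∈ O) (T : Sylow p D) :
    (T : Subgroup D).Normal := by
  have hOT : O ≤ (T : Subgroup D) := (Cfsg.Agent.Lib.Core.le_pCore hO hOp).trans (Cfsg.Agent.Lib.Core.pCore_le_sylow T)
  have hK : pResidual p D ≤ Subgroup.normalizer ((T : Subgroup D) : Set D) := by
    rw [pResidual, Subgroup.closure_le]
    intro x hx
    apply Cfsg.Agent.Lib.Hall.mem_normalizer_of_conj_le
    intro t ht
    have : x * t * x⁻¹ = ⁅x, t⁆ * t := by rw [commutatorElement_def]; group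
    rw [this]
    exact Subgroup.mul_mem _ (hOT (h x hx t)) ht
  have htop : Subgroup.normalizer ((T : Subgroup D) : Set D) = ⊤ := by
    rw [eq_top_iff, ← Cfsg.Agent.Lib.Transfer.sup_pResidual_sylow T]
    exact sup_le hK Subgroup.le_normalizer
  exact Subgroup.normalizer_eq_top_iff.mp htop

/-- The subgroup version. -/
theorem le_pCoreOf_of_central_mod {L D Y : Subgroup G} (hDL : D ≤ L)
    (hLD : L ≤ Subgroup.normalizer (D : Set G)) (hYD : Y ≤ D) (hY : IsPGroup p Y)
    (h : ∀ x ∈ D, (orderOf x).Coprime p → ∀ d ∈ D, ⁅x, d⁆ ∈ pCoreOf p L) : Y ≤ pCoreOf p L := by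
  haveI hOn : ((pCoreOf p L).subgroupOf D).Normal :=
    subgroupOf_normal_of_le_normalizer (hDL.trans (le_normalizer_pCoreOf L))
  have hOp : IsPGroup p ((pCoreOf p L).subgroupOf D) :=
    (pCoreOf_isPGroup L).comap_of_injective D.subtype D.subtype_injective
  have hYp : IsPGroup p (Y.subgroupOf D) := hY.comap_of_injective _ D.subtype_injective
  obtain ⟨T, hT⟩ := hYp.exists_le_sylow
  have hTn : (T : Subgroup D).Normal := sylow_normal_of_central_mod _ hOp (by
    intro x hx d
    rw [Subgroup.mem_subgroupOf]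
    exact h x x.2 (by rwa [Subgroup.orderOf_coe]) d d.2) T
  haveI hchar : (T : Subgroup D).Characteristic := Sylow.characteristic_of_normal T hTn
  have hR : (T : Subgroup D).map D.subtype ≤ pCoreOf p L :=
    le_pCoreOf_of_normal (T.isPGroup'.map _) ((Subgroup.map_subtype_le _).trans hDL)
      (hLD.trans (Cfsg.Agent.Lib.Hall.normalizer_le_normalizer_map_of_characteristic D T))
  intro y hy
  exact hR ⟨⟨y, hYD hy⟩, hT hy, rfl⟩

theorem le_normalizer_commStab {L E D : Subgroup G} (hE : L ≤ Subgroup.normalizer (E : Set G))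
    (hD : L ≤ Subgroup.normalizer (D : Set G)) : L ≤ Subgroup.normalizer ((commStab E D : Subgroup G) : Set G) := by
  intro l hl
  apply Cfsg.Agent.Lib.Hall.mem_normalizer_of_conj_le
  rintro g ⟨hg, hg'⟩
  refine ⟨Subgroup.mul_mem _ (Subgroup.mul_mem _ (hD hl) hg) (Subgroup.inv_mem _ (hD hl)), fun e he => ?_⟩
  have e1 : ⁅e, l * g * l⁻¹⁆ = l * ⁅l⁻¹ * e * l, g⁆ * l⁻¹ := by
    simp only [commutatorElement_def]; group
  rw [e1]
  refine (Subgroup.mem_normalizer_iff.mp (hD hl) _).mp (hg' _ ?_)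
  have := (Subgroup.mem_normalizer_iff.mp (Subgroup.inv_mem _ (hE hl)) e).mp he
  simpa using this

/-- A `p'`-element acting trivially on `A / A'` acts trivially. -/
theorem centralizes_of_commStab {A : Subgroup G} (hAp : IsPGroup p A) {x : G} (hx : (orderOf x).Coprime p)
    (hxA : x ∈ Subgroup.normalizer (A : Set G)) (hxS : x ∈ commStab A ⁅A, A⁆) :
    x ∈ Subgroup.centralizer (A : Set G) := by
  have hZ : Subgroup.zpowers x ≤ Subgroup.normalizer (A : Set G) := by
    rw [Subgroup.zpowers_le]; exact hxA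
  have hZS : Subgroup.zpowers x ≤ commStab A ⁅A, A⁆ := by
    rw [Subgroup.zpowers_le]; exact hxS
  have hcop : (Nat.card (Subgroup.zpowers x)).Coprime (Nat.card (frattini A)) := by
    rw [Nat.card_zpowers]
    obtain ⟨n, hn⟩ := IsPGroup.iff_card.mp (hAp.to_subgroup (frattini A))
    rw [hn]
    exact Nat.Coprime.pow_right n hx
  have htriv : ∀ a ∈ Subgroup.zpowers x, ∀ k ∈ A, a * k * a⁻¹ * k⁻¹ ∈ (frattini A).map A.subtype := by
    intro a ha k hk
    have h1 := (hZS ha).2 k hk
    have h2 : ⁅A, A⁆ ≤ (frattini A).map A.subtype := by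
      rw [← Subgroup.map_subtype_commutator]
      exact Subgroup.map_mono (Cfsg.Agent.Lib.Transfer.commutator_le_frattini hAp)
    have h3 : a * k * a⁻¹ * k⁻¹ = ⁅k, a⁆⁻¹ := by
      simp only [commutatorElement_def]; group
    rw [h3]
    exact Subgroup.inv_mem _ (h2 h1)
  have := Cfsg.Agent.Lib.Hall.le_centralizer_of_frattini (Subgroup.zpowers x) A hZ hcop htriv
  exact this (Subgroup.mem_zpowers x)

/-- A criterion for `Y ≤ O_p(L)`. -/
theorem le_pCoreOf_of_acts {L A Y : Subgroup G} (hAp : IsPGroup p A)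
    (hLA : L ≤ Subgroup.normalizer (A : Set G)) (hYL : Y ≤ L) (hYp : IsPGroup p Y)
    (h1 : ⁅Y, A⁆ ≤ ⁅A, A⁆) (h2 : ⁅Y, L ⊓ Subgroup.centralizer (A : Set G)⁆ ≤ pCoreOf p L) :
    Y ≤ pCoreOf p L := by
  set O := pCoreOf p L with hO
  set C := L ⊓ Subgroup.centralizer (A : Set G) with hC
  have hLO : L ≤ Subgroup.normalizer (O : Set G) := le_normalizer_pCoreOf L
  have hLC : L ≤ Subgroup.normalizer (C : Set G) :=
    le_normalizer_inf Subgroup.le_normalizer (hLA.trans (normalizer_le_normalizer_centralizer A))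
  have hLA' : L ≤ Subgroup.normalizer ((⁅A, A⁆ : Subgroup G) : Set G) := le_normalizer_commutator hLA hLA
  apply le_pCoreOf_of_central_mod (D := L ⊓ (commStab A ⁅A, A⁆ ⊓ commStab C O)) inf_le_left
    (le_normalizer_inf Subgroup.le_normalizer (le_normalizer_inf (le_normalizer_commStab hLA hLA')
      (le_normalizer_commStab hLC hLO))) _ hYp
  · rintro x ⟨hxL, hx1, hx2⟩ hx d ⟨-, -, hd⟩
    have hxC : x ∈ Subgroup.centralizer (A : Set G) := centralizes_of_commStab hAp hx (hLA hxL) hx1
    exact hd.2 x ⟨hxL, hxC⟩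
  · intro y hy
    refine ⟨hYL hy, ⟨hLA' (hYL hy), fun a ha => ?_⟩, ⟨hLO (hYL hy), fun c hc => ?_⟩⟩
    · rw [← commutatorElement_inv]
      exact Subgroup.inv_mem _ (h1 (Subgroup.commutator_mem_commutator hy ha))
    · rw [← commutatorElement_inv]
      exact Subgroup.inv_mem _ (h2 (Subgroup.commutator_mem_commutator hy hc))

theorem map_conj_pCoreOf (L : Subgroup G) (c : G) :
    (pCoreOf p L).map (MulAut.conj c).toMonoidHom = pCoreOf p (L.map (MulAut.conj c).toMonoidHom) := by
  have key : ∀ (L : Subgroup G) (c : G), (pCoreOf p L).map (MulAut.conj c).toMonoidHom ≤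
      pCoreOf p (L.map (MulAut.conj c).toMonoidHom) := by
    intro L c
    refine le_pCoreOf_of_normal ((pCoreOf_isPGroup L).map _) (map_conj_mono c (pCoreOf_le_self L)) ?_
    have := map_conj_mono c (le_normalizer_pCoreOf (p := p) L)
    rwa [map_conj_normalizer] at this
  apply le_antisymm (key L c)
  have h1 := key (L.map (MulAut.conj c).toMonoidHom) c⁻¹
  rw [map_conj_inv] at h1
  have h2 := map_conj_mono c h1
  rwa [map_conj_inv'] at h2

theorem char_iff (L : Subgroup G) :
    Subgroup.centralizer (pCore p ↥L : Set ↥L) ≤ pCore p ↥L ↔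
      L ⊓ Subgroup.centralizer (pCoreOf p L : Set G) ≤ pCoreOf p L := by
  constructor
  · rintro h x ⟨hxL, hx⟩
    exact ⟨⟨x, hxL⟩, h ((mem_centralizer_subtype_iff L _ _).2 hx), rfl⟩
  · intro h x hx
    obtain ⟨y, hy, hyx⟩ := h ⟨x.2, (mem_centralizer_subtype_iff L _ _).1 hx⟩
    have : y = x := Subtype.ext hyx
    rwa [← this]

theorem char_conj {L : Subgroup G} (c : G)
    (h : Subgroup.centralizer (pCore p ↥L : Set ↥L) ≤ pCore p ↥L) :
    Subgroup.centralizer (pCore p ↥(L.map (MulAut.conj c).toMonoidHom) : Set ↥(L.map (MulAut.conj c).toMonoidHom)) ≤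
      pCore p ↥(L.map (MulAut.conj c).toMonoidHom) := by
  rw [char_iff] at h ⊢
  have h1 := map_conj_mono c h
  rwa [map_conj_inf, map_conj_centralizer, map_conj_pCoreOf] at h1

/-- Overgroups of a self-centralizing `p`-group normalized by `O_p(L)` inside a group of characteristic `p`
have characteristic `p`. -/
theorem char_of_overgroup {L X T : Subgroup G} (hXL : X ≤ L)
    (hL : Subgroup.centralizer (pCore p ↥L : Set ↥L) ≤ pCore p ↥L) (hTX : T ≤ X) (hT : IsPGroup p T)
    (hCT : Subgroup.centralizer (T : Set G) ≤ T)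
    (hVT : pCoreOf p L ≤ Subgroup.normalizer (T : Set G)) :
    Subgroup.centralizer (pCore p ↥X : Set ↥X) ≤ pCore p ↥X := by
  rw [char_iff] at hL ⊢
  set O := pCoreOf p X with hO
  set V := pCoreOf p L with hV
  set K := X ⊓ Subgroup.centralizer (O : Set G) with hK
  have hVp : IsPGroup p V := pCoreOf_isPGroup L
  have hOp : IsPGroup p O := pCoreOf_isPGroup X
  have hXO : X ≤ Subgroup.normalizer (O : Set G) := le_normalizer_pCoreOf X
  have hXV : X ≤ Subgroup.normalizer (V : Set G) := hXL.trans (le_normalizer_pCoreOf L)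
  have hXK : X ≤ Subgroup.normalizer (K : Set G) :=
    le_normalizer_inf Subgroup.le_normalizer (hXO.trans (normalizer_le_normalizer_centralizer O))
  set D := V ⊓ Subgroup.centralizer (K : Set G) with hD
  have hXD : X ≤ Subgroup.normalizer (D : Set G) :=
    le_normalizer_inf hXV (hXK.trans (normalizer_le_normalizer_centralizer K))
  have hKX : K ≤ X := inf_le_left
  have hKc : ∀ k o : G, k ∈ K → o ∈ O → o * k = k * o := fun _ o hk ho =>
    Subgroup.mem_centralizer_iff.mp hk.2 o ho
  -- the kernel on `V / D`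
  set K₂ := K ⊓ commStab V D with hK₂
  have hK₂p : IsPGroup p K₂ := by
    apply isPGroup_of_coprime_trivial
    rintro t ⟨htK, htS⟩ ht
    have htV : t ∈ Subgroup.centralizer (V : Set G) := by
      rw [Subgroup.mem_centralizer_iff]
      intro v hv
      have h1 : ⁅v, t⁆ ∈ D := htS.2 v hv
      have h2 : ⁅t, v⁆ ∈ D := by
        rw [← commutatorElement_inv]
        exact Subgroup.inv_mem _ h1
      have h3 := (Subgroup.mem_centralizer_iff.mp h2.2 t htK).symm
      have h4 := commute_of_quadratic' hVp ht hv h3 (hXV (hKX htK))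
      exact h4.symm
    have h1 : t ∈ V := hL ⟨hXL (hKX htK), htV⟩
    exact eq_one_of_mem_isPGroup hVp h1 ht
  have hK₂O : K₂ ≤ O := by
    refine le_pCoreOf_of_normal hK₂p (inf_le_left.trans hKX) ?_
    exact le_normalizer_inf hXK (le_normalizer_commStab hXV hXD)
  -- `[V, T] ≤ D`
  have hVTc : ⁅V, T⁆ ≤ D := by
    have h1 : ⁅V, T⁆ ≤ V ⊓ T := commutator_le_inf_of_mutual hVT (hTX.trans hXV)
    refine h1.trans (le_inf inf_le_left ?_)
    have h2 : V ⊓ T ≤ O := by
      have h3 : V ⊓ X ≤ O := le_pCoreOf_of_normal (hVp.to_le inf_le_left) inf_le_right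
        (le_normalizer_inf hXV Subgroup.le_normalizer)
      exact (inf_le_inf_left V hTX).trans h3
    rw [Subgroup.le_centralizer_iff]
    intro k hk
    rw [Subgroup.mem_centralizer_iff]
    intro o ho
    exact hKc _ _ hk (h2 ho)
  have hcc := commutator_commutator_le (E := V) (D := D) (R := K) (U := T) (hKX.trans hXD)
    (hTX.trans hXD) (hKX.trans hXV) hVTc
  have hcK₂ : ∀ r ∈ K, ∀ t ∈ T, ⁅r, t⁆ ∈ K₂ := by
    intro r hr t ht
    have h1 : ⁅r, t⁆ ∈ K := by
      have e : ⁅r, t⁆ = r * (t * r⁻¹ * t⁻¹) := by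
        simp only [commutatorElement_def]; group
      rw [e]
      exact Subgroup.mul_mem _ hr ((Subgroup.mem_normalizer_iff.mp (hXK (hTX ht)) _).mp (Subgroup.inv_mem _ hr))
    refine ⟨h1, hXD (hKX h1), fun v hv => ?_⟩
    exact hcc (Subgroup.commutator_mem_commutator hv (Subgroup.commutator_mem_commutator hr ht))
  have hKp : IsPGroup p K := by
    apply isPGroup_of_coprime_trivial
    intro r hr hrc
    have hAp : IsPGroup p ↥(O ⊔ T) := IsPGroup.to_sup_of_normal_left' hOp hT (hTX.trans hXO)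
    have hrA : r ∈ Subgroup.normalizer ((O ⊔ T : Subgroup G) : Set G) := by
      apply Cfsg.Agent.Lib.Hall.mem_normalizer_of_conj_le
      intro a ha
      have h1 : (O ⊔ T).map (MulAut.conj r).toMonoidHom ≤ O ⊔ T := by
        rw [Subgroup.map_sup]
        refine sup_le ?_ ?_
        · rw [map_conj_eq_of_mem_normalizer (hXO (hKX hr))]
          exact le_sup_left
        · rintro _ ⟨t, ht, rfl⟩
          have : (MulAut.conj r).toMonoidHom t = ⁅r, t⁆ * t := by
            simp only [MulEquiv.coe_toMonoidHom, MulAut.conj_apply, commutatorElement_def]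
            group
          rw [this]
          exact Subgroup.mul_mem _ (Subgroup.mem_sup_left (hK₂O (hcK₂ r hr t ht)))
            (Subgroup.mem_sup_right ht)
      exact h1 ⟨a, ha, rfl⟩
    have hrT : r ∈ Subgroup.centralizer (T : Set G) := by
      rw [Subgroup.mem_centralizer_iff]
      intro t ht
      have h1 := hK₂O (hcK₂ r hr t ht)
      have h2 := (hKc _ _ hr h1)
      exact (commute_of_quadratic' hAp hrc (Subgroup.mem_sup_right ht) h2 hrA).symm
    exact eq_one_of_mem_isPGroup hT (hCT hrT) hrc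
  exact le_pCoreOf_of_normal hKp hKX hXK

end Cfsg.Agent.Lib.Amalgam
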