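import Mathlib
import Cfsg.Agent.Lib.Cl.Extraspecial

/-!
# Counting elements of order four in an extraspecial 2-group of plus type
-/

set_option autoImplicit false

namespace Cfsg.Agent.Lib.Amalgam

open Cfsg Subgroup Cfsg.Agent.Lib.Cl
open scoped commutatorElement

variable {E : Type*} [Group E] [Finite E]

theorem exists_extraFacts (hE : IsExtraspecial 2 E) : ∃ z : E, ExtraFacts (⊤ : Subgroup E) z := by
  obtain ⟨⟨hp, hfr, hcomQ⟩, hcard⟩ := hE
  obtain ⟨y, hy1, hy⟩ := (Nat.card_eq_two_iff' (1 : center E)).mp hcard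
  have hy1' : (y : E) ≠ 1 := fun h => hy1 (Subtype.ext h)
  have hcent : center E = zpowers (y : E) := by
    apply le_antisymm
    · intro c hc
      by_cases hc1 : (⟨c, hc⟩ : center E) = 1
      · have : c = 1 := congrArg Subtype.val hc1
        rw [this]; exact one_mem _
      · have := hy _ hc1
        have h2 : c = y := by
          conv_rhs => rw [← this]
        rw [h2]; exact mem_zpowers _
    · rw [Subgroup.zpowers_le]; exact y.2
  have hord : orderOf (y : E) = 2 := by
    have h1 : Nat.card (zpowers (y : E)) = 2 := by rw [← hcent]; exact hcard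
    rwa [Nat.card_zpowers] at h1
  refine ⟨y, hord, mem_top _, ?_, ?_, ?_⟩
  · rw [← hcent]
    apply le_antisymm
    · intro c hc
      rw [Subgroup.mem_center_iff]
      intro g
      exact (Subgroup.mem_centralizer_iff.mp hc.2 g (mem_top _))
    · intro c hc
      refine ⟨mem_top _, Subgroup.mem_centralizer_iff.mpr ?_⟩
      intro g _
      exact Subgroup.mem_center_iff.mp hc g
  · intro a _ b _
    rw [← hcent, ← hcomQ]
    exact Subgroup.commutator_mem_commutator (mem_top _) (mem_top _)
  · intro a _
    rw [← hcent, ← hfr, ← pow_two]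
    exact sq_mem_frattini_two hp a

namespace ExtraCount

variable {z : E} (h : ExtraFacts (⊤ : Subgroup E) z) {A : Subgroup E}
  (hAc : ∀ a ∈ A, ∀ b ∈ A, a * b = b * a) (hA2 : ∀ a ∈ A, a ^ 2 = 1)
include h

theorem sq_eq (x : E) : x * x = 1 ∨ x * x = z := h.eq_one_or (h.hsq x (mem_top _))

theorem sq_comm {x b : E} (hb : b * b = 1) :
    (x * b) * (x * b) = ⁅x, b⁆ * (x * x) := by
  have hc : ⁅x, b⁆ ∈ zpowers z := h.hcom x (mem_top _) b (mem_top _)
  have hxx : (x * x) * b = b * (x * x) := (h.central (h.hsq x (mem_top _)) (mem_top b))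
  have h1 : x * b = ⁅x, b⁆ * b * x := by
    simp [commutatorElement_def, mul_assoc]
  calc (x * b) * (x * b) = ⁅x, b⁆ * b * x * (x * b) := by rw [← h1]
    _ = ⁅x, b⁆ * b * ((x * x) * b) := by group
    _ = ⁅x, b⁆ * b * (b * (x * x)) := by rw [hxx]
    _ = ⁅x, b⁆ * (b * b) * (x * x) := by group
    _ = ⁅x, b⁆ * (x * x) := by rw [hb]; group

theorem z_sq : z * z = 1 := by
  have := pow_orderOf_eq_one z
  rw [h.hz, pow_two] at this
  exact this

include hAc in
theorem zpowers_le_and_centralizer {m : ℕ} (hE : Nat.card E = 2 ^ (2 * m + 1))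
    (hAcard : Nat.card A = 2 ^ (m + 1)) :
    zpowers z ≤ A ∧ ∀ x : E, (∀ a ∈ A, x * a = a * x) → x ∈ A := by
  classical
  -- the subgroup `B = A ⊔ ⟨z⟩` is abelian and contains the centre.
  set B : Subgroup E := A ⊔ zpowers z with hB
  have hzB : zpowers z ≤ B := le_sup_right
  have hBc : ∀ a ∈ B, ∀ b ∈ B, a * b = b * a := by
    intro a ha b hb
    have hle : B ≤ centralizer (B : Set E) := by
      have h1 : A ≤ centralizer (B : Set E) := by
        intro a ha
        rw [Subgroup.mem_centralizer_iff]
        intro b hb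
        have h2 : A ≤ centralizer ({a} : Set E) := by
          intro c hc
          rw [Subgroup.mem_centralizer_iff]
          intro d hd
          rw [Set.mem_singleton_iff.mp hd]
          exact hAc a ha c hc
        have h3 : zpowers z ≤ centralizer ({a} : Set E) := by
          intro c hc
          rw [Subgroup.mem_centralizer_iff]
          intro d hd
          rw [Set.mem_singleton_iff.mp hd]
          exact (h.central hc (mem_top a)).symm
        have h4 := (sup_le h2 h3) hb
        exact (Subgroup.mem_centralizer_iff.mp h4 a rfl).symm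
      have h2 : zpowers z ≤ centralizer (B : Set E) := by
        intro c hc
        rw [Subgroup.mem_centralizer_iff]
        intro d _
        exact (h.central hc (mem_top d)).symm
      exact sup_le h1 h2
    exact (Subgroup.mem_centralizer_iff.mp (hle ha) b hb).symm
  have hdual := h.relIndex_centralizer hzB le_top
  -- `C_E(B)` has index `[B : ⟨z⟩]`
  have hC : B ≤ (⊤ : Subgroup E) ⊓ centralizer (B : Set E) := by
    intro a ha
    refine ⟨mem_top _, Subgroup.mem_centralizer_iff.mpr ?_⟩
    intro b hb
    exact hBc b hb a ha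
  have hz2 : Nat.card (zpowers z) = 2 := h.card_zpowers
  have hcardC : Nat.card (((⊤ : Subgroup E) ⊓ centralizer (B : Set E) : Subgroup E)) * (zpowers z).relIndex B
      = Nat.card E := by
    have h1 := Subgroup.card_mul_index (((⊤ : Subgroup E) ⊓ centralizer (B : Set E) : Subgroup E))
    rw [Subgroup.relIndex_top_right] at hdual
    rw [← hdual]
    exact h1
  have hBz : (zpowers z).relIndex B * 2 = Nat.card B := by
    have h1 := Subgroup.card_mul_index ((zpowers z).subgroupOf B)
    have h2 : Nat.card ((zpowers z).subgroupOf B) = 2 := by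
      rw [← hz2]
      exact Nat.card_congr (Subgroup.subgroupOfEquivOfLe hzB).toEquiv
    rw [h2] at h1
    unfold Subgroup.relIndex
    omega
  have hBleC : Nat.card B ≤ Nat.card (((⊤ : Subgroup E) ⊓ centralizer (B : Set E) : Subgroup E)) :=
    Subgroup.card_le_of_le hC
  set r := (zpowers z).relIndex B with hr
  set c := Nat.card (((⊤ : Subgroup E) ⊓ centralizer (B : Set E) : Subgroup E)) with hc
  have hrle : r ≤ 2 ^ m := by
    by_contra hlt
    push Not at hlt
    have h1 : (r * 2) * r ≤ c * r := Nat.mul_le_mul_right r (by omega)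
    rw [hcardC, hE] at h1
    have h2 : 2 ^ m + 1 ≤ r := hlt
    have h3 : (2 ^ m + 1) * (2 ^ m + 1) ≤ r * r := Nat.mul_le_mul h2 h2
    have h4 : 2 ^ (2 * m + 1) = 2 * (2 ^ m * 2 ^ m) := by ring
    rw [h4] at h1
    generalize 2 ^ m = t at h1 h3
    nlinarith
  have hAleB : A ≤ B := le_sup_left
  have hBcard : Nat.card B ≤ Nat.card A := by
    rw [hAcard, pow_succ, ← hBz]; omega
  have hAB : A = B := Subgroup.eq_of_le_of_card_ge hAleB hBcard
  have hr2 : r = 2 ^ m := by
    have h1 : Nat.card A ≤ Nat.card B := Subgroup.card_le_of_le hAleB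
    rw [hAcard, ← hBz, pow_succ] at h1
    omega
  have hcC : c = 2 ^ (m + 1) := by
    rw [hr2, hE] at hcardC
    have h1 : 2 ^ (2 * m + 1) = 2 ^ (m + 1) * 2 ^ m := by ring
    rw [h1] at hcardC
    exact Nat.eq_of_mul_eq_mul_right (by positivity) hcardC
  have hCeq : B = (⊤ : Subgroup E) ⊓ centralizer (B : Set E) := by
    apply Subgroup.eq_of_le_of_card_ge hC
    rw [← hc, hcC, ← hAcard, hAB]
  refine ⟨by rw [hAB]; exact hzB, ?_⟩
  intro x hx
  have : x ∈ (⊤ : Subgroup E) ⊓ centralizer (B : Set E) := by
    refine ⟨mem_top _, Subgroup.mem_centralizer_iff.mpr ?_⟩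
    intro b hb
    rw [← hAB] at hb
    exact (hx b hb).symm
  rw [← hCeq, ← hAB] at this
  exact this

/-- Elements of `A` have square one, so elements of order four are the `x` with `x * x = z`. -/
theorem orderOf_eq_four_iff (x : E) : orderOf x = 4 ↔ x * x = z := by
  constructor
  · intro hx
    rcases sq_eq h x with h1 | h1
    · exfalso
      have h2 : orderOf x ∣ 2 := orderOf_dvd_of_pow_eq_one (by rw [pow_two]; exact h1)
      rw [hx] at h2
      omega
    · exact h1
  · intro hx
    have hz1 : z ≠ 1 := h.z_ne_one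
    have h4 : x ^ 4 = 1 := by
      have : x ^ 4 = (x * x) * (x * x) := by simp [pow_succ, mul_assoc]
      rw [this, hx]; exact z_sq h
    have h2 : x ^ 2 ≠ 1 := by
      rw [pow_two, hx]; exact hz1
    have hp : x ^ 2 ^ 2 = 1 := by simpa using h4
    have := orderOf_eq_prime_pow (p := 2) (n := 1) (x := x) (by simpa using h2) (by simpa using h4)
    simpa using this

include hAc hA2 in
theorem card_order_four {m : ℕ} (hE : Nat.card E = 2 ^ (2 * m + 1))
    (hAcard : Nat.card A = 2 ^ (m + 1)) :
    Nat.card {x : E // orderOf x = 4} = 2 ^ (2 * m) - 2 ^ m := by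
  classical
  obtain ⟨hzA, hCA⟩ := zpowers_le_and_centralizer h hAc hE hAcard
  haveI := Fintype.ofFinite E
  -- for `x ∉ A` a witness `b ∈ A` with `[x,b] = z`
  have hwit : ∀ x : E, x ∉ A → ∃ b ∈ A, ⁅x, b⁆ = z := by
    intro x hx
    by_contra hno
    push Not at hno
    apply hx
    apply hCA
    intro a ha
    rcases h.eq_one_or (h.hcom x (mem_top _) a (mem_top _)) with h1 | h1
    · exact commutatorElement_eq_one_iff_mul_comm.mp h1
    · exact absurd h1 (hno a ha)
  -- a choice function on cosets
  let b : E → E := fun x => if hx : ((x : E ⧸ A).out) ∉ A then (hwit _ hx).choose else 1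
  have hmk : ∀ x : E, x⁻¹ * (x : E ⧸ A).out ∈ A := by
    intro x
    rw [← QuotientGroup.eq]
    exact (Quotient.out_eq' _).symm
  have hoA : ∀ x : E, x ∉ A → ((x : E ⧸ A).out) ∉ A := by
    intro x hx hin
    apply hx
    have := A.mul_mem (hmk x) (A.inv_mem hin)
    simpa using this
  have hbA : ∀ x : E, x ∉ A → b x ∈ A := by
    intro x hx
    simp only [b, dif_pos (hoA x hx)]
    exact (hwit _ (hoA x hx)).choose_spec.1
  have hbz : ∀ x : E, x ∉ A → ⁅x, b x⁆ = z := by
    intro x hx
    have h1 : ⁅(x : E ⧸ A).out, b x⁆ = z := by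
      simp only [b, dif_pos (hoA x hx)]
      exact (hwit _ (hoA x hx)).choose_spec.2
    have h2 : (x : E ⧸ A).out = x * (x⁻¹ * (x : E ⧸ A).out) := by group
    have ha : x⁻¹ * (x : E ⧸ A).out ∈ A := hmk x
    rw [h2, h.comm_mul_left (mem_top _) (mem_top _) (mem_top _)] at h1
    have h3 : ⁅x⁻¹ * (x : E ⧸ A).out, b x⁆ = 1 :=
      commutatorElement_eq_one_iff_mul_comm.mpr (hAc _ ha _ (hbA x hx))
    rw [h3, mul_one] at h1
    exact h1
  have hb_eq : ∀ x y : E, (x : E ⧸ A) = y → b x = b y := by
    intro x y hxy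
    simp only [b, hxy]
  have hmkb : ∀ x : E, x ∉ A → ((x * b x : E) : E ⧸ A) = x := by
    intro x hx
    rw [QuotientGroup.eq]
    have : (x * b x)⁻¹ * x = (b x)⁻¹ := by group
    rw [this]
    exact A.inv_mem (hbA x hx)
  have hnotA : ∀ x : E, x ∉ A → x * b x ∉ A := by
    intro x hx hin
    apply hx
    have := A.mul_mem hin (A.inv_mem (hbA x hx))
    simpa using this
  have hbb : ∀ x : E, x ∉ A → b x * b x = 1 := by
    intro x hx
    have := hA2 _ (hbA x hx)
    rwa [pow_two] at this
  have hinv : ∀ x : E, x ∉ A → (x * b x) * b (x * b x) = x := by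
    intro x hx
    rw [hb_eq _ _ (hmkb x hx), mul_assoc, hbb x hx, mul_one]
  have hsq : ∀ x : E, x ∉ A → (x * b x) * (x * b x) = z * (x * x) := by
    intro x hx
    rw [sq_comm h (hbb x hx), hbz x hx]
  have hzz := z_sq h
  have hz1 : z ≠ 1 := h.z_ne_one
  set N1 := (Finset.univ.filter (fun x : E => x ∉ A)).filter (fun x => x * x = 1) with hN1
  set N4 := (Finset.univ.filter (fun x : E => x ∉ A)).filter (fun x => ¬ x * x = 1) with hN4
  have hcardeq : N1.card = N4.card := by
    refine Finset.card_bij' (fun x _ => x * b x) (fun x _ => x * b x) ?_ ?_ ?_ ?_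
    · intro x hx
      simp only [hN1, hN4, Finset.mem_filter, Finset.mem_univ, true_and] at hx ⊢
      refine ⟨hnotA x hx.1, ?_⟩
      rw [hsq x hx.1, hx.2, mul_one]
      exact hz1
    · intro x hx
      simp only [hN1, hN4, Finset.mem_filter, Finset.mem_univ, true_and] at hx ⊢
      refine ⟨hnotA x hx.1, ?_⟩
      rw [hsq x hx.1]
      rcases sq_eq h x with h1 | h1
      · exact absurd h1 hx.2
      · rw [h1, hzz]
    · intro x hx
      simp only [hN1, Finset.mem_filter, Finset.mem_univ, true_and] at hx
      exact hinv x hx.1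
    · intro x hx
      simp only [hN4, Finset.mem_filter, Finset.mem_univ, true_and] at hx
      exact hinv x hx.1
  have hsum : N1.card + N4.card = (Finset.univ.filter (fun x : E => x ∉ A)).card :=
    Finset.card_filter_add_card_filter_not _
  have hAf : (Finset.univ.filter (fun x : E => x ∈ A)).card = Nat.card A := by
    rw [Nat.card_eq_fintype_card, ← Fintype.card_subtype]
  have hsum2 : (Finset.univ.filter (fun x : E => x ∈ A)).card +
      (Finset.univ.filter (fun x : E => x ∉ A)).card = Nat.card E := by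
    rw [Nat.card_eq_fintype_card]
    exact Finset.card_filter_add_card_filter_not _
  have hfinal : Nat.card {x : E // orderOf x = 4} = N4.card := by
    rw [Nat.card_eq_fintype_card, Fintype.card_subtype]
    congr 1
    ext x
    simp only [hN4, Finset.mem_filter, Finset.mem_univ, true_and]
    rw [orderOf_eq_four_iff h]
    constructor
    · intro hx
      have h1 : x ∉ A := by
        intro hin
        have := hA2 x hin
        rw [pow_two, hx] at this
        exact hz1 this
      exact ⟨h1, by rw [hx]; exact hz1⟩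
    · rintro ⟨-, hx⟩
      rcases sq_eq h x with h1 | h1
      · exact absurd h1 hx
      · exact h1
  rw [hfinal]
  have e1 : 2 ^ (2 * m + 1) = 2 * 2 ^ (2 * m) := by ring
  have e2 : 2 ^ (m + 1) = 2 * 2 ^ m := by ring
  rw [hE, e1] at hsum2
  rw [hAcard, e2] at hAf
  omega

end ExtraCount

/-- The number of elements of order four in an extraspecial 2-group of plus type. -/
theorem card_orderOf_four {m : ℕ} (hE : IsExtraspecial 2 E) (hcard : Nat.card E = 2 ^ (2 * m + 1))
    (hplus : ∃ A : Subgroup E, IsElementaryAbelian 2 A ∧ Nat.card A = 2 ^ (m + 1)) :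
    Nat.card {x : E // orderOf x = 4} = 2 ^ (2 * m) - 2 ^ m := by
  obtain ⟨z, hz⟩ := exists_extraFacts hE
  obtain ⟨A, ⟨hAc, hA2⟩, hAcard⟩ := hplus
  have hAc' : ∀ a ∈ A, ∀ b ∈ A, a * b = b * a := by
    intro a ha b hb
    have := mul_comm' (⟨a, ha⟩ : A) ⟨b, hb⟩
    exact congrArg Subtype.val this
  exact ExtraCount.card_order_four hz hAc' hA2 hcard hAcard

end Cfsg.Agent.Lib.Amalgam
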