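import Cfsg.Agent.Lib.Amalgam.Asym2
import Cfsg.Agent.Lib.FStar.GenFitting

/-!
# `Y_M ≤ Y_H` for subgroups `H` over the preimage of `F*(M†/C(Y_M))`
-/

set_option autoImplicit false

namespace Cfsg.Agent.Lib.Amalgam

open Cfsg Cfsg.Agent.Lib.FStar
open scoped commutatorElement

variable {G : Type*} [Group G] [Finite G] {p : ℕ} [hp : Fact p.Prime]

theorem fstar_aux {K : Type*} [Group K] [Finite K] (hO : pCore p K = ⊥) (X : Subgroup K) (hX : IsPGroup p X)
    (hXF : X ≤ generalizedFittingSubgroup K)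
    (hFX : generalizedFittingSubgroup K ≤ Subgroup.normalizer (X : Set K)) : X = ⊥ := by
  set F := generalizedFittingSubgroup K with hF
  haveI hn : (X.subgroupOf F).Normal := subgroupOf_normal_of_le_normalizer hFX
  have h1 : X.subgroupOf F ≤ pCore p ↥F :=
    Cfsg.Agent.Lib.Core.le_pCore hn (hX.comap_of_injective F.subtype F.subtype_injective)
  have h2 : (pCore p ↥F).map F.subtype = F ⊓ pCore p K := Cfsg.Agent.Lib.Core.map_pCore_of_normal F
  rw [hO, inf_bot_eq] at h2
  rw [eq_bot_iff]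
  intro x hx
  have : x ∈ (pCore p ↥F).map F.subtype :=
    ⟨⟨x, hXF hx⟩, h1 (by rw [Subgroup.mem_subgroupOf]; exact hx), rfl⟩
  rwa [h2] at this

theorem fstar_aux' {K : Type*} [Group K] [Finite K] (hO : pCore p K = ⊥) (X : Subgroup K) (hX : IsPGroup p X)
    (hc : X ≤ Subgroup.centralizer (generalizedFittingSubgroup K : Set K)) : X = ⊥ := by
  apply fstar_aux hO X hX (hc.trans centralizer_gen_le)
  have h1 : generalizedFittingSubgroup K ≤ Subgroup.centralizer (X : Set K) :=
    Subgroup.le_centralizer_iff.mp hc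
  exact h1.trans (centralizer_le_normalizer' X)

/-- The main statement. -/
theorem frak_F_main (hPara : IsOfParabolicCharacteristic p G) (S : Sylow p G) {M : Subgroup G}
    (hSM : (S : Subgroup G) ≤ M) (hM : IsInFrakM p M) (hasym : ¬ IsSymmetricIn (largestPReducedOf p M))
    [hn : ((Subgroup.centralizer ((largestPReducedOf p M : Subgroup G) : Set G)).subgroupOf
      (M ⊔ Subgroup.centralizer ((largestPReducedOf p M : Subgroup G) : Set G))).Normal]
    (F : Subgroup G)
    (hF : F = ((generalizedFittingSubgroup (↥(M ⊔ Subgroup.centralizer ((largestPReducedOf p M : Subgroup G) : Set G)) ⧸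
        (Subgroup.centralizer ((largestPReducedOf p M : Subgroup G) : Set G)).subgroupOf
          (M ⊔ Subgroup.centralizer ((largestPReducedOf p M : Subgroup G) : Set G)))).comap
        (QuotientGroup.mk' ((Subgroup.centralizer ((largestPReducedOf p M : Subgroup G) : Set G)).subgroupOf
          (M ⊔ Subgroup.centralizer ((largestPReducedOf p M : Subgroup G) : Set G))))).map
        (M ⊔ Subgroup.centralizer ((largestPReducedOf p M : Subgroup G) : Set G)).subtype)
    (H : Subgroup G) (hFH : F ≤ H)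
    (hH : Subgroup.centralizer (pCore p ↥H : Set ↥H) ≤ pCore p ↥H) :
    largestPReducedOf p M ≤ largestPReducedOf p H := by
  have hwc := asym_wc hPara S hSM hM hasym
  have hNP := frak_normalizer_P hPara S hSM hM
  have hSyl := frak_sylow_centralizer S hSM hM
  have hchar := char_of_charPSubgroups hM.1
  have hYP := largestPReducedOf_le_pCoreOf M hchar
  have hYE := isElementaryAbelian_largestPReducedOf M hchar
  have hPC := pCoreOf_le_centralizer M hchar
  have hYd := hM.2.2.2.1
  have hMdchar := char_of_charPSubgroups hM.2.1.1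
  have hPp : IsPGroup p (pCoreOf p M) := pCoreOf_isPGroup M
  set Y := largestPReducedOf p M with hY
  set P₀ := pCoreOf p M with hP₀
  set A := Subgroup.centralizer (Y : Set G) with hA
  set Md := M ⊔ A with hMd
  set C := A.subgroupOf Md with hC
  let π := QuotientGroup.mk' C
  have hπ : Function.Surjective π := QuotientGroup.mk'_surjective C
  have hπ1 : ∀ x : ↥Md, π x = 1 ↔ (x : G) ∈ A := by
    intro x
    rw [← MonoidHom.mem_ker, QuotientGroup.ker_mk', hC, Subgroup.mem_subgroupOf]
  have hcc : ∀ x : ↥Md, x ∈ Subgroup.centralizer ((largestPReduced p ↥Md : Subgroup ↥Md) : Set ↥Md) ↔ (x : G) ∈ A := by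
    intro x
    rw [mem_centralizer_subtype_iff]
    change _ ↔ (x : G) ∈ Subgroup.centralizer (Y : Set G)
    rw [hYd]
    rfl
  have hVr := isPReducedNormal_largestPReduced (p := p) hMdchar
  have hO : pCore p (↥Md ⧸ C) = ⊥ := by
    rw [pCore_quotient_eq_bot_iff]
    intro R hR hr
    have h1 := reduced_le_centralizer hVr R hR (by
      intro r hr'
      obtain ⟨k, hk⟩ := hr r hr'
      refine ⟨k, (hcc _).2 ?_⟩
      exact Subgroup.mem_subgroupOf.mp hk)
    intro r hr'
    exact Subgroup.mem_subgroupOf.mpr ((hcc _).1 (h1 hr'))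
  set Fb := generalizedFittingSubgroup (↥Md ⧸ C) with hFb
  have hFL : F = (Fb.comap π).map Md.subtype := hF
  have hFMd : F ≤ Md := by rw [hFL]; exact Subgroup.map_subtype_le _
  have hmemF : ∀ x : ↥Md, (x : G) ∈ F ↔ π x ∈ Fb := by
    intro x
    rw [hFL]
    constructor
    · rintro ⟨y, hy, hyx⟩
      have : y = x := Subtype.ext hyx
      rw [← this]
      exact hy
    · intro h
      exact ⟨x, h, rfl⟩
  haveI hFn : (Fb.comap π).Normal := Subgroup.Normal.comap (gen_normal _) π
  have hMdF : Md ≤ Subgroup.normalizer (F : Set G) := by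
    rw [hFL]; exact le_normalizer_map_of_normal Md _
  have hAF : A ≤ F := by
    intro a ha
    have haM : a ∈ Md := (le_sup_right : A ≤ Md) ha
    rw [hmemF ⟨a, haM⟩, (hπ1 ⟨a, haM⟩).2 ha]
    exact Subgroup.one_mem _
  have hAH : A ≤ H := hAF.trans hFH
  have hPH : P₀ ≤ H := hSyl.le.trans hAH
  have hFHN : ∀ D : Subgroup G, H ≤ Subgroup.normalizer (D : Set G) → F ≤ Subgroup.normalizer (D : Set G) :=
    fun D hD => hFH.trans hD
  -- the key reduction
  have hkey : ∀ D : Subgroup G, H ≤ Subgroup.normalizer (D : Set G) →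
      (∀ d ∈ F ⊓ D, ∃ k : ℕ, d ^ p ^ k ∈ A) → ∀ B : Subgroup G, B ≤ D → B ≤ Md → IsPGroup p B → B ≤ A := by
    intro D hD hDk B hBD hBMd hBp
    have hFD : F ⊓ D ≤ A := by
      have hX := fstar_aux hO (((F ⊓ D).subgroupOf Md).map π) (by
        rintro ⟨_, x, hx, rfl⟩
        replace hx : (x : G) ∈ F ⊓ D := Subgroup.mem_subgroupOf.mp hx
        obtain ⟨k, hk⟩ := hDk _ hx
        refine ⟨k, Subtype.ext ?_⟩
        change π x ^ p ^ k = 1
        rw [← map_pow, hπ1]
        exact hk) (by
        rintro _ ⟨x, hx, rfl⟩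
        replace hx : (x : G) ∈ F ⊓ D := Subgroup.mem_subgroupOf.mp hx
        exact (hmemF x).1 hx.1) (by
        intro fb hfb
        obtain ⟨f, rfl⟩ := hπ fb
        have hf : (f : G) ∈ F := (hmemF f).2 hfb
        apply Cfsg.Agent.Lib.Hall.mem_normalizer_of_conj_le
        rintro _ ⟨x, hx, rfl⟩
        refine ⟨f * x * f⁻¹, ?_, by simp⟩
        replace hx : (x : G) ∈ F ⊓ D := Subgroup.mem_subgroupOf.mp hx
        refine Subgroup.mem_subgroupOf.mpr ?_
        have h1 : F ≤ Subgroup.normalizer ((F ⊓ D : Subgroup G) : Set G) :=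
          le_normalizer_inf Subgroup.le_normalizer (hFHN D hD)
        exact (Subgroup.mem_normalizer_iff.mp (h1 hf) _).mp hx)
      intro x hx
      have hxM : x ∈ Md := hFMd hx.1
      have : π ⟨x, hxM⟩ ∈ ((F ⊓ D).subgroupOf Md).map π :=
        ⟨⟨x, hxM⟩, Subgroup.mem_subgroupOf.mpr hx, rfl⟩
      rw [hX, Subgroup.mem_bot, hπ1] at this
      exact this
    have hX := fstar_aux' hO ((B.subgroupOf Md).map π) ((hBp.comap_of_injective Md.subtype Md.subtype_injective).map π) (by
      rintro _ ⟨b, hb, rfl⟩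
      replace hb : (b : G) ∈ B := Subgroup.mem_subgroupOf.mp hb
      rw [Subgroup.mem_centralizer_iff]
      intro fb hfb
      obtain ⟨f, rfl⟩ := hπ fb
      have hf : (f : G) ∈ F := (hmemF f).2 hfb
      have h1 : ⁅(f : G), (b : G)⁆ ∈ F ⊓ D := by
        refine ⟨?_, ?_⟩
        · exact commutator_le_left_of_normalizer hMdF (Subgroup.commutator_mem_commutator hf b.2)
        · exact commutator_le_right_of_normalizer (hFHN D hD) (Subgroup.commutator_mem_commutator hf (hBD hb))
      have h2 : π ⁅f, b⁆ = 1 := (hπ1 _).2 (hFD h1)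
      have h3 : ⁅π f, π b⁆ = 1 := by rw [← map_commutatorElement]; exact h2
      exact commutatorElement_eq_one_iff_mul_comm.mp h3)
    intro x hx
    have hxM : x ∈ Md := hBMd hx
    have : π ⟨x, hxM⟩ ∈ (B.subgroupOf Md).map π :=
      ⟨⟨x, hxM⟩, Subgroup.mem_subgroupOf.mpr hx, rfl⟩
    rw [hX, Subgroup.mem_bot, hπ1] at this
    exact this
  -- `O_p(H)` centralizes `Y`
  set V := pCoreOf p H with hV
  have hVp : IsPGroup p V := pCoreOf_isPGroup H
  have hHV : H ≤ Subgroup.normalizer (V : Set G) := le_normalizer_pCoreOf H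
  have hwcT : ∀ T : Subgroup G, IsPGroup p T → P₀ ≤ T → T ≤ Md := fun T hT hPT =>
    (wc_le_normalizer hwc hT hPT).trans hNP
  have hVMd : V ≤ Md := by
    have hSp : IsPGroup p ↥(P₀ ⊔ V) := IsPGroup.to_sup_of_normal_right' hPp hVp (hPH.trans hHV)
    exact (le_sup_right : V ≤ P₀ ⊔ V).trans (hwcT _ hSp le_sup_left)
  have hVA : V ≤ A := hkey V hHV (by
    rintro d ⟨-, hd⟩
    obtain ⟨k, hk⟩ := hVp ⟨d, hd⟩
    refine ⟨k, ?_⟩
    have : d ^ p ^ k = 1 := congrArg Subtype.val hk
    rw [this]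
    exact Subgroup.one_mem _) V le_rfl hVMd hVp
  have hYH : Y ≤ H := hYP.trans hPH
  have hVY : Y ≤ Subgroup.centralizer (V : Set G) := Subgroup.le_centralizer_iff.mp hVA
  have hYV : Y ≤ V := fun y hy => (char_iff H).mp hH ⟨hYH hy, hVY hy⟩
  -- the normal closure
  set Ω := omegaOne p (V ⊓ Subgroup.centralizer (V : Set G)) with hΩ
  have hYΩ : Y ≤ Ω := fun y hy => mem_omegaOne_of _ ⟨hYV hy, hVY hy⟩ (hYE.2 y hy)
  have hHΩ : H ≤ Subgroup.normalizer (Ω : Set G) := le_normalizer_omegaOne_center hHV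
  set W : Subgroup G := ⨆ m : ↥H, Y.map (MulAut.conj (m : G)).toMonoidHom with hW
  have hWΩ : W ≤ Ω := by
    refine iSup_le fun m => ?_
    have h1 := map_conj_mono (m : G) hYΩ
    rwa [map_conj_eq_of_mem_normalizer (hHΩ m.2)] at h1
  have hWH : W ≤ H := hWΩ.trans ((omegaOne_le_self _).trans (inf_le_left.trans (pCoreOf_le_self H)))
  have hWE : IsElementaryAbelian p W := isElementaryAbelian_mono (isElementaryAbelian_omegaOne_center _) hWΩ
  have hYW : Y ≤ W := le_iSup_conj_self H Y
  have hHW : H ≤ Subgroup.normalizer (W : Set G) := le_normalizer_iSup_conj H Y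
  have hHCW : H ≤ Subgroup.normalizer ((Subgroup.centralizer (W : Set G) : Subgroup G) : Set G) :=
    hHW.trans (normalizer_le_normalizer_centralizer _)
  have hCWY : Subgroup.centralizer (W : Set G) ≤ A := Subgroup.centralizer_le hYW
  have hXr : IsPReducedNormal p (W.subgroupOf H) := by
    refine isPReducedNormal_mk (subgroupOf_normal_of_le_normalizer hHW)
      (isElementaryAbelian_subgroupOf hWE H) ?_
    intro R hR hr
    haveI := hR
    set D := R.map H.subtype with hD
    have hDH : H ≤ Subgroup.normalizer (D : Set G) := le_normalizer_map_of_normal H R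
    have hDleH : D ≤ H := Subgroup.map_subtype_le R
    have hcc2 : ∀ x : ↥H, x ∈ Subgroup.centralizer ((W.subgroupOf H : Subgroup ↥H) : Set ↥H) ↔
        (x : G) ∈ Subgroup.centralizer (W : Set G) := by
      intro x
      rw [mem_centralizer_subtype_iff, Subgroup.subgroupOf_map_subtype, inf_eq_left.2 hWH]
    have hDc : ∀ d ∈ D, ∃ k : ℕ, d ^ p ^ k ∈ D ⊓ Subgroup.centralizer (W : Set G) := by
      rintro _ ⟨r, hrR, rfl⟩
      obtain ⟨k, hk⟩ := hr r hrR
      refine ⟨k, D.pow_mem ⟨r, hrR, rfl⟩ _, ?_⟩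
      have := (hcc2 _).1 hk
      simpa using this
    obtain ⟨T, hT, hTs⟩ := Cfsg.Agent.Lib.FF.exists_isSylowIn_of_le hPp hPH
    have hTMd : T ≤ Md := hwcT T hTs.isPGroup hT
    have hSylD : Cfsg.Agent.Lib.FF.IsSylowIn p (T ⊓ D) D := hTs.inf_normal hDleH hDH
    have hTDA : T ⊓ D ≤ A := hkey D hDH (by
      rintro d ⟨-, hd⟩
      obtain ⟨k, hk⟩ := hDc d hd
      exact ⟨k, hCWY hk.2⟩) (T ⊓ D) inf_le_right (inf_le_left.trans hTMd) (hTs.isPGroup.to_le inf_le_left)
    have hDA : D ≤ A :=
      le_of_isSylowIn hSylD hTDA (inf_le_right.trans hCWY)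
        (le_normalizer_inf Subgroup.le_normalizer (hDleH.trans hHCW)) hDc
    have hDW : D ≤ Subgroup.centralizer (W : Set G) := by
      rw [Subgroup.le_centralizer_iff]
      refine iSup_le fun m => ?_
      rw [← Subgroup.le_centralizer_iff]
      have h1 := map_conj_mono (m : G) hDA
      rwa [map_conj_eq_of_mem_normalizer (hDH m.2), map_conj_centralizer] at h1
    intro r hrR
    exact (hcc2 r).2 (hDW ⟨r, hrR, rfl⟩)
  have h1 : W.subgroupOf H ≤ largestPReduced p ↥H := le_largestPReduced hXr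
  intro v hv
  exact ⟨⟨v, hWH (hYW hv)⟩, h1 (hYW hv), rfl⟩

end Cfsg.Agent.Lib.Amalgam
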