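import Cfsg.Prelude.Def_LocalStructure
import Cfsg.Agent.Lib.Subnormal.Join
import Cfsg.Agent.Lib.Techniques.Complement
import Cfsg.Agent.Lib.FF.Basic
import Cfsg.Agent.Lib.Amalgam.ResOf
import Cfsg.Agent.Lib.Amalgam.NormMap

/-!
# The subnormal closure of a subgroup
-/

namespace Cfsg.Agent.Lib.Amalgam

open Cfsg Cfsg.Agent.Lib.Subnormal
open scoped commutatorElement

universe u
variable {G : Type u} [Group G]

theorem sn_inf [Finite G] {A B : Subgroup G} (hA : SN ⊤ A) (hB : SN ⊤ B) : SN ⊤ (A ⊓ B) :=
  hB.trans (hA.inf le_top)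

theorem sn_sInf [Finite G] (T : Set (Subgroup G)) (hT : ∀ U ∈ T, SN ⊤ U) : SN ⊤ (sInf T) := by
  have hfin : T.Finite := Set.toFinite T
  induction T, hfin using Set.Finite.induction_on with
  | empty => rw [sInf_empty]; exact SN.refl
  | @insert a s _ _ ih =>
    rw [sInf_insert]
    exact sn_inf (hT a (Set.mem_insert a s)) (ih fun U hU => hT U (Set.mem_insert_of_mem a hU))

theorem sn_subnormalClosure [Finite G] (A : Subgroup G) : SN ⊤ (subnormalClosure A) :=
  sn_sInf _ fun _ hU => sn_top_of_isSubnormal hU.2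

theorem le_subnormalClosure (A : Subgroup G) : A ≤ subnormalClosure A :=
  le_sInf fun _ hU => hU.1

theorem subnormalClosure_le {A L : Subgroup G} (hA : A ≤ L) (hL : SN ⊤ L) :
    subnormalClosure A ≤ L :=
  sInf_le ⟨hA, isSubnormal_of_sn_top hL⟩

/-- In a finite group with the normalizer condition every subgroup is subnormal. -/
theorem sn_of_normalizerCondition [Finite G] (hN : NormalizerCondition G) (U : Subgroup G) :
    SN ⊤ U := by
  induction hc : (U : Subgroup G).index using Nat.strong_induction_on generalizing U with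
  | _ c ih =>
  by_cases hU : U = ⊤
  · rw [hU]; exact SN.refl
  have hlt : U < Subgroup.normalizer (U : Set G) := hN U (lt_top_iff_ne_top.2 hU)
  have hidx : (Subgroup.normalizer (U : Set G)).index < c := by
    rw [← hc]
    exact Subgroup.index_strictAnti hlt
  refine SN.step (ih _ hidx _ rfl) hlt.le le_rfl

/-- A subgroup containing a normal subgroup with `p`-group quotient is subnormal. -/
theorem sn_of_isPGroup_quotient [Finite G] {p : ℕ} [Fact p.Prime] (R : Subgroup G) [R.Normal]
    (hR : IsPGroup p (G ⧸ R)) (U : Subgroup G) (hRU : R ≤ U) : SN ⊤ U := by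
  have : Fintype (G ⧸ R) := Fintype.ofFinite _
  have hnil : Group.IsNilpotent (G ⧸ R) := hR.isNilpotent
  have h1 := sn_of_normalizerCondition (Group.normalizerCondition_of_isNilpotent (G := G ⧸ R))
    (U.map (QuotientGroup.mk' R))
  have h2 := h1.comap (QuotientGroup.mk' R)
  rw [Subgroup.comap_top, Subgroup.comap_map_eq_self (by simpa using hRU)] at h2
  exact h2

/-- The main facts on the subnormal closure. -/
theorem sn_sup_pResidual [Finite G] {p : ℕ} [Fact p.Prime] {K A : Subgroup G} (hAK : A ≤ K) :
    SN K (A ⊔ (pResidual p K).map K.subtype) := by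
  haveI := Cfsg.Agent.Lib.Techniques.pResidual_normal K p
  have h := sn_of_isPGroup_quotient (G := K) (pResidual p K)
    (Cfsg.Agent.Lib.Techniques.isPGroup_quotient_pResidual) (A.subgroupOf K ⊔ pResidual p K) le_sup_right
  have h2 := h.map K.subtype
  rw [Subgroup.map_sup, Subgroup.map_subgroupOf_eq_of_le hAK, ← MonoidHom.range_eq_map,
    Subgroup.range_subtype] at h2
  exact h2

end Cfsg.Agent.Lib.Amalgam
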