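import Cfsg.Prelude.Def_LocalStructure
import Cfsg.Prelude.Def_Local
import Cfsg.Agent.Lib.FStar.Basic
import Cfsg.Agent.Lib.FStar.GenFitting
import Cfsg.Agent.Lib.FStar.Layer
import Cfsg.Agent.Lib.Hall.CoprimeCommutator
import Cfsg.Agent.Lib.Amalgam.PMinimal3
import Cfsg.Agent.Lib.Amalgam.FrakF
import Cfsg.Agent.Lib.Amalgam.SubClosure

/-!
# `p`-groups acting on `F*` of a group with `O_p = 1`
-/

namespace Cfsg.Agent.Lib.Amalgam

open Cfsg Cfsg.Agent.Lib.FStar Cfsg.Agent.Lib.FF
open scoped commutatorElement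

universe u
variable {G : Type u} [Group G]

theorem comm_eq_bot_of_perfect {K Y : Subgroup G} (hperf : ⁅K, K⁆ = K) (h : ⁅⁅K, Y⁆, K⁆ = ⊥) :
    ⁅K, Y⁆ = ⊥ := by
  have h2 : ⁅⁅Y, K⁆, K⁆ = ⊥ := by rw [Subgroup.commutator_comm Y K]; exact h
  have h3 := Subgroup.commutator_commutator_eq_bot_of_rotate h h2
  rwa [hperf] at h3

theorem qs_comm_dichotomy [Finite G] {K Y : Subgroup G} (hq : IsQuasisimple K)
    (hY : Y ≤ Subgroup.normalizer (K : Set G)) : ⁅K, Y⁆ = ⊥ ∨ K ≤ ⁅K, Y⁆ := by
  have hW : ⁅K, Y⁆ ≤ K := Cfsg.Agent.Lib.Hall.commutator_le_of_normalizes hY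
  haveI hn : ((⁅K, Y⁆ : Subgroup G).subgroupOf K).Normal :=
    subgroupOf_normal_of_le_normalizer (Cfsg.Agent.Lib.Hall.le_normalizer_commutator_left Y K)
  rcases qs_normal_eq_top_or_le_center hq ((⁅K, Y⁆ : Subgroup G).subgroupOf K) with h | h
  · right
    exact Subgroup.subgroupOf_eq_top.mp h
  · left
    apply comm_eq_bot_of_perfect (qs_subgroup_perfect hq)
    rw [Subgroup.commutator_eq_bot_iff_le_centralizer]
    intro w hw
    rw [Subgroup.mem_centralizer_iff]
    intro k hk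
    have h1 : (⟨w, hW hw⟩ : K) ∈ Subgroup.center K := h (Subgroup.mem_subgroupOf.mpr hw)
    have h2 := Subgroup.mem_center_iff.mp h1 ⟨k, hk⟩
    exact (congrArg Subtype.val h2)

/-- A quasisimple subgroup `K` and a subgroup `Y`, each conjugate of `K` under `Y` being equal to or
commuting with `K`. -/
theorem comp_comm [Finite G] {K Y : Subgroup G} (hq : IsQuasisimple K)
    (hcom : ∀ y ∈ Y, y ∉ Subgroup.normalizer (K : Set G) → ⁅K, K.map (MulAut.conj y).toMonoidHom⁆ = ⊥) :
    ⁅K, Y⁆ = ⊥ ∨ K ≤ ⁅K, Y⁆ := by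
  by_cases h : Y ≤ Subgroup.normalizer (K : Set G)
  · exact qs_comm_dichotomy hq h
  right
  obtain ⟨y, hy, hyN⟩ := SetLike.not_le_iff_exists.mp h
  have hperf := qs_subgroup_perfect hq
  have hKN : K ≤ Subgroup.normalizer ((⁅K, Y⁆ : Subgroup G) : Set G) :=
    Cfsg.Agent.Lib.Hall.le_normalizer_commutator_left Y K
  have h1 : ⁅⁅K, Y⁆, K⁆ ≤ ⁅K, Y⁆ := commutator_le_left_of_normalizer hKN
  have h2 : ⁅K, K⁆ ≤ ⁅K, Y⁆ := by
    rw [Subgroup.commutator_le]
    intro k hk k₀ hk₀
    set c := y * k⁻¹ * y⁻¹ with hc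
    have hcmem : c ∈ K.map (MulAut.conj y).toMonoidHom := ⟨k⁻¹, K.inv_mem hk, by simp [hc]⟩
    have hcc : c * k₀ = k₀ * c := by
      have h3 := hcom y hy hyN
      have h4 := Subgroup.commutator_mem_commutator hk₀ hcmem
      rw [h3, Subgroup.mem_bot] at h4
      exact (commutatorElement_eq_one_iff_mul_comm.mp h4).symm
    have e : ⁅k, k₀⁆ = ⁅⁅k, y⁆, k₀⁆ := by
      have e1 : ⁅k, y⁆ = k * c := by
        simp only [commutatorElement_def, hc]; group
      rw [e1]
      simp only [commutatorElement_def]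
      calc k * k₀ * k⁻¹ * k₀⁻¹ = k * (k₀ * c) * c⁻¹ * k⁻¹ * k₀⁻¹ := by group
        _ = k * (c * k₀) * c⁻¹ * k⁻¹ * k₀⁻¹ := by rw [hcc]
        _ = k * c * k₀ * (k * c)⁻¹ * k₀⁻¹ := by group
    rw [e]
    exact h1 (Subgroup.commutator_mem_commutator (Subgroup.commutator_mem_commutator hk hy) hk₀)
  rwa [hperf] at h2

/-- Conjugation by an element of the normalizer. -/
def nConj {H : Subgroup G} {g : G} (hg : g ∈ Subgroup.normalizer (H : Set G)) : ↥H ≃* ↥H where
  toFun x := ⟨g * x * g⁻¹, (Subgroup.mem_normalizer_iff.mp hg x).mp x.2⟩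
  invFun x := ⟨g⁻¹ * x * g, by
    have h := (Subgroup.mem_normalizer_iff.mp (Subgroup.inv_mem _ hg) x).mp x.2
    simpa using h⟩
  left_inv x := by
    ext
    show g⁻¹ * (g * x * g⁻¹) * g = x
    group
  right_inv x := by
    ext
    show g * (g⁻¹ * x * g) * g⁻¹ = x
    group
  map_mul' x y := by
    ext
    show g * (x * y : G) * g⁻¹ = (g * x * g⁻¹) * (g * y * g⁻¹)
    group

theorem map_nConj {H : Subgroup G} {g : G} (hg : g ∈ Subgroup.normalizer (H : Set G)) (K : Subgroup H) :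
    (K.map (nConj hg).toMonoidHom).map H.subtype = (K.map H.subtype).map (MulAut.conj g).toMonoidHom := by
  ext x
  constructor
  · rintro ⟨_, ⟨k, hk, rfl⟩, rfl⟩
    exact ⟨k, ⟨k, hk, rfl⟩, rfl⟩
  · rintro ⟨_, ⟨k, hk, rfl⟩, rfl⟩
    exact ⟨_, ⟨k, hk, rfl⟩, rfl⟩

theorem map_conj_fitting [Finite G] {H : Subgroup G} {g : G} (hg : g ∈ Subgroup.normalizer (H : Set G)) :
    g ∈ Subgroup.normalizer (((fittingSubgroup H).map H.subtype : Subgroup G) : Set G) := by
  rw [mem_normalizer_iff_conj, ← map_nConj hg, Cfsg.Agent.Lib.Core.map_fittingSubgroup_equiv]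

theorem map_conj_gen [Finite G] {H : Subgroup G} {g : G} (hg : g ∈ Subgroup.normalizer (H : Set G)) :
    g ∈ Subgroup.normalizer (((generalizedFittingSubgroup H).map H.subtype : Subgroup G) : Set G) := by
  rw [mem_normalizer_iff_conj, ← map_nConj hg, gen_map_equiv]

variable [Finite G] {p : ℕ} [hp : Fact p.Prime]

/-- The core statement. -/
theorem fstarY_core {H Y L : Subgroup G} (hO : pCore p H = ⊥) (hY : IsPGroup p Y)
    (hYH : Y ≤ Subgroup.normalizer (H : Set G))
    (hLF : L ≤ (generalizedFittingSubgroup H).map H.subtype) (hLsn : (L.subgroupOf H).IsSubnormal)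
    (hYL : Y ≤ Subgroup.normalizer (L : Set G)) :
    ⁅L, Y⁆ ⊔ (L ⊓ Subgroup.centralizer (Y : Set G)) = L ∧ ⁅L, Y⁆ = ⁅⁅L, Y⁆, Y⁆ := by
  classical
  have hLH : L ≤ H := hLF.trans (Subgroup.map_subtype_le _)
  set W : Subgroup G := ⁅L, Y⁆ with hW
  set R : Subgroup G := ⁅W, Y⁆ with hR
  set Cc : Subgroup G := L ⊓ Subgroup.centralizer (Y : Set G) with hCc
  have hWL : W ≤ L := Cfsg.Agent.Lib.Hall.commutator_le_of_normalizes hYL
  have hYW : Y ≤ Subgroup.normalizer (W : Set G) := Cfsg.Agent.Lib.Hall.le_normalizer_commutator_right hYL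
  have hRW : R ≤ W := Cfsg.Agent.Lib.Hall.commutator_le_of_normalizes hYW
  have hYR : Y ≤ Subgroup.normalizer (R : Set G) := Cfsg.Agent.Lib.Hall.le_normalizer_commutator_right hYW
  have hLW : L ≤ Subgroup.normalizer (W : Set G) := Cfsg.Agent.Lib.Hall.le_normalizer_commutator_left Y L
  have hCcR : Cc ≤ Subgroup.normalizer (R : Set G) := fun c hc =>
    Cfsg.Agent.Lib.Hall.le_normalizer_commutator_of_normalizes (hLW hc.1)
      (centralizer_le_normalizer' Y hc.2)
  have hcomp : ∀ K : Subgroup H, IsComponent K → K ≤ L.subgroupOf H → K.map H.subtype ≤ Cc ⊔ R := by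
    intro K hK hKL
    set K' : Subgroup G := K.map H.subtype with hK'
    have hK'L : K' ≤ L := by
      rintro _ ⟨k, hk, rfl⟩
      exact Subgroup.mem_subgroupOf.mp (hKL hk)
    have hq : IsQuasisimple K' :=
      qs_of_mulEquiv (K.equivMapOfInjective H.subtype H.subtype_injective) hK.2
    have hcom : ∀ y ∈ Y, y ∉ Subgroup.normalizer (K' : Set G) →
        ⁅K', K'.map (MulAut.conj y).toMonoidHom⁆ = ⊥ := by
      intro y hy hyN
      have hne : K ≠ K.map (nConj (hYH hy)).toMonoidHom := by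
        intro h
        apply hyN
        rw [mem_normalizer_iff_conj, hK', ← map_nConj (hYH hy), ← h]
      have h1 := component_commute hK (component_map_equiv (nConj (hYH hy)) hK) hne
      rw [hK', ← map_nConj (hYH hy), ← Subgroup.map_commutator, h1, Subgroup.map_bot]
    rcases comp_comm hq hcom with h | h
    · refine le_trans (le_inf hK'L ?_) le_sup_left
      exact Subgroup.commutator_eq_bot_iff_le_centralizer.mp h
    · refine le_trans ?_ le_sup_right
      have h2 : K' ≤ W := h.trans (Subgroup.commutator_mono hK'L le_rfl)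
      exact h.trans (Subgroup.commutator_mono h2 le_rfl)
  -- the Fitting part
  set FL : Subgroup G := (fittingSubgroup H).map H.subtype ⊓ L with hFL
  have hFLR : FL ≤ Cc ⊔ R := by
    have hYF : Y ≤ Subgroup.normalizer (FL : Set G) :=
      le_normalizer_inf (fun y hy => map_conj_fitting (hYH hy)) hYL
    have hnd : ¬ p ∣ Nat.card FL := by
      intro hd
      apply fitting_not_dvd hO
      have h1 : Nat.card FL ∣ Nat.card ((fittingSubgroup H).map H.subtype : Subgroup G) :=
        Subgroup.card_dvd_of_le inf_le_left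
      rw [Subgroup.card_map_of_injective H.subtype_injective] at h1
      exact hd.trans h1
    have hcop : (Nat.card Y).Coprime (Nat.card FL) := by
      obtain ⟨k, hk⟩ := IsPGroup.iff_card.mp hY
      rw [hk]
      exact Nat.Coprime.pow_left k ((Nat.Prime.coprime_iff_not_dvd hp.out).mpr hnd)
    have hsolv : Group.IsSolvable Y := by
      haveI := hY.isNilpotent
      infer_instance
    have h1 := Cfsg.Agent.Lib.Hall.commutator_sup_centralizer Y FL hYF hcop (Or.inl hsolv)
    have h2 := Cfsg.Agent.Lib.Hall.commutator_commutator_eq Y FL hYF hcop (Or.inl hsolv)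
    rw [← h1]
    refine sup_le ?_ ?_
    · rw [← h2]
      refine le_trans ?_ le_sup_right
      have h3 : ⁅FL, Y⁆ ≤ W := Subgroup.commutator_mono inf_le_right le_rfl
      exact Subgroup.commutator_mono h3 le_rfl
    · refine le_trans ?_ le_sup_left
      exact inf_le_inf_right _ inf_le_right
  have hLle : L ≤ Cc ⊔ R := by
    intro x hx
    have hxS : (⟨x, hLH hx⟩ : H) ∈ L.subgroupOf H := Subgroup.mem_subgroupOf.mpr hx
    have hS : L.subgroupOf H ≤ generalizedFittingSubgroup H := by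
      intro y hy
      obtain ⟨z, hz, hzy⟩ := hLF (Subgroup.mem_subgroupOf.mp hy)
      have : z = y := Subtype.ext hzy
      rwa [← this]
    obtain ⟨e, he, f, hf, hef⟩ := subnormal_gen_decomp (L.subgroupOf H) hS hLsn hxS
    have h1 : (e : G) ∈ Cc ⊔ R := by
      have h2 : sSup {K : Subgroup H | IsComponent K ∧ K ≤ L.subgroupOf H} ≤ (Cc ⊔ R).comap H.subtype := by
        refine sSup_le fun K hK => ?_
        rw [← Subgroup.map_le_iff_le_comap]
        exact hcomp K hK.1 hK.2
      exact h2 he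
    have h3 : (f : G) ∈ Cc ⊔ R := hFLR ⟨⟨f, hf.1, rfl⟩, Subgroup.mem_subgroupOf.mp hf.2⟩
    have h4 : x = (e : G) * (f : G) := by
      have := congrArg Subtype.val hef
      simpa using this.symm
    rw [h4]
    exact Subgroup.mul_mem _ h1 h3
  constructor
  · apply le_antisymm (sup_le hWL inf_le_left)
    exact hLle.trans (sup_comm W Cc ▸ sup_le_sup le_rfl hRW)
  · apply le_antisymm _ (Cfsg.Agent.Lib.Hall.commutator_le_of_normalizes hYW)
    have h1 : ⁅Y, Cc ⊔ R⁆ ≤ R := by
      refine commutator_sup_le hCcR Subgroup.le_normalizer ?_ ?_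
      · rw [Subgroup.commutator_le]
        intro y hy c hc
        have : ⁅y, c⁆ = 1 := by
          rw [commutatorElement_eq_one_iff_mul_comm]
          exact Subgroup.mem_centralizer_iff.mp hc.2 y hy
        rw [this]
        exact R.one_mem
      · exact commutator_le_right_of_normalizer hYR
    have h2 : W = ⁅Y, L⁆ := Subgroup.commutator_comm L Y
    calc W = ⁅Y, L⁆ := h2
      _ ≤ ⁅Y, Cc ⊔ R⁆ := Subgroup.commutator_mono le_rfl hLle
      _ ≤ R := h1

/-- The top case of the core statement. -/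
theorem fstarY_top {Y L : Subgroup G} (hO : pCore p G = ⊥) (hY : IsPGroup p Y)
    (hLF : L ≤ generalizedFittingSubgroup G) (hLsn : L.IsSubnormal)
    (hYL : Y ≤ Subgroup.normalizer (L : Set G)) :
    ⁅L, Y⁆ ⊔ (L ⊓ Subgroup.centralizer (Y : Set G)) = L ∧ ⁅L, Y⁆ = ⁅⁅L, Y⁆, Y⁆ := by
  have hO' : pCore p (⊤ : Subgroup G) = ⊥ := by
    have h1 := Cfsg.Agent.Lib.Core.map_pCore_equiv (p := p) (Subgroup.topEquiv (G := G))
    rw [hO] at h1
    exact (Subgroup.map_eq_bot_iff_of_injective _ (Subgroup.topEquiv (G := G)).injective).mp h1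
  have hF' : (generalizedFittingSubgroup (⊤ : Subgroup G)).map (⊤ : Subgroup G).subtype =
      generalizedFittingSubgroup G := gen_map_equiv (Subgroup.topEquiv (G := G))
  refine fstarY_core (H := ⊤) hO' hY ?_ (by rw [hF']; exact hLF) hLsn.subgroupOf hYL
  rw [Subgroup.normalizer_eq_top_iff.mpr inferInstance]
  exact le_top

/-- `F*(X) ∩ K = F*(K)` for `K` subnormal. -/
theorem gen_inf_subnormal (K : Subgroup G) (hK : K.IsSubnormal) :
    generalizedFittingSubgroup G ⊓ K = (generalizedFittingSubgroup K).map K.subtype := by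
  apply le_antisymm
  · intro x hx
    have hT : (generalizedFittingSubgroup G ⊓ K).IsSubnormal := by
      have h1 : Cfsg.Agent.Lib.Subnormal.SN ⊤ (generalizedFittingSubgroup G) :=
        Cfsg.Agent.Lib.Subnormal.sn_top_of_isSubnormal (gen_normal G).isSubnormal
      exact Cfsg.Agent.Lib.Subnormal.isSubnormal_of_sn_top
        (sn_inf h1 (Cfsg.Agent.Lib.Subnormal.sn_top_of_isSubnormal hK))
    obtain ⟨e, he, y, hy, rfl⟩ :=
      subnormal_gen_decomp (generalizedFittingSubgroup G ⊓ K) inf_le_left hT hx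
    have h1 : sSup {L : Subgroup G | IsComponent L ∧ L ≤ generalizedFittingSubgroup G ⊓ K} ≤
        (generalizedFittingSubgroup K).map K.subtype := by
      refine sSup_le fun L hL => ?_
      have h := component_le_layer (component_subgroupOf hL.1 (hL.2.trans inf_le_right))
      intro l hl
      exact ⟨⟨l, hL.2.trans inf_le_right hl⟩, layer_le_gen (h (by simpa [Subgroup.mem_subgroupOf] using hl)), rfl⟩
    have h2 : y ∈ (generalizedFittingSubgroup K).map K.subtype := by
      have h3 : y ∈ fittingSubgroup G ⊓ K := ⟨hy.1, hy.2.2⟩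
      rw [← fitting_map_of_subnormal K hK] at h3
      obtain ⟨z, hz, rfl⟩ := h3
      exact ⟨z, fitting_le_gen hz, rfl⟩
    exact Subgroup.mul_mem _ (h1 he) h2
  · refine le_inf ?_ (Subgroup.map_subtype_le _)
    unfold generalizedFittingSubgroup
    rw [Subgroup.map_sup]
    exact sup_le_sup (layer_map_le_of_subnormal hK) (fitting_map_le_of_subnormal hK)

/-- A subgroup on which `[W, Y] = W` lies in each subnormal overgroup of `Y`. -/
theorem le_of_comm_fixed {W Y : Subgroup G} (hWY : ⁅W, Y⁆ = W) {K : Subgroup G} (hK : K.IsSubnormal)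
    (hYK : Y ≤ K) : W ≤ K := by
  induction hK with
  | top => exact le_top
  | step A B hAB _ hN ih =>
    have hB := ih (hYK.trans hAB)
    rw [← hWY, Subgroup.commutator_le]
    intro w hw y hy
    have h1 : (⟨w, hB hw⟩ : B) * (⟨y, hAB (hYK hy)⟩ : B) * (⟨w, hB hw⟩ : B)⁻¹ ∈ A.subgroupOf B :=
      hN.conj_mem _ (Subgroup.mem_subgroupOf.mpr (hYK hy)) _
    have h2 : w * y * w⁻¹ ∈ A := Subgroup.mem_subgroupOf.mp h1
    have e : ⁅w, y⁆ = (w * y * w⁻¹) * y⁻¹ := rfl
    rw [e]
    exact A.mul_mem h2 (A.inv_mem (hYK hy))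

end Cfsg.Agent.Lib.Amalgam
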