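import Cfsg.Agent.Lib.Amalgam.FStarY
import Cfsg.Agent.Lib.Core.Frattini

/-!
# A central element fixed by `Q` in a group with `L = [L, Q]`
-/

namespace Cfsg.Agent.Lib.Amalgam

open Cfsg Cfsg.Agent.Lib.FStar Cfsg.Agent.Lib.FF
open scoped commutatorElement

universe u
variable {G : Type u} [Group G] [Finite G]

/-- If `L = [L, Q]`, an element of `Z(L)` centralized by `Q` of order prime to `|Q|` lies in `Φ(L)`. -/
theorem central_fixed_mem_frattini {L Q : Subgroup G} (hQL : Q ≤ Subgroup.normalizer (L : Set G))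
    (hLQ : ⁅L, Q⁆ = L) {z : G} (hzL : z ∈ L) (hzc : ∀ l ∈ L, l * z = z * l)
    (hzQ : ∀ q ∈ Q, q * z = z * q) (hcop : (orderOf z).Coprime (Nat.card Q)) :
    (⟨z, hzL⟩ : L) ∈ frattini L := by
  classical
  rw [Cfsg.Agent.Lib.Core.mem_frattini_iff]
  intro M hM
  by_contra hz
  set z' : L := ⟨z, hzL⟩ with hz'
  have hz'c : ∀ l : L, l * z' = z' * l := fun l => Subtype.ext (hzc l l.2)
  -- `L = M ⟨z⟩`
  have hsup : M ⊔ Subgroup.zpowers z' = ⊤ := by
    apply hM.2
    refine lt_of_le_of_ne le_sup_left fun h => hz ?_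
    rw [h]
    exact Subgroup.mem_sup_right (Subgroup.mem_zpowers z')
  have hcen : ∀ u ∈ Subgroup.zpowers z', ∀ l : L, l * u = u * l := by
    intro u hu l
    obtain ⟨i, rfl⟩ := Subgroup.mem_zpowers_iff.mp hu
    exact ((show Commute l z' from hz'c l).zpow_right i).eq
  have hzN : Subgroup.zpowers z' ≤ Subgroup.normalizer (M : Set L) := by
    intro u hu
    rw [Subgroup.mem_normalizer_iff]
    intro m
    have e : u * m * u⁻¹ = m := by
      rw [(hcen u hu m).symm]; group
    rw [e]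
  have hdec : ∀ l : L, ∃ m ∈ M, ∃ u ∈ Subgroup.zpowers z', l = m * u := fun l =>
    exists_mul_of_mem_sup hzN (by rw [hsup]; trivial)
  have hMn : M.Normal := by
    constructor
    intro m hm l
    obtain ⟨a, ha, u, hu, rfl⟩ := hdec l
    have e : a * u * m * (a * u)⁻¹ = a * m * a⁻¹ := by
      have h1 : u * m = m * u := (hcen u hu m).symm
      calc a * u * m * (a * u)⁻¹ = a * (u * m) * u⁻¹ * a⁻¹ := by group
        _ = a * (m * u) * u⁻¹ * a⁻¹ := by rw [h1]
        _ = a * m * a⁻¹ := by group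
    rw [e]
    exact M.mul_mem (M.mul_mem ha hm) (M.inv_mem ha)
  have hcomm : ∀ a b : L ⧸ M, a * b = b * a := by
    intro a b
    obtain ⟨x, rfl⟩ := QuotientGroup.mk_surjective a
    obtain ⟨y, rfl⟩ := QuotientGroup.mk_surjective b
    obtain ⟨m, hm, u, hu, rfl⟩ := hdec x
    obtain ⟨m', hm', u', hu', rfl⟩ := hdec y
    rw [← QuotientGroup.mk_mul, ← QuotientGroup.mk_mul, QuotientGroup.eq]
    have e1 : (m * u * (m' * u'))⁻¹ * (m' * u' * (m * u)) = (m * m')⁻¹ * (m' * m) := by
      have h1 : u * m' = m' * u := (hcen u hu m').symm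
      have h2 : u' * m = m * u' := (hcen u' hu' m).symm
      have h3 : u * u' = u' * u := hcen u' hu' u
      have e2 : m * u * (m' * u') = m * m' * (u * u') := by
        calc m * u * (m' * u') = m * (u * m') * u' := by group
          _ = m * (m' * u) * u' := by rw [h1]
          _ = _ := by group
      have e3 : m' * u' * (m * u) = m' * m * (u * u') := by
        calc m' * u' * (m * u) = m' * (u' * m) * u := by group
          _ = m' * (m * u') * u := by rw [h2]
          _ = m' * m * (u' * u) := by group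
          _ = _ := by rw [h3]
      rw [e2, e3]
      have hw : ((m * m')⁻¹ * (m' * m)) * (u * u') = (u * u') * ((m * m')⁻¹ * (m' * m)) := by
        calc ((m * m')⁻¹ * (m' * m)) * (u * u') = (((m * m')⁻¹ * (m' * m)) * u) * u' := by group
          _ = (u * ((m * m')⁻¹ * (m' * m))) * u' := by rw [hcen u hu]
          _ = u * (((m * m')⁻¹ * (m' * m)) * u') := by group
          _ = u * (u' * ((m * m')⁻¹ * (m' * m))) := by rw [hcen u' hu']
          _ = _ := by group
      calc (m * m' * (u * u'))⁻¹ * (m' * m * (u * u'))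
          = (u * u')⁻¹ * (((m * m')⁻¹ * (m' * m)) * (u * u')) := by group
        _ = (u * u')⁻¹ * ((u * u') * ((m * m')⁻¹ * (m' * m))) := by rw [hw]
        _ = _ := by group
    rw [e1]
    exact M.mul_mem (M.inv_mem (M.mul_mem hm hm')) (M.mul_mem hm' hm)
  letI : CommGroup (L ⧸ M) := { (inferInstance : Group (L ⧸ M)) with mul_comm := hcomm }
  letI : Fintype Q := Fintype.ofFinite _
  -- the norm
  let f : Q → (L →* L ⧸ M) := fun q => (QuotientGroup.mk' M).comp (nConj (hQL q.2)).toMonoidHom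
  have hf : ∀ (q : Q) (l : L), f q l = ((nConj (hQL q.2) l : L) : L ⧸ M) := fun _ _ => rfl
  let ψ : L →* L ⧸ M := ∏ q : Q, f q
  have hψ : ∀ l : L, ψ l = ∏ q : Q, f q l := fun l => by
    simp only [ψ, MonoidHom.finset_prod_apply]
  have hinv : ∀ (q₀ : Q) (l : L), ψ (nConj (hQL q₀.2) l) = ψ l := by
    intro q₀ l
    rw [hψ, hψ]
    have h1 : ∀ q : Q, f q (nConj (hQL q₀.2) l) = f (q * q₀) l := by
      intro q
      rw [hf, hf]
      congr 1
      apply Subtype.ext
      show (q : G) * ((q₀ : G) * l * (q₀ : G)⁻¹) * (q : G)⁻¹ =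
        ((q * q₀ : Q) : G) * l * ((q * q₀ : Q) : G)⁻¹
      push_cast
      group
    simp_rw [h1]
    exact Equiv.prod_comp (Equiv.mulRight q₀) (fun q => f q l)
  have hker : L ≤ (ψ.ker).map L.subtype := by
    conv_lhs => rw [← hLQ]
    rw [Subgroup.commutator_le]
    intro l hl q₀ hq₀
    have h1 : ⁅l, q₀⁆ ∈ L := by
      rw [← hLQ]; exact Subgroup.commutator_mem_commutator hl hq₀
    refine ⟨⟨_, h1⟩, ?_, rfl⟩
    show ψ ⟨⁅l, q₀⁆, h1⟩ = 1
    have e : (⟨⁅l, q₀⁆, h1⟩ : L) = ⟨l, hl⟩ * (nConj (hQL hq₀) ⟨l, hl⟩)⁻¹ := by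
      apply Subtype.ext
      show ⁅l, q₀⁆ = l * (q₀ * l * q₀⁻¹)⁻¹
      simp only [commutatorElement_def]
      group
    rw [e, map_mul, map_inv]
    have := hinv ⟨q₀, hq₀⟩ ⟨l, hl⟩
    rw [this]
    exact mul_inv_cancel _
  have hzker : ψ z' = 1 := by
    obtain ⟨x, hx, hxz⟩ := hker hzL
    have : x = z' := Subtype.ext hxz
    rw [← this]
    exact hx
  have hzval : ψ z' = (z' : L ⧸ M) ^ Nat.card Q := by
    rw [hψ]
    have h1 : ∀ q : Q, f q z' = (z' : L ⧸ M) := by
      intro q
      rw [hf]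
      congr 1
      apply Subtype.ext
      show (q : G) * z * (q : G)⁻¹ = z
      rw [hzQ q q.2]
      group
    simp_rw [h1]
    rw [Finset.prod_const, Finset.card_univ, Nat.card_eq_fintype_card]
  rw [hzval] at hzker
  have h2 : z' ^ Nat.card Q ∈ M := by
    rw [← QuotientGroup.eq_one_iff, QuotientGroup.mk_pow]
    exact hzker
  have hord : orderOf z' = orderOf z := Subgroup.orderOf_mk z hzL
  exact hz (mem_of_pow_coprime (by rw [hord]; exact hcop) h2)

variable {p : ℕ} [hp : Fact p.Prime]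

/-- An abelian subgroup of `F*` normalized by `F*` has no `p`-elements when `O_p = 1`. -/
theorem not_dvd_orderOf_of_abelian {A : Subgroup G} (hO : pCore p G = ⊥)
    (hAF : A ≤ generalizedFittingSubgroup G)
    (hN : generalizedFittingSubgroup G ≤ Subgroup.normalizer (A : Set G))
    (hab : ∀ a ∈ A, ∀ b ∈ A, a * b = b * a) {z : G} (hz : z ∈ A) : ¬ p ∣ orderOf z := by
  classical
  intro hd
  have hX : (pCore p A).map A.subtype = ⊥ := by
    apply fstar_aux hO _ ((Cfsg.Agent.Lib.Core.pCore_isPGroup p A).map _)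
    · exact (Subgroup.map_subtype_le _).trans hAF
    · intro g hg
      rw [mem_normalizer_iff_conj, ← map_nConj (hN hg), Cfsg.Agent.Lib.Core.map_pCore_equiv]
  have hA : pCore p A = ⊥ :=
    (Subgroup.map_eq_bot_iff_of_injective _ A.subtype_injective).mp hX
  set y := z ^ (orderOf z / p) with hy
  have hyord : orderOf y = p := orderOf_pow_orderOf_div (orderOf_pos z).ne' hd
  have hyA : y ∈ A := A.pow_mem hz _
  have hn : (Subgroup.zpowers (⟨y, hyA⟩ : A)).Normal := by
    constructor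
    intro n hn g
    have : g * n * g⁻¹ = n := by
      apply Subtype.ext
      show (g : G) * n * (g : G)⁻¹ = n
      rw [hab g g.2 n n.2]
      group
    rw [this]
    exact hn
  have hp' : IsPGroup p (Subgroup.zpowers (⟨y, hyA⟩ : A)) := by
    rw [IsPGroup.iff_card, Nat.card_zpowers, Subgroup.orderOf_mk, hyord]
    exact ⟨1, (pow_one p).symm⟩
  have h1 := Cfsg.Agent.Lib.Core.le_pCore hn hp' (Subgroup.mem_zpowers (⟨y, hyA⟩ : A))
  rw [hA, Subgroup.mem_bot] at h1
  have h2 : y = 1 := congrArg Subtype.val h1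
  rw [h2, orderOf_one] at hyord
  exact hp.out.one_lt.ne hyord

end Cfsg.Agent.Lib.Amalgam
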