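import Cfsg.Agent.Lib.Amalgam.Asym2
import Cfsg.Agent.Lib.PGroup.Basic
import Cfsg.Agent.Lib.Amalgam.PClosed

/-!
# The set `ℌ_G(O_p(M))`
-/

set_option autoImplicit false

namespace Cfsg.Agent.Lib.Amalgam

open Cfsg
open scoped commutatorElement

variable {G : Type*} [Group G] [Finite G] {p : ℕ} [hp : Fact p.Prime]

/-- Proper subgroups over the kernel of a `p`-quotient lie in proper normal subgroups. -/
theorem exists_normal_ge_of_isPGroup_quotient {K : Type*} [Group K] [Finite K] (R : Subgroup K) [R.Normal]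
    (hq : IsPGroup p (K ⧸ R)) (U : Subgroup K) (hU : R ≤ U) (hne : U ≠ ⊤) :
    ∃ N : Subgroup K, N.Normal ∧ U ≤ N ∧ N ≠ ⊤ := by
  classical
  let π := QuotientGroup.mk' R
  have hπ : Function.Surjective π := QuotientGroup.mk'_surjective R
  set V := U.map π with hV
  have hV1 : V ≠ ⊤ := by
    intro h
    apply hne
    have := Subgroup.comap_map_eq π U
    rw [← hV, h, Subgroup.comap_top, QuotientGroup.ker_mk', sup_eq_left.2 hU] at this
    exact this.symm
  obtain ⟨C, hC, hVC⟩ := (eq_top_or_exists_le_coatom V).resolve_left hV1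
  have hCi := Cfsg.Agent.Lib.PGroup.index_eq_prime_of_isCoatom hq hC
  have hCn := Cfsg.Agent.Lib.PGroup.normal_of_index_eq_prime hq hCi
  refine ⟨C.comap π, hCn.comap π, ?_, ?_⟩
  · intro u hu
    exact hVC ⟨u, hu, rfl⟩
  · intro h
    apply hC.1
    rw [eq_top_iff]
    intro x _
    obtain ⟨y, rfl⟩ := hπ x
    have : y ∈ C.comap π := by rw [h]; trivial
    exact this

omit [Finite G] hp in
theorem le_normalizer_sup_of_comm [Finite G] {R A B : Subgroup G} (hRA : R ≤ Subgroup.normalizer (A : Set G))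
    (h : ⁅R, B⁆ ≤ A) : R ≤ Subgroup.normalizer ((A ⊔ B : Subgroup G) : Set G) := by
  intro r hr
  apply mem_normalizer_of_map_conj_le
  rw [Subgroup.map_sup, map_conj_eq_of_mem_normalizer (hRA hr)]
  refine sup_le le_sup_left ?_
  rintro _ ⟨b, hb, rfl⟩
  have : (MulAut.conj r).toMonoidHom b = ⁅r, b⁆ * b := by
    simp only [MulEquiv.coe_toMonoidHom, MulAut.conj_apply, commutatorElement_def]
    group
  rw [this]
  exact Subgroup.mul_mem _ (Subgroup.mem_sup_left (h (Subgroup.commutator_mem_commutator hr hb)))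
    (Subgroup.mem_sup_right hb)

omit hp in
theorem normalizer_le_normalizer_map_pResidual (K : Subgroup G) :
    Subgroup.normalizer (K : Set G) ≤
      Subgroup.normalizer (((pResidual p ↥K).map K.subtype : Subgroup G) : Set G) := by
  intro x hx
  apply mem_normalizer_of_map_conj_le
  rw [map_pResidual_eq_closure, MonoidHom.map_closure, Subgroup.closure_le]
  rintro _ ⟨g, ⟨hg, hgc⟩, rfl⟩
  apply Subgroup.subset_closure
  refine ⟨(Subgroup.mem_normalizer_iff.mp hx g).mp hg, ?_⟩
  have : (MulAut.conj x).toMonoidHom g = x * g * x⁻¹ := rfl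
  rw [this, orderOf_conj']
  exact hgc

/-- Sylow subgroups of a parabolic subgroup. -/
theorem sylow_of_parabolic {H K : Subgroup G} (hKH : K ≤ H) (hpar : IsParabolic p (K.subgroupOf H))
    (T : Sylow p ↥K) :
    ∃ P : Sylow p ↥H, (P : Subgroup ↥H).map H.subtype = (T : Subgroup ↥K).map K.subtype := by
  obtain ⟨T₀, hT₀⟩ := hpar
  have h1 := Cfsg.Agent.Lib.FF.isSylowIn_of_sylow T₀
  have hUK : (T₀ : Subgroup H).map H.subtype ≤ K := by
    rintro _ ⟨t, ht, rfl⟩
    exact Subgroup.mem_subgroupOf.mp (hT₀ ht)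
  have h2 := isSylowIn_mono h1 hUK hKH
  have h3 := Cfsg.Agent.Lib.FF.isSylowIn_of_sylow T
  obtain ⟨l, hl, hlU⟩ := h2.exists_conj h3
  have h4 := h1.conj l
  rw [map_conj_self (hKH hl), hlU] at h4
  refine ⟨h4.toSylow, ?_⟩
  rw [Cfsg.Agent.Lib.FF.IsSylowIn.coe_toSylow, Subgroup.subgroupOf_map_subtype, inf_eq_left.2 h4.le]

section frakH

variable {P₀ Y H : Subgroup G} (hPp : IsPGroup p P₀) (hYP : Y ≤ P₀)
  (hPC : P₀ ≤ Subgroup.centralizer (Y : Set G)) (hPH : P₀ ≤ H) (hYO : ¬ Y ≤ pCoreOf p H)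
  (hmin : ∀ X : Subgroup G, P₀ ≤ X → X < H → Y ≤ pCoreOf p X)

include hPH hYO hmin

theorem frakH_eq_of_normal {X : Subgroup G} (hPX : P₀ ≤ X) (hXH : X ≤ H)
    (hHX : H ≤ Subgroup.normalizer (X : Set G)) : X = H := by
  by_contra hne
  apply hYO
  have h1 := hmin X hPX (lt_of_le_of_ne hXH hne)
  exact h1.trans (le_pCoreOf_of_normal (pCoreOf_isPGroup X) ((pCoreOf_le_self X).trans hXH)
    (hHX.trans (normalizer_le_normalizer_pCoreOf X)))

theorem frakH_normalClosure :
    (Subgroup.normalClosure ((P₀.subgroupOf H : Subgroup H) : Set H)).map H.subtype = H := by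
  apply frakH_eq_of_normal hPH hYO hmin
  · intro x hx
    exact ⟨⟨x, hPH hx⟩, Subgroup.subset_normalClosure (by simpa [Subgroup.mem_subgroupOf] using hx), rfl⟩
  · exact Subgroup.map_subtype_le _
  · haveI : (Subgroup.normalClosure ((P₀.subgroupOf H : Subgroup H) : Set H)).Normal :=
      Subgroup.normalClosure_normal
    exact le_normalizer_map_of_normal H _

theorem frakH_iSup : (⨆ l : ↥H, P₀.map (MulAut.conj (l : G)).toMonoidHom) = H := by
  apply frakH_eq_of_normal hPH hYO hmin
  · exact le_iSup_conj_self H P₀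
  · refine iSup_le fun l => ?_
    rintro _ ⟨x, hx, rfl⟩
    exact (Subgroup.mem_normalizer_iff.mp (Subgroup.le_normalizer l.2) _).mp (hPH hx)
  · exact le_normalizer_iSup_conj H P₀

theorem frakH_sup_residual : (pResidual p ↥H).map H.subtype ⊔ P₀ = H := by
  haveI := Cfsg.Agent.Lib.Techniques.pResidual_normal ↥H p
  have hRH : (pResidual p ↥H).map H.subtype ≤ H := Subgroup.map_subtype_le _
  by_contra hne
  set X := (pResidual p ↥H).map H.subtype ⊔ P₀ with hX
  have hXH : X ≤ H := sup_le hRH hPH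
  have hU : X.subgroupOf H ≠ ⊤ := by
    intro h
    apply hne
    exact le_antisymm hXH (Subgroup.subgroupOf_eq_top.mp h)
  obtain ⟨N, hN, hUN, hNt⟩ := exists_normal_ge_of_isPGroup_quotient (p := p) (pResidual p ↥H)
    (Cfsg.Agent.Lib.Techniques.isPGroup_quotient_pResidual) (X.subgroupOf H) (by
      intro r hr
      rw [Subgroup.mem_subgroupOf]
      exact Subgroup.mem_sup_left ⟨r, hr, rfl⟩) hU
  haveI := hN
  have hNH := frakH_eq_of_normal hPH hYO hmin (X := N.map H.subtype) (by
      intro x hx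
      exact ⟨⟨x, hPH hx⟩, hUN (by rw [Subgroup.mem_subgroupOf]; exact Subgroup.mem_sup_right hx), rfl⟩)
    (Subgroup.map_subtype_le _) (le_normalizer_map_of_normal H N)
  apply hNt
  rw [eq_top_iff]
  intro x _
  have : (x : G) ∈ N.map H.subtype := by rw [hNH]; exact x.2
  obtain ⟨y, hy, hyx⟩ := this
  have : y = x := Subtype.ext hyx
  rwa [← this]

include hPp hYP hPC

theorem frakH_commutator :
    ⁅(pResidual p ↥H).map H.subtype, Y⁆ = (pResidual p ↥H).map H.subtype := by
  set R := (pResidual p ↥H).map H.subtype with hR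
  have hHR : H ≤ Subgroup.normalizer (R : Set G) := Subgroup.le_normalizer.trans le_normalizer_map_pResidual
  have hsup : R ⊔ P₀ = H := frakH_sup_residual hPH hYO hmin
  have hP₀Y : P₀ ≤ Subgroup.normalizer (Y : Set G) := hPC.trans (centralizer_le_normalizer' Y)
  have hYH : Y ≤ H := hYP.trans hPH
  set R₁ := ⁅R, Y⁆ with hR₁
  have hR₁R : R₁ ≤ R := commutator_le_left_of_normalizer (hYH.trans hHR)
  have hRR₁ : R ≤ Subgroup.normalizer (R₁ : Set G) := Cfsg.Agent.Lib.Hall.le_normalizer_commutator_left Y R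
  have hPR₁ : P₀ ≤ Subgroup.normalizer (R₁ : Set G) := le_normalizer_commutator (hPH.trans hHR) hP₀Y
  have hHR₁ : H ≤ Subgroup.normalizer (R₁ : Set G) := by rw [← hsup]; exact sup_le hRR₁ hPR₁
  by_contra hne
  have hXH : R₁ ⊔ P₀ ≤ H := sup_le (hR₁R.trans map_pResidual_le) hPH
  have hXne : R₁ ⊔ P₀ ≠ H := by
    intro hX
    apply hne
    apply le_antisymm hR₁R
    rw [hR, map_pResidual_eq_closure, Subgroup.closure_le]
    rintro g ⟨hg, hgc⟩
    rw [← hX] at hg
    exact Cfsg.Agent.Lib.FF.mem_of_coprime_of_mem_sup hPR₁ hPp hg (orderOf_pos g).ne' hgc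
  have hYX := hmin (R₁ ⊔ P₀) le_sup_right (lt_of_le_of_ne hXH hXne)
  apply hYO
  set J := R₁ ⊔ Y with hJ
  have hJX : J ≤ R₁ ⊔ P₀ := sup_le le_sup_left (hYP.trans le_sup_right)
  have hRJ : R ≤ Subgroup.normalizer (J : Set G) := le_normalizer_sup_of_comm hRR₁ le_rfl
  have hPJ : P₀ ≤ Subgroup.normalizer (J : Set G) := le_normalizer_sup hPR₁ hP₀Y
  have hHJ : H ≤ Subgroup.normalizer (J : Set G) := by rw [← hsup]; exact sup_le hRJ hPJ
  have hYJ : Y ≤ pCoreOf p J := by
    have h1 : pCoreOf p (R₁ ⊔ P₀) ⊓ J ≤ pCoreOf p J :=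
      le_pCoreOf_of_normal ((pCoreOf_isPGroup _).to_le inf_le_left) inf_le_right
        (le_normalizer_inf (hJX.trans (le_normalizer_pCoreOf _)) Subgroup.le_normalizer)
    exact (le_inf hYX le_sup_right).trans h1
  exact hYJ.trans (le_pCoreOf_of_normal (pCoreOf_isPGroup J) ((pCoreOf_le_self J).trans (hJX.trans hXH))
    (hHJ.trans (normalizer_le_normalizer_pCoreOf J)))

theorem frakH_normalClosure_Y :
    (pResidual p ↥H).map H.subtype ⊔ Y =
      (Subgroup.normalClosure ((Y.subgroupOf H : Subgroup H) : Set H)).map H.subtype := by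
  have hcomm := frakH_commutator hPp hYP hPC hPH hYO hmin
  have hsup := frakH_sup_residual (p := p) hPH hYO hmin
  set R := (pResidual p ↥H).map H.subtype with hR
  haveI hWn : (Subgroup.normalClosure ((Y.subgroupOf H : Subgroup H) : Set H)).Normal :=
    Subgroup.normalClosure_normal
  set W := (Subgroup.normalClosure ((Y.subgroupOf H : Subgroup H) : Set H)).map H.subtype with hW
  have hHR : H ≤ Subgroup.normalizer (R : Set G) := Subgroup.le_normalizer.trans le_normalizer_map_pResidual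
  have hP₀Y : P₀ ≤ Subgroup.normalizer (Y : Set G) := hPC.trans (centralizer_le_normalizer' Y)
  have hYH : Y ≤ H := hYP.trans hPH
  have hHW : H ≤ Subgroup.normalizer (W : Set G) := le_normalizer_map_of_normal H _
  have hYW : Y ≤ W := by
    intro y hy
    exact ⟨⟨y, hYH hy⟩, Subgroup.subset_normalClosure (by simpa [Subgroup.mem_subgroupOf] using hy), rfl⟩
  have hRH : R ≤ H := map_pResidual_le
  apply le_antisymm
  · refine sup_le ?_ hYW
    have h1 : ⁅R, Y⁆ ≤ W := (Subgroup.commutator_mono le_rfl hYW).trans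
      (commutator_le_right_of_normalizer (hRH.trans hHW))
    exact le_of_eq_of_le hcomm.symm h1
  · have hRY : R ≤ Subgroup.normalizer ((R ⊔ Y : Subgroup G) : Set G) :=
      le_normalizer_sup_of_comm Subgroup.le_normalizer (commutator_le_left_of_normalizer (hYH.trans hHR))
    have hPY : P₀ ≤ Subgroup.normalizer ((R ⊔ Y : Subgroup G) : Set G) :=
      le_normalizer_sup (hPH.trans hHR) hP₀Y
    have hHN : H ≤ Subgroup.normalizer ((R ⊔ Y : Subgroup G) : Set G) := by
      rw [← hsup]; exact sup_le hRY hPY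
    haveI hn : ((R ⊔ Y).subgroupOf H).Normal := subgroupOf_normal_of_le_normalizer hHN
    have h2 : Subgroup.normalClosure ((Y.subgroupOf H : Subgroup H) : Set H) ≤ (R ⊔ Y).subgroupOf H := by
      apply Subgroup.normalClosure_le_normal
      intro y hy
      rw [SetLike.mem_coe, Subgroup.mem_subgroupOf] at hy ⊢
      exact Subgroup.mem_sup_right hy
    rintro _ ⟨x, hx, rfl⟩
    exact Subgroup.mem_subgroupOf.mp (h2 hx)

/-- The overgroups `H Q₁`, for `Q₁` a `p`-subgroup normalized by `H`. -/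
theorem frakH_overgroup (hwc : IsWeaklyClosedSubgroup p P₀) {Q₁ : Subgroup G} (hQ₁p : IsPGroup p Q₁)
    (hHQ : H ≤ Subgroup.normalizer (Q₁ : Set G)) :
    Q₁ ≤ pCoreOf p (H ⊔ Q₁) ∧ pCoreOf p (H ⊔ Q₁) ≤ Subgroup.normalizer (P₀ : Set G) ∧
      (H.subgroupOf (H ⊔ Q₁)).Normal ∧
      (pResidual p ↥H).map H.subtype = (pResidual p ↥(H ⊔ Q₁)).map (H ⊔ Q₁).subtype ∧
      IsPIrreducible p ↥(H ⊔ Q₁) := by
  have hsup := frakH_sup_residual (p := p) hPH hYO hmin
  have hcomm := frakH_commutator hPp hYP hPC hPH hYO hmin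
  have hcl := frakH_normalClosure_Y hPp hYP hPC hPH hYO hmin
  have hiS := frakH_iSup hPH hYO hmin
  set R := (pResidual p ↥H).map H.subtype with hR
  set X := H ⊔ Q₁ with hX
  have hHX : H ≤ X := le_sup_left
  have hXQ : X ≤ Subgroup.normalizer (Q₁ : Set G) := sup_le hHQ Subgroup.le_normalizer
  have h1 : Q₁ ≤ pCoreOf p X := le_pCoreOf_of_normal hQ₁p le_sup_right hXQ
  have hOX : X ≤ Subgroup.normalizer (pCoreOf p X : Set G) := le_normalizer_pCoreOf X
  have h2 : pCoreOf p X ≤ Subgroup.normalizer (P₀ : Set G) := by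
    have hSp : IsPGroup p ↥(P₀ ⊔ pCoreOf p X) :=
      IsPGroup.to_sup_of_normal_right' hPp (pCoreOf_isPGroup X) ((hPH.trans hHX).trans hOX)
    exact (le_sup_right : pCoreOf p X ≤ P₀ ⊔ pCoreOf p X).trans (wc_le_normalizer hwc hSp le_sup_left)
  have hQN : Q₁ ≤ Subgroup.normalizer (H : Set G) := by
    intro q hq
    apply mem_normalizer_of_map_conj_eq
    conv_lhs => rw [← hiS]
    rw [Subgroup.map_iSup]
    conv_rhs => rw [← hiS]
    refine iSup_congr fun l => ?_
    apply map_conj_eq_of_mem_normalizer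
    have h3 := map_conj_mono (l : G) (h1.trans h2)
    rw [map_conj_normalizer, map_conj_eq_of_mem_normalizer (hHQ l.2)] at h3
    exact h3 hq
  have hXH : X ≤ Subgroup.normalizer (H : Set G) := sup_le Subgroup.le_normalizer hQN
  have h3 : (H.subgroupOf X).Normal := subgroupOf_normal_of_le_normalizer hXH
  have hXR : X ≤ Subgroup.normalizer (R : Set G) := hXH.trans (normalizer_le_normalizer_map_pResidual H)
  have hJp : IsPGroup p ↥(P₀ ⊔ Q₁) := IsPGroup.to_sup_of_normal_right' hPp hQ₁p (hPH.trans hHQ)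
  have hXsup : X = R ⊔ (P₀ ⊔ Q₁) := by
    rw [hX, ← sup_assoc, hsup]
  have hJX : P₀ ⊔ Q₁ ≤ X := sup_le (hPH.trans hHX) le_sup_right
  have h4 : R = (pResidual p ↥X).map X.subtype := by
    apply le_antisymm (map_pResidual_mono hHX)
    rw [map_pResidual_eq_closure, Subgroup.closure_le]
    rintro g ⟨hg, hgc⟩
    rw [hXsup] at hg
    exact Cfsg.Agent.Lib.FF.mem_of_coprime_of_mem_sup (hJX.trans hXR) hJp hg (orderOf_pos g).ne' hgc
  refine ⟨h1, h2, h3, h4, ?_, ?_⟩
  · intro hc
    apply hYO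
    have hyp : IsPGroup p (Y.subgroupOf X) :=
      (hPp.to_le hYP).comap_of_injective X.subtype X.subtype_injective
    have hle := isPClosed_iff_le_pCore'.mp hc _ hyp
    have hYX : Y ≤ pCoreOf p X := by
      intro y hy
      have hyX : y ∈ X := hHX (hPH (hYP hy))
      exact ⟨⟨y, hyX⟩, hle (by rw [Subgroup.mem_subgroupOf]; exact hy), rfl⟩
    have h5 : pCoreOf p X ⊓ H ≤ pCoreOf p H :=
      le_pCoreOf_of_normal ((pCoreOf_isPGroup X).to_le inf_le_left) inf_le_right
        (le_normalizer_inf (hHX.trans hOX) Subgroup.le_normalizer)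
    exact (le_inf hYX (hYP.trans hPH)).trans h5
  · intro N hN hNc
    haveI := hN
    set Nt := N.map X.subtype with hNt
    have hXN : X ≤ Subgroup.normalizer (Nt : Set G) := le_normalizer_map_of_normal X N
    have hNtX : Nt ≤ X := Subgroup.map_subtype_le _
    suffices hs : R ≤ Nt by
      have : (pResidual p ↥X).map X.subtype ≤ N.map X.subtype := by rw [← h4]; exact hs
      exact (Subgroup.map_le_map_iff_of_injective X.subtype_injective).mp this
    set K₁ := Nt ⊔ P₀ with hK₁
    have hK₁X : K₁ ≤ X := sup_le hNtX (hPH.trans hHX)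
    by_cases hK : K₁ ⊓ H = H
    · rw [hR, map_pResidual_eq_closure, Subgroup.closure_le]
      rintro g ⟨hg, hgc⟩
      have hg' : g ∈ K₁ ⊓ H := by rw [hK]; exact hg
      exact Cfsg.Agent.Lib.FF.mem_of_coprime_of_mem_sup ((hPH.trans hHX).trans hXN) hPp hg'.1
        (orderOf_pos g).ne' hgc
    · exfalso
      apply hNc
      have hYK := hmin (K₁ ⊓ H) (le_inf le_sup_right hPH) (lt_of_le_of_ne inf_le_right hK)
      have hK₁K : K₁ ≤ Subgroup.normalizer ((K₁ ⊓ H : Subgroup G) : Set G) :=
        le_normalizer_inf Subgroup.le_normalizer (hK₁X.trans hXH)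
      have hYK₁ : Y ≤ pCoreOf p K₁ := hYK.trans (le_pCoreOf_of_normal (pCoreOf_isPGroup _)
        ((pCoreOf_le_self _).trans inf_le_left) (hK₁K.trans (normalizer_le_normalizer_pCoreOf _)))
      set O := pCoreOf p Nt with hO
      have hNtK₁ : Nt ≤ K₁ := le_sup_left
      have h6 : ⁅Nt, Y⁆ ≤ O := by
        have h7 : ⁅Nt, Y⁆ ≤ pCoreOf p K₁ ⊓ Nt := by
          refine le_inf ?_ (commutator_le_left_of_normalizer ((hYP.trans (hPH.trans hHX)).trans hXN))
          exact (Subgroup.commutator_mono le_rfl hYK₁).trans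
            (commutator_le_right_of_normalizer (hNtK₁.trans (le_normalizer_pCoreOf K₁)))
        exact h7.trans (le_pCoreOf_of_normal ((pCoreOf_isPGroup K₁).to_le inf_le_left) inf_le_right
          (le_normalizer_inf (hNtK₁.trans (le_normalizer_pCoreOf K₁)) Subgroup.le_normalizer))
      have hXO : X ≤ Subgroup.normalizer (O : Set G) := hXN.trans (normalizer_le_normalizer_pCoreOf Nt)
      have hHSt : H ≤ Subgroup.normalizer ((commStab Nt O : Subgroup G) : Set G) :=
        le_normalizer_commStab (hHX.trans hXN) (hHX.trans hXO)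
      have hYSt : Y ≤ commStab Nt O := by
        intro y hy
        exact ⟨hXO (hHX (hPH (hYP hy))), fun z hz => h6 (Subgroup.commutator_mem_commutator hz hy)⟩
      haveI hSn : ((commStab Nt O).subgroupOf H).Normal := subgroupOf_normal_of_le_normalizer hHSt
      have hWSt : (Subgroup.normalClosure ((Y.subgroupOf H : Subgroup H) : Set H)) ≤ (commStab Nt O).subgroupOf H := by
        apply Subgroup.normalClosure_le_normal
        intro y hy
        rw [SetLike.mem_coe, Subgroup.mem_subgroupOf] at hy ⊢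
        exact hYSt hy
      have hRSt : ∀ r ∈ R, r ∈ commStab Nt O := by
        intro r hr
        have h8 : r ∈ (Subgroup.normalClosure ((Y.subgroupOf H : Subgroup H) : Set H)).map H.subtype := by
          rw [← hcl]; exact Subgroup.mem_sup_left hr
        obtain ⟨w, hw, rfl⟩ := h8
        exact Subgroup.mem_subgroupOf.mp (hWSt hw)
      have hcl2 : IsPClosed p ↥Nt := by
        intro T
        refine sylow_normal_of_central_mod (pCore p ↥Nt)
          (Cfsg.Agent.Lib.Core.pCore_isPGroup p ↥Nt) ?_ T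
        intro x hx d
        have hx' : (orderOf (x : G)).Coprime p := by rwa [Subgroup.orderOf_coe]
        have hxR : (x : G) ∈ R := by
          rw [h4]
          exact mem_map_pResidual_of_coprime (hNtX x.2) hx'
        have h9 : ⁅(d : G), (x : G)⁆ ∈ O := (hRSt _ hxR).2 _ d.2
        have h10 : ⁅(x : G), (d : G)⁆ ∈ O := by
          rw [← commutatorElement_inv]
          exact Subgroup.inv_mem _ h9
        obtain ⟨y, hy, hyx⟩ := h10
        have : y = ⁅x, d⁆ := Subtype.ext hyx
        rwa [← this]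
      exact isPClosed_of_mulEquiv (N.equivMapOfInjective X.subtype X.subtype_injective).symm hcl2

end frakH

end Cfsg.Agent.Lib.Amalgam
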