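import Cfsg.Agent.Lib.Amalgam.GL2ModF2

/-!
# Subgroups `A₄` of `GL₂(ℤ/2ᵏ)`
-/

set_option autoImplicit false

namespace Cfsg.Agent.Lib.Amalgam.GL2Mod

open Matrix

/-- Reduction mod 2. -/
def pi2 (k : ℕ) (hk : 2 ≤ k) : ZMod (2 ^ k) →+* ZMod 2 :=
  ZMod.castHom (dvd_pow_self 2 (by omega)) (ZMod 2)

variable {k : ℕ} (hk : 2 ≤ k)

include hk in
theorem exists_two_mul_of_pi2_eq_zero {x : ZMod (2 ^ k)} (h : pi2 k hk x = 0) : ∃ s, x = 2 * s := by
  haveI : NeZero (2 ^ k) := ⟨by positivity⟩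
  have h1 : x = (x.val : ZMod (2 ^ k)) := (ZMod.natCast_zmod_val x).symm
  rw [h1, map_natCast, ZMod.natCast_eq_zero_iff] at h
  obtain ⟨m, hm⟩ := h
  rw [hm] at h1
  exact ⟨(m : ZMod (2 ^ k)), by rw [h1]; push_cast; ring⟩

theorem two_pow_eq_zero : (2 : ZMod (2 ^ k)) ^ k = 0 := by
  have := ZMod.natCast_self (2 ^ k)
  push_cast at this
  exact this

include hk in
theorem isUnit_of_pi2_eq_one {x : ZMod (2 ^ k)} (h : pi2 k hk x = 1) : IsUnit x := by
  have h1 : pi2 k hk (x - 1) = 0 := by rw [map_sub, h, map_one, sub_self]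
  obtain ⟨s, hs⟩ := exists_two_mul_of_pi2_eq_zero hk h1
  have hx : x = 1 + 2 * s := by rw [← hs]; ring
  rw [hx]
  apply IsNilpotent.isUnit_one_add
  exact ⟨k, by rw [mul_pow, two_pow_eq_zero, zero_mul]⟩

/-- The element `2^(k-1)`. -/
def tau0 (k : ℕ) : ZMod (2 ^ k) := (2 : ZMod (2 ^ k)) ^ (k - 1)

include hk in
theorem two_mul_tau0 : 2 * tau0 k = 0 := by
  rw [tau0, ← pow_succ', show k - 1 + 1 = k by omega, two_pow_eq_zero]

include hk in
theorem tau0_ne_zero : tau0 k ≠ 0 := by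
  intro h
  have h1 : ((2 ^ (k - 1) : ℕ) : ZMod (2 ^ k)) = 0 := by
    push_cast
    exact h
  rw [ZMod.natCast_eq_zero_iff] at h1
  have h2 := Nat.le_of_dvd (by positivity) h1
  have h3 : 2 ^ (k - 1) < 2 ^ k := Nat.pow_lt_pow_right (by norm_num) (by omega)
  omega

include hk in
/-- Elements killed by 2 are `0` or `2^(k-1)`. -/
theorem eq_zero_or_tau0 {x : ZMod (2 ^ k)} (h : 2 * x = 0) : x = 0 ∨ x = tau0 k := by
  haveI : NeZero (2 ^ k) := ⟨by positivity⟩
  have h1 : x = (x.val : ZMod (2 ^ k)) := (ZMod.natCast_zmod_val x).symm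
  have h2 : ((2 * x.val : ℕ) : ZMod (2 ^ k)) = 0 := by
    push_cast
    rw [← h1]
    exact h
  rw [ZMod.natCast_eq_zero_iff] at h2
  have hk' : 2 ^ k = 2 * 2 ^ (k - 1) := by
    rw [← pow_succ', show k - 1 + 1 = k by omega]
  have h2' : 2 * 2 ^ (k - 1) ∣ 2 * x.val := (dvd_of_eq hk'.symm).trans h2
  have h3 : 2 ^ (k - 1) ∣ x.val := Nat.dvd_of_mul_dvd_mul_left (by norm_num) h2'
  obtain ⟨m, hm⟩ := h3
  have hlt : x.val < 2 ^ k := ZMod.val_lt x
  have hm2 : m < 2 := by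
    by_contra hcon
    push Not at hcon
    have : 2 ^ (k - 1) * 2 ≤ 2 ^ (k - 1) * m := Nat.mul_le_mul_left _ hcon
    have hlt' : x.val < 2 * 2 ^ (k - 1) := hlt.trans_eq hk'
    omega
  interval_cases m
  · left
    rw [h1, hm]; simp
  · right
    rw [h1, hm]; simp [tau0]

/-- The lift of a bit to an element killed by 2. -/
def kap (k : ℕ) (b : ZMod 2) : ZMod (2 ^ k) := if b = 0 then 0 else tau0 k

@[simp] theorem kap_zero : kap k 0 = 0 := by simp [kap]
@[simp] theorem kap_one : kap k 1 = tau0 k := by simp [kap]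

theorem zmod2_cases (b : ZMod 2) : b = 0 ∨ b = 1 := by
  revert b; decide

include hk in
theorem kap_add (a b : ZMod 2) : kap k (a + b) = kap k a + kap k b := by
  rcases zmod2_cases a with rfl | rfl <;> rcases zmod2_cases b with rfl | rfl
  · simp
  · simp
  · simp
  · have : (1 + 1 : ZMod 2) = 0 := by decide
    rw [this, kap_zero, kap_one, ← two_mul, two_mul_tau0 hk]

include hk in
theorem kap_injective : Function.Injective (kap k) := by
  intro a b h
  rcases zmod2_cases a with rfl | rfl <;> rcases zmod2_cases b with rfl | rfl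
  · rfl
  · simp at h; exact absurd h.symm (tau0_ne_zero hk)
  · simp at h; exact absurd h (tau0_ne_zero hk)
  · rfl

include hk in
theorem mul_kap (d : ZMod (2 ^ k)) (b : ZMod 2) : d * kap k b = kap k (pi2 k hk d * b) := by
  rcases zmod2_cases b with rfl | rfl
  · simp
  · rw [mul_one, kap_one]
    rcases zmod2_cases (pi2 k hk d) with h | h
    · rw [h, kap_zero]
      obtain ⟨s, rfl⟩ := exists_two_mul_of_pi2_eq_zero hk h
      rw [mul_comm 2 s, mul_assoc, two_mul_tau0 hk, mul_zero]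
    · rw [h, kap_one]
      have h1 : pi2 k hk (d - 1) = 0 := by rw [map_sub, h, map_one, sub_self]
      obtain ⟨s, hs⟩ := exists_two_mul_of_pi2_eq_zero hk h1
      have hd : d = 1 + 2 * s := by rw [← hs]; ring
      rw [hd, add_mul, one_mul, mul_comm 2 s, mul_assoc, two_mul_tau0 hk, mul_zero, add_zero]

include hk in
theorem kap_mul (d : ZMod (2 ^ k)) (b : ZMod 2) : kap k b * d = kap k (b * pi2 k hk d) := by
  rw [mul_comm, mul_kap hk, mul_comm]

include hk in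
theorem exists_kap {x : ZMod (2 ^ k)} (h : 2 * x = 0) : ∃ b, x = kap k b := by
  rcases eq_zero_or_tau0 hk h with rfl | rfl
  · exact ⟨0, by simp⟩
  · exact ⟨1, by simp⟩

include hk in
theorem kap_mul_kap (a b : ZMod 2) : kap k a * kap k b = 0 := by
  rw [mul_kap hk]
  rcases zmod2_cases a with rfl | rfl
  · simp
  · have : pi2 k hk (kap k 1) = 0 := by
      rw [kap_one, tau0, map_pow, map_ofNat]
      have h2 : (2 : ZMod 2) = 0 := by decide
      rw [h2, zero_pow (by omega)]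
    rw [this, zero_mul, kap_zero]

theorem eqs_from_sq_det {R : Type*} [CommRing R] (a0 a1 a2 a3 : R) (h00 : a0 * a0 + a1 * a2 = 1)
    (h01 : a0 * a1 + a1 * a3 = 0) (h10 : a2 * a0 + a3 * a2 = 0) (h11 : a2 * a1 + a3 * a3 = 1)
    (hdet : a0 * a3 - a1 * a2 = 1) :
    (a0 + a3) * a0 = 2 ∧ (a0 + a3) * a3 = 2 ∧ (a0 + a3) * a1 = 0 ∧ (a0 + a3) * a2 = 0 :=
  ⟨by linear_combination h00 + hdet, by linear_combination h11 + hdet, by linear_combination h01,
    by linear_combination h10⟩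

/-- The arithmetic in the ring: `2 (A - 1) = 0`. -/
theorem two_eq_aux {R : Type*} [CommRing R] (a0 a1 a2 a3 b0 b1 b2 b3 c0 t : R) (hu : IsUnit a0)
    (ha0 : t * a0 = 2) (ha3 : t * a3 = 2) (ha1 : t * a1 = 0) (ha2 : t * a2 = 0)
    (hb0 : t * b0 = 2) (hc0 : t * c0 = 2) (hc : c0 = a0 * b0 + a1 * b2) :
    2 * a0 = 2 ∧ 2 * a1 = 0 ∧ 2 * a2 = 0 ∧ 2 * a3 = 2 := by
  have h1 : 2 * a1 = 0 := by
    have : 2 * a1 = a0 * (t * a1) := by rw [← ha0]; ring
    rw [this, ha1, mul_zero]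
  have h2 : 2 * a2 = 0 := by
    have : 2 * a2 = a0 * (t * a2) := by rw [← ha0]; ring
    rw [this, ha2, mul_zero]
  have h3 : 2 * a0 = 2 * b0 := by
    have : 2 * a0 - 2 * b0 = a0 * (t * a0 - t * b0) := by linear_combination (-a0 + b0) * ha0
    rw [ha0, hb0, sub_self, mul_zero] at this
    exact sub_eq_zero.mp this
  have h4 : 2 * a0 = 2 * c0 := by
    have : 2 * a0 - 2 * c0 = a0 * (t * a0 - t * c0) := by linear_combination (-a0 + c0) * ha0
    rw [ha0, hc0, sub_self, mul_zero] at this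
    exact sub_eq_zero.mp this
  have h5 : a0 * (2 * a0) = a0 * 2 := by
    have e1 : 2 * c0 = a0 * (2 * b0) + (2 * a1) * b2 := by rw [hc]; ring
    rw [h1, zero_mul, add_zero, ← h3, ← h4] at e1
    rw [← e1]; ring
  have h6 : 2 * a0 = 2 := hu.mul_left_cancel h5
  refine ⟨h6, h1, h2, ?_⟩
  have h7 : 2 * a0 - 2 * a3 = a0 * (t * a0 - t * a3) := by linear_combination (-a0 + a3) * ha0
  rw [ha0, ha3, sub_self, mul_zero] at h7
  rw [← sub_eq_zero.mp h7, h6]

include hk in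
theorem conv_eq (d e f g : ZMod (2 ^ k)) (a b u v : ZMod 2)
    (h : d * kap k a + e * kap k b = kap k u * f + kap k v * g) :
    pi2 k hk d * a + pi2 k hk e * b = u * pi2 k hk f + v * pi2 k hk g := by
  apply kap_injective hk
  rw [kap_add hk, kap_add hk, ← mul_kap hk, ← mul_kap hk, ← kap_mul hk, ← kap_mul hk]
  exact h

include hk in
theorem form_aux (a0 a1 a2 a3 b0 b1 b2 b3 c0 c1 c2 c3 d0 d1 d2 d3 : ZMod (2 ^ k))
    (h2a : 2 * a0 = 2 ∧ 2 * a1 = 0 ∧ 2 * a2 = 0 ∧ 2 * a3 = 2)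
    (h2b : 2 * b0 = 2 ∧ 2 * b1 = 0 ∧ 2 * b2 = 0 ∧ 2 * b3 = 2)
    (hc0 : c0 = a0 * b0 + a1 * b2) (hc1 : c1 = a0 * b1 + a1 * b3)
    (hc2 : c2 = a2 * b0 + a3 * b2) (hc3 : c3 = a2 * b1 + a3 * b3)
    (hdet : pi2 k hk d0 * pi2 k hk d3 + pi2 k hk d1 * pi2 k hk d2 = 1)
    (dA00 : d0 * a0 + d1 * a2 = b0 * d0 + b1 * d2) (dA01 : d0 * a1 + d1 * a3 = b0 * d1 + b1 * d3)
    (dA10 : d2 * a0 + d3 * a2 = b2 * d0 + b3 * d2) (dA11 : d2 * a1 + d3 * a3 = b2 * d1 + b3 * d3)
    (dB00 : d0 * b0 + d1 * b2 = c0 * d0 + c1 * d2) (dB01 : d0 * b1 + d1 * b3 = c0 * d1 + c1 * d3)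
    (dB10 : d2 * b0 + d3 * b2 = c2 * d0 + c3 * d2) (dB11 : d2 * b1 + d3 * b3 = c2 * d1 + c3 * d3)
    (dC00 : d0 * c0 + d1 * c2 = a0 * d0 + a1 * d2) (dC01 : d0 * c1 + d1 * c3 = a0 * d1 + a1 * d3)
    (dC10 : d2 * c0 + d3 * c2 = a2 * d0 + a3 * d2) (dC11 : d2 * c1 + d3 * c3 = a2 * d1 + a3 * d3) :
    ∃ p q : ZMod 2, a0 = 1 + kap k p ∧ a1 = kap k q ∧ a2 = kap k (p + q) ∧ a3 = 1 + kap k p := by
  obtain ⟨ha0, ha1, ha2, ha3⟩ := h2a
  obtain ⟨hb0, hb1, hb2, hb3⟩ := h2b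
  obtain ⟨x0, hx0⟩ := exists_kap hk (x := a0 - 1) (by rw [mul_sub, ha0]; ring)
  obtain ⟨x1, hx1⟩ := exists_kap hk ha1
  obtain ⟨x2, hx2⟩ := exists_kap hk ha2
  obtain ⟨x3, hx3⟩ := exists_kap hk (x := a3 - 1) (by rw [mul_sub, ha3]; ring)
  obtain ⟨y0, hy0⟩ := exists_kap hk (x := b0 - 1) (by rw [mul_sub, hb0]; ring)
  obtain ⟨y1, hy1⟩ := exists_kap hk hb1
  obtain ⟨y2, hy2⟩ := exists_kap hk hb2
  obtain ⟨y3, hy3⟩ := exists_kap hk (x := b3 - 1) (by rw [mul_sub, hb3]; ring)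
  have ea0 : a0 = 1 + kap k x0 := by rw [← hx0]; ring
  have ea3 : a3 = 1 + kap k x3 := by rw [← hx3]; ring
  have eb0 : b0 = 1 + kap k y0 := by rw [← hy0]; ring
  have eb3 : b3 = 1 + kap k y3 := by rw [← hy3]; ring
  subst ea0 ea3 eb0 eb3 hx1 hx2 hy1 hy2
  have mm := fun a b => kap_mul_kap hk (k := k) a b
  have ec0 : c0 = 1 + kap k (x0 + y0) := by
    rw [hc0, kap_add hk]; linear_combination mm x0 y0 + mm x1 y2
  have ec1 : c1 = kap k (x1 + y1) := by
    rw [hc1, kap_add hk]; linear_combination mm x0 y1 + mm x1 y3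
  have ec2 : c2 = kap k (x2 + y2) := by
    rw [hc2, kap_add hk]; linear_combination mm x2 y0 + mm x3 y2
  have ec3 : c3 = 1 + kap k (x3 + y3) := by
    rw [hc3, kap_add hk]; linear_combination mm x2 y1 + mm x3 y3
  subst ec0 ec1 ec2 ec3
  have key := f2_step3 x0 x1 x2 x3 y0 y1 y2 y3 (pi2 k hk d0) (pi2 k hk d1) (pi2 k hk d2) (pi2 k hk d3)
    hdet
    (conv_eq hk _ _ _ _ _ _ _ _ (by linear_combination dA00))
    (conv_eq hk _ _ _ _ _ _ _ _ (by linear_combination dA01))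
    (conv_eq hk _ _ _ _ _ _ _ _ (by linear_combination dA10))
    (conv_eq hk _ _ _ _ _ _ _ _ (by linear_combination dA11))
    (conv_eq hk _ _ _ _ _ _ _ _ (by linear_combination dB00))
    (conv_eq hk _ _ _ _ _ _ _ _ (by linear_combination dB01))
    (conv_eq hk _ _ _ _ _ _ _ _ (by linear_combination dB10))
    (conv_eq hk _ _ _ _ _ _ _ _ (by linear_combination dB11))
    (conv_eq hk _ _ _ _ _ _ _ _ (by linear_combination dC00))
    (conv_eq hk _ _ _ _ _ _ _ _ (by linear_combination dC01))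
    (conv_eq hk _ _ _ _ _ _ _ _ (by linear_combination dC10))
    (conv_eq hk _ _ _ _ _ _ _ _ (by linear_combination dC11))
  obtain ⟨k1, k2⟩ := key
  subst k1
  subst k2
  exact ⟨x0, x1, rfl, rfl, rfl, rfl⟩

section GLpart

/-- The group. -/
abbrev GG (k : ℕ) := GL (Fin 2) (ZMod (2 ^ k))

/-- The relations of the Klein four-group with its automorphism of order 3. -/
structure KT {k : ℕ} (A B D : GG k) : Prop where
  hA : A * A = 1
  hB : B * B = 1
  h1 : D * A * D⁻¹ = B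
  h2 : D * B * D⁻¹ = A * B
  h3 : D * (A * B) * D⁻¹ = A

variable {A B D : GG k}

theorem KT.hC (h : KT A B D) : (A * B) * (A * B) = 1 := by
  rw [← h.h2]
  have : D * B * D⁻¹ * (D * B * D⁻¹) = D * (B * B) * D⁻¹ := by group
  rw [this, h.hB]
  group

theorem KT.rot (h : KT A B D) : KT B (A * B) D := by
  have hBC : B * (A * B) = A := by
    have h1 := h.hC
    have h2 : A * (A * B * (A * B)) = A := by rw [h1, mul_one]
    have h3 : A * (A * B * (A * B)) = (A * A) * (B * (A * B)) := by group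
    rw [h3, h.hA, one_mul] at h2
    exact h2
  refine ⟨h.hB, h.hC, h.h2, ?_, ?_⟩
  · rw [hBC]; exact h.h3
  · rw [hBC]; exact h.h1

theorem mul_entry2 {R : Type*} [CommRing R] (M N : Matrix (Fin 2) (Fin 2) R) (i j : Fin 2) :
    (M * N) i j = M i 0 * N 0 j + M i 1 * N 1 j := by
  rw [Matrix.mul_apply, Fin.sum_univ_two]

theorem KT.mA (h : KT A B D) : A.val * A.val = 1 := by rw [← Units.val_mul, h.hA, Units.val_one]
theorem KT.mB (h : KT A B D) : B.val * B.val = 1 := by rw [← Units.val_mul, h.hB, Units.val_one]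

theorem KT.dA (h : KT A B D) : D.val * A.val = B.val * D.val := by
  rw [← Units.val_mul, ← Units.val_mul, ← (mul_inv_eq_iff_eq_mul).mp h.h1]

theorem KT.dB (h : KT A B D) : D.val * B.val = (A.val * B.val) * D.val := by
  rw [← Units.val_mul, ← Units.val_mul, ← Units.val_mul, ← (mul_inv_eq_iff_eq_mul).mp h.h2]

theorem KT.dC (h : KT A B D) : D.val * (A.val * B.val) = A.val * D.val := by
  rw [← Units.val_mul, ← Units.val_mul, ← Units.val_mul, ← (mul_inv_eq_iff_eq_mul).mp h.h3]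

theorem det_val_eq_one_of_isUnit (hk : 2 ≤ k) (D : GG k) :
    pi2 k hk (D.val 0 0) * pi2 k hk (D.val 1 1) + pi2 k hk (D.val 0 1) * pi2 k hk (D.val 1 0) = 1 := by
  have h1 : IsUnit (D.val.det) := Matrix.isUnits_det_units D
  have h2 : IsUnit (pi2 k hk D.val.det) := h1.map _
  rw [Matrix.det_fin_two, map_sub, map_mul, map_mul, CharTwo.sub_eq_add] at h2
  rcases zmod2_cases (pi2 k hk (D.val 0 0) * pi2 k hk (D.val 1 1) +
    pi2 k hk (D.val 0 1) * pi2 k hk (D.val 1 0)) with h3 | h3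
  · rw [h3] at h2
    exact absurd h2 not_isUnit_zero
  · exact h3

theorem KT.pi_vals (hk : 2 ≤ k) (h : KT A B D) :
    pi2 k hk (A.val 0 0) = 1 ∧ pi2 k hk (A.val 0 1) = 0 ∧ pi2 k hk (A.val 1 0) = 0 ∧
      pi2 k hk (A.val 1 1) = 1 := by
  have e : ∀ {M N : Matrix (Fin 2) (Fin 2) (ZMod (2 ^ k))} (_ : M = N) (i j : Fin 2),
      pi2 k hk (M i j) = pi2 k hk (N i j) := by
    rintro M N rfl i j
    rfl
  have hA := e h.mA
  have hB := e h.mB
  have h1 := e h.dA
  have h2 := e h.dB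
  simp only [mul_entry2, map_add, map_mul] at hA hB h1 h2
  have hA' : ∀ i j, _ = pi2 k hk ((1 : Matrix (Fin 2) (Fin 2) (ZMod (2 ^ k))) i j) := hA
  have hB' : ∀ i j, _ = pi2 k hk ((1 : Matrix (Fin 2) (Fin 2) (ZMod (2 ^ k))) i j) := hB
  have one00 : pi2 k hk ((1 : Matrix (Fin 2) (Fin 2) (ZMod (2 ^ k))) 0 0) = 1 := by simp
  have one01 : pi2 k hk ((1 : Matrix (Fin 2) (Fin 2) (ZMod (2 ^ k))) 0 1) = 0 := by simp
  have one10 : pi2 k hk ((1 : Matrix (Fin 2) (Fin 2) (ZMod (2 ^ k))) 1 0) = 0 := by simp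
  have one11 : pi2 k hk ((1 : Matrix (Fin 2) (Fin 2) (ZMod (2 ^ k))) 1 1) = 1 := by simp
  exact f2_step1 _ _ _ _ _ _ _ _ _ _ _ _ (by
      have := det_val_eq_one_of_isUnit hk D
      linear_combination this)
    ((hA 0 0).trans one00) ((hA 0 1).trans one01) ((hA 1 0).trans one10) ((hA 1 1).trans one11)
    ((hB 0 0).trans one00) ((hB 0 1).trans one01) ((hB 1 0).trans one10) ((hB 1 1).trans one11)
    (h1 0 0) (h1 0 1) (h1 1 0) (h1 1 1) (h2 0 0) (h2 0 1) (h2 1 0) (h2 1 1)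

theorem KT.det_eq (h : KT A B D) : A.val.det = 1 ∧ B.val.det = 1 := by
  have e1 := congrArg Matrix.GeneralLinearGroup.det h.h1
  have e2 := congrArg Matrix.GeneralLinearGroup.det h.h2
  simp only [map_mul, map_inv] at e1 e2
  have e3 : Matrix.GeneralLinearGroup.det A = Matrix.GeneralLinearGroup.det B := by
    rw [← e1, mul_comm (Matrix.GeneralLinearGroup.det D), mul_inv_cancel_right]
  have e4 : Matrix.GeneralLinearGroup.det B =
      Matrix.GeneralLinearGroup.det A * Matrix.GeneralLinearGroup.det B := by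
    rw [← e2, mul_comm (Matrix.GeneralLinearGroup.det D), mul_inv_cancel_right]
  have e5 : Matrix.GeneralLinearGroup.det A = 1 := by
    have := mul_eq_right.mp e4.symm
    exact this
  have e6 : Matrix.GeneralLinearGroup.det B = 1 := by rw [← e3, e5]
  constructor
  · have := congrArg Units.val e5
    simpa [Matrix.GeneralLinearGroup.val_det_apply] using this
  · have := congrArg Units.val e6
    simpa [Matrix.GeneralLinearGroup.val_det_apply] using this

theorem KT.trace_eq (h : KT A B D) : A.val 0 0 + A.val 1 1 = B.val 0 0 + B.val 1 1 := by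
  have e1 : B.val = D.val * A.val * (D⁻¹).val := by
    rw [← h.h1]; rfl
  have e2 : Matrix.trace B.val = Matrix.trace A.val := by
    rw [e1, Matrix.trace_mul_comm, ← mul_assoc, ← Units.val_mul, inv_mul_cancel, Units.val_one, one_mul]
  rw [Matrix.trace_fin_two, Matrix.trace_fin_two] at e2
  exact e2.symm

theorem KT.tr_eqs (h : KT A B D) :
    (A.val 0 0 + A.val 1 1) * A.val 0 0 = 2 ∧ (A.val 0 0 + A.val 1 1) * A.val 1 1 = 2 ∧
      (A.val 0 0 + A.val 1 1) * A.val 0 1 = 0 ∧ (A.val 0 0 + A.val 1 1) * A.val 1 0 = 0 := by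
  have hA := fun i j => congrFun (congrFun h.mA i) j
  simp only [mul_entry2] at hA
  have hdet := h.det_eq.1
  rw [Matrix.det_fin_two] at hdet
  exact eqs_from_sq_det _ _ _ _ (by simpa using hA 0 0) (by simpa using hA 0 1) (by simpa using hA 1 0)
    (by simpa using hA 1 1) hdet

/-- `A ≡ 1` modulo `2^(k-1)`. -/
theorem KT.two_eq (hk : 2 ≤ k) (h : KT A B D) :
    2 * A.val 0 0 = 2 ∧ 2 * A.val 0 1 = 0 ∧ 2 * A.val 1 0 = 0 ∧ 2 * A.val 1 1 = 2 := by
  have hrot := h.rot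
  have hA := h.tr_eqs
  have hB := hrot.tr_eqs
  have hC := hrot.rot.tr_eqs
  have ht1 := h.trace_eq
  have ht2 := hrot.trace_eq
  have hu := isUnit_of_pi2_eq_one hk (h.pi_vals hk).1
  apply two_eq_aux (A.val 0 0) (A.val 0 1) (A.val 1 0) (A.val 1 1) (B.val 0 0) (B.val 0 1) (B.val 1 0)
    (B.val 1 1) ((A * B).val 0 0) (A.val 0 0 + A.val 1 1) hu hA.1 hA.2.1 hA.2.2.1 hA.2.2.2
  · rw [ht1]; exact hB.1
  · rw [ht1, ht2]; exact hC.1
  · show (A.val * B.val) 0 0 = _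
    rw [mul_entry2]

theorem KT.form (hk : 2 ≤ k) (h : KT A B D) :
    ∃ p q : ZMod 2, A.val 0 0 = 1 + kap k p ∧ A.val 0 1 = kap k q ∧ A.val 1 0 = kap k (p + q) ∧
      A.val 1 1 = 1 + kap k p := by
  have dA := fun i j => congrFun (congrFun h.dA i) j
  have dB := fun i j => congrFun (congrFun h.dB i) j
  have dC := fun i j => congrFun (congrFun h.dC i) j
  simp only [mul_entry2] at dA dB dC
  have hC : ∀ i j, (A.val * B.val) i j = A.val i 0 * B.val 0 j + A.val i 1 * B.val 1 j :=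
    fun i j => mul_entry2 _ _ i j
  apply form_aux hk (A.val 0 0) (A.val 0 1) (A.val 1 0) (A.val 1 1) (B.val 0 0) (B.val 0 1) (B.val 1 0)
    (B.val 1 1) ((A.val * B.val) 0 0) ((A.val * B.val) 0 1) ((A.val * B.val) 1 0) ((A.val * B.val) 1 1)
    (D.val 0 0) (D.val 0 1) (D.val 1 0) (D.val 1 1) (h.two_eq hk) (h.rot.two_eq hk)
    (hC 0 0) (hC 0 1) (hC 1 0) (hC 1 1) (det_val_eq_one_of_isUnit hk D)
  · exact dA 0 0
  · exact dA 0 1
  · exact dA 1 0
  · exact dA 1 1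
  · simpa [hC] using dB 0 0
  · simpa [hC] using dB 0 1
  · simpa [hC] using dB 1 0
  · simpa [hC] using dB 1 1
  · simpa [hC] using dC 0 0
  · simpa [hC] using dC 0 1
  · simpa [hC] using dC 1 0
  · simpa [hC] using dC 1 1

/-- The common set of elements. -/
def S0 (k : ℕ) : Set (GG k) :=
  {g | ∃ p q : ZMod 2, g.val 0 0 = 1 + kap k p ∧ g.val 0 1 = kap k q ∧ g.val 1 0 = kap k (p + q) ∧
    g.val 1 1 = 1 + kap k p}

/-- Extract the bit. -/
noncomputable def bit (k : ℕ) (x : ZMod (2 ^ k)) : ZMod 2 := by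
  classical
  exact if x = tau0 k then 1 else 0

include hk in
theorem bit_kap (p : ZMod 2) : bit k (kap k p) = p := by
  classical
  rcases zmod2_cases p with rfl | rfl
  · have : (0 : ZMod (2 ^ k)) ≠ tau0 k := (tau0_ne_zero hk).symm
    simp [bit, this]
  · simp [bit]

include hk in
theorem ncard_S0_le : (S0 k).ncard ≤ 4 := by
  classical
  have h := Set.ncard_le_ncard_of_injOn (s := S0 k) (t := (Set.univ : Set (ZMod 2 × ZMod 2)))
    (fun g => (bit k (g.val 0 0 - 1), bit k (g.val 0 1))) (fun _ _ => Set.mem_univ _) ?_ Set.finite_univ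
  · have h2 : (Set.univ : Set (ZMod 2 × ZMod 2)).ncard = 4 := by
      rw [Set.ncard_univ, Nat.card_prod, Nat.card_zmod]
    omega
  · rintro g ⟨p, q, g0, g1, g2, g3⟩ g' ⟨p', q', g0', g1', g2', g3'⟩ he
    simp only [Prod.mk.injEq] at he
    obtain ⟨e1, e2⟩ := he
    rw [g0, g0', add_sub_cancel_left, add_sub_cancel_left, bit_kap hk, bit_kap hk] at e1
    rw [g1, g1', bit_kap hk, bit_kap hk] at e2
    subst e1 e2
    apply Units.ext
    ext i j
    fin_cases i <;> fin_cases j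
    · exact g0.trans g0'.symm
    · exact g1.trans g1'.symm
    · exact g2.trans g2'.symm
    · exact g3.trans g3'.symm

theorem one_mem_S0 : (1 : GG k) ∈ S0 k := by
  refine ⟨0, 0, ?_, ?_, ?_, ?_⟩ <;> simp

theorem KT.mem_S0 (hk : 2 ≤ k) (h : KT A B D) : A ∈ S0 k := h.form hk

end GLpart

theorem orderOf_conj_eq_aux {X : Type*} [Group X] (g x : X) : orderOf (g * x * g⁻¹) = orderOf x := by
  have := orderOf_injective (MulAut.conj g).toMonoidHom (MulAut.conj g).injective x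
  exact this

section Sylow3

include hk in
theorem exists_scalar_of_pi2 {g : GG k}
    (hg : ∀ i j, pi2 k hk (g.val i j) = (1 : Matrix (Fin 2) (Fin 2) (ZMod 2)) i j) :
    ∃ Y : Matrix (Fin 2) (Fin 2) (ZMod (2 ^ k)), g.val = 1 + (2 : ZMod (2 ^ k)) • Y := by
  have h1 : ∀ i j, ∃ s, (g.val - 1) i j = 2 * s := by
    intro i j
    apply exists_two_mul_of_pi2_eq_zero hk
    rw [Matrix.sub_apply, map_sub, hg i j]
    by_cases hij : i = j
    · subst hij; simp
    · simp [hij]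
  choose Y hY using h1
  refine ⟨Matrix.of Y, ?_⟩
  ext i j
  have := hY i j
  rw [Matrix.sub_apply, sub_eq_iff_eq_add] at this
  rw [this, Matrix.add_apply, Matrix.smul_apply, smul_eq_mul, add_comm]
  rfl

theorem pow_two_pow_one_add (Y : Matrix (Fin 2) (Fin 2) (ZMod (2 ^ k))) (j : ℕ) :
    ∃ Y' : Matrix (Fin 2) (Fin 2) (ZMod (2 ^ k)),
      (1 + (2 : ZMod (2 ^ k)) • Y) ^ (2 ^ j) = 1 + ((2 : ZMod (2 ^ k)) ^ (j + 1)) • Y' := by
  induction j with
  | zero => exact ⟨Y, by simp⟩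
  | succ j ih =>
    obtain ⟨Y', hY'⟩ := ih
    refine ⟨Y' + ((2 : ZMod (2 ^ k)) ^ j) • (Y' * Y'), ?_⟩
    rw [pow_succ 2 j, pow_mul, hY', sq]
    simp only [add_mul, mul_add, one_mul, mul_one, smul_mul_assoc, mul_smul_comm, smul_add, smul_smul]
    have e1 : (2 : ZMod (2 ^ k)) ^ (j + 1) * (2 : ZMod (2 ^ k)) ^ (j + 1) =
        (2 : ZMod (2 ^ k)) ^ (j + 1 + 1) * (2 : ZMod (2 ^ k)) ^ j := by ring
    rw [e1, add_assoc, ← add_assoc (_ • Y'), ← add_smul]
    have e2 : (2 : ZMod (2 ^ k)) ^ (j + 1) + (2 : ZMod (2 ^ k)) ^ (j + 1) =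
        (2 : ZMod (2 ^ k)) ^ (j + 1 + 1) := by ring
    rw [e2]

/-- The reduction map. -/
def rhoGL (k : ℕ) (hk : 2 ≤ k) : GG k →* GL (Fin 2) (ZMod 2) :=
  Matrix.GeneralLinearGroup.map (pi2 k hk)

include hk in
theorem isPGroup_ker_rhoGL : IsPGroup 2 (rhoGL k hk).ker := by
  rintro ⟨g, hg⟩
  refine ⟨k, ?_⟩
  have hg1 : rhoGL k hk g = 1 := hg
  have hent : ∀ i j, pi2 k hk (g.val i j) = (1 : Matrix (Fin 2) (Fin 2) (ZMod 2)) i j := by
    intro i j
    have := congrArg (fun x : GL (Fin 2) (ZMod 2) => x.val i j) hg1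
    simpa [rhoGL] using this
  obtain ⟨Y, hY⟩ := exists_scalar_of_pi2 hk hent
  obtain ⟨Y', hY'⟩ := pow_two_pow_one_add Y k
  apply Subtype.ext
  apply Units.ext
  show (g ^ (2 ^ k)).val = 1
  rw [Units.val_pow_eq_pow_val, hY, hY', pow_succ, two_pow_eq_zero, zero_mul, zero_smul, add_zero]

include hk in
theorem not_nine_dvd_card : ¬ 9 ∣ Nat.card (GG k) := by
  intro h9
  have h1 := Subgroup.card_mul_index (rhoGL k hk).ker
  rw [Subgroup.index_ker] at h1
  obtain ⟨m, hm⟩ := IsPGroup.iff_card.mp (isPGroup_ker_rhoGL hk)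
  have h2 : Nat.card (rhoGL k hk).range ∣ 6 := by
    have h3 := Subgroup.card_subgroup_dvd_card (rhoGL k hk).range
    have h4 : Nat.card (GL (Fin 2) (ZMod 2)) = 6 := by
      rw [Matrix.card_GL_field]
      simp [ZMod.card, Fin.prod_univ_two]
    rwa [h4] at h3
  rw [← h1, hm] at h9
  have h5 : Nat.Coprime 9 (2 ^ m) := Nat.Coprime.pow_right m (by norm_num)
  have h6 := h5.dvd_of_dvd_mul_left h9
  have h7 := h6.trans h2
  omega

include hk in
/-- Two cyclic subgroups of order 3 are conjugate. -/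
theorem exists_conj_zpowers {d₁ d₂ : GG k} (h₁ : orderOf d₁ = 3) (h₂ : orderOf d₂ = 3) :
    ∃ g : GG k, (Subgroup.zpowers d₁).map (MulAut.conj g).toMonoidHom = Subgroup.zpowers d₂ := by
  haveI : NeZero (2 ^ k) := ⟨by positivity⟩
  haveI : Fact (Nat.Prime 3) := ⟨by norm_num⟩
  have key : ∀ d : GG k, orderOf d = 3 → IsPGroup 3 (Subgroup.zpowers d) ∧ ¬ 3 ∣ (Subgroup.zpowers d).index := by
    intro d hd
    have hc : Nat.card (Subgroup.zpowers d) = 3 := by rw [Nat.card_zpowers, hd]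
    constructor
    · apply IsPGroup.of_card (n := 1)
      rw [hc, pow_one]
    · intro h3
      apply not_nine_dvd_card hk
      rw [← Subgroup.card_mul_index (Subgroup.zpowers d), hc]
      exact Nat.mul_dvd_mul_left 3 h3
  let P₁ := (key d₁ h₁).1.toSylow (key d₁ h₁).2
  let P₂ := (key d₂ h₂).1.toSylow (key d₂ h₂).2
  obtain ⟨g, hg⟩ := MulAction.exists_smul_eq (GG k) P₁ P₂
  refine ⟨g, ?_⟩
  have h3 : ((g • P₁ : Sylow 3 (GG k)) : Subgroup (GG k)) = P₂ := congrArg _ hg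
  rw [Sylow.coe_subgroup_smul] at h3
  exact h3

end Sylow3

section A4

/-- The alternating group of degree 4. -/
abbrev A4 := alternatingGroup (Fin 4)

/-- `(0 1)(2 3)` -/
def a4a : A4 := ⟨Equiv.swap 0 1 * Equiv.swap 2 3, by
  rw [Equiv.Perm.mem_alternatingGroup, map_mul, Equiv.Perm.sign_swap (by decide), Equiv.Perm.sign_swap (by decide)]
  rfl⟩
/-- `(0 2)(1 3)` -/
def a4b : A4 := ⟨Equiv.swap 0 2 * Equiv.swap 1 3, by
  rw [Equiv.Perm.mem_alternatingGroup, map_mul, Equiv.Perm.sign_swap (by decide), Equiv.Perm.sign_swap (by decide)]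
  rfl⟩
/-- `(1 2 3)` -/
def a4d : A4 := ⟨Equiv.swap 1 2 * Equiv.swap 2 3, by
  rw [Equiv.Perm.mem_alternatingGroup, map_mul, Equiv.Perm.sign_swap (by decide), Equiv.Perm.sign_swap (by decide)]
  rfl⟩

/-- The Klein subgroup, as a finite set. -/
def a4kl : Finset A4 := {1, a4a, a4b, a4a * a4b}

/-- The Klein subgroup. -/
def a4K : Subgroup A4 where
  carrier := a4kl
  mul_mem' := by
    have : ∀ x ∈ a4kl, ∀ y ∈ a4kl, x * y ∈ a4kl := by decide
    exact fun {x y} hx hy => this x hx y hy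
  one_mem' := by
    have : (1 : A4) ∈ a4kl := by decide
    exact this
  inv_mem' := by
    have : ∀ x ∈ a4kl, x⁻¹ ∈ a4kl := by decide
    exact fun {x} hx => this x hx

theorem a4K_card : Nat.card a4K = 4 := by
  have h1 : Nat.card a4K = (a4K : Set A4).ncard := (Nat.card_coe_set_eq _)
  have h2 : (a4K : Set A4) = (a4kl : Set A4) := rfl
  rw [h1, h2, Set.ncard_coe_finset]
  decide

theorem a4_card : Nat.card A4 = 12 := by
  have h := two_mul_nat_card_alternatingGroup (α := Fin 4)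
  rw [Nat.card_perm, Nat.card_eq_fintype_card (α := Fin 4), Fintype.card_fin] at h
  have h2 : Nat.factorial 4 = 24 := rfl
  rw [h2] at h
  show Nat.card (alternatingGroup (Fin 4)) = 12
  omega

theorem a4d_order : orderOf a4d = 3 := by
  haveI : Fact (Nat.Prime 3) := ⟨by norm_num⟩
  apply orderOf_eq_prime
  · decide
  · decide

theorem a4_rel1 : a4d * a4a * a4d⁻¹ = a4b := by decide
theorem a4_rel2 : a4d * a4b * a4d⁻¹ = a4a * a4b := by decide
theorem a4_rel3 : a4d * (a4a * a4b) * a4d⁻¹ = a4a := by decide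
theorem a4_a2 : a4a * a4a = 1 := by decide
theorem a4_b2 : a4b * a4b = 1 := by decide

include hk in
/-- The image of the Klein subgroup under an embedding of `A₄` is the fixed set. -/
theorem map_a4K_eq (f : A4 →* GG k) (hf : Function.Injective f) :
    ((a4K.map f : Subgroup (GG k)) : Set (GG k)) = S0 k := by
  have hKT : KT (f a4a) (f a4b) (f a4d) := by
    refine ⟨?_, ?_, ?_, ?_, ?_⟩
    · rw [← map_mul, a4_a2, map_one]
    · rw [← map_mul, a4_b2, map_one]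
    · rw [← map_inv, ← map_mul, ← map_mul, a4_rel1]
    · rw [← map_inv, ← map_mul, ← map_mul, a4_rel2, map_mul]
    · rw [← map_inv, ← map_mul, ← map_mul, ← map_mul, a4_rel3]
  haveI : NeZero (2 ^ k) := ⟨by positivity⟩
  have hsub : ((a4K.map f : Subgroup (GG k)) : Set (GG k)) ⊆ S0 k := by
    rintro _ ⟨x, hx, rfl⟩
    have hx' : x ∈ a4kl := hx
    simp only [a4kl, Finset.mem_insert, Finset.mem_singleton] at hx'
    rcases hx' with rfl | rfl | rfl | rfl
    · rw [map_one]; exact one_mem_S0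
    · exact hKT.mem_S0 hk
    · exact hKT.rot.mem_S0 hk
    · rw [map_mul]; exact hKT.rot.rot.mem_S0 hk
  apply Set.eq_of_subset_of_ncard_le hsub
  · have h1 : ((a4K.map f : Subgroup (GG k)) : Set (GG k)).ncard = 4 := by
      rw [Subgroup.coe_map, Set.ncard_image_of_injective _ hf]
      exact (Nat.card_coe_set_eq _).symm.trans a4K_card
    rw [h1]
    exact ncard_S0_le hk

end A4

include hk in
theorem main_conj (H₁ H₂ : Subgroup (GG k)) (h₁ : Nonempty (↥H₁ ≃* A4)) (h₂ : Nonempty (↥H₂ ≃* A4)) :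
    ∃ g : GG k, H₂ = H₁.map (MulAut.conj g).toMonoidHom := by
  haveI : NeZero (2 ^ k) := ⟨by positivity⟩
  have key : ∀ H : Subgroup (GG k), Nonempty (↥H ≃* A4) → ∃ V : Subgroup (GG k), (V : Set (GG k)) = S0 k ∧
      ∃ d ∈ H, orderOf d = 3 ∧ ∀ d' ∈ H, orderOf d' = 3 → H = V ⊔ Subgroup.zpowers d' := by
    rintro H ⟨e⟩
    let f : A4 →* GG k := H.subtype.comp e.symm.toMonoidHom
    have hf : Function.Injective f := H.subtype_injective.comp e.symm.injective
    have hfH : ∀ x, f x ∈ H := fun x => (e.symm x).2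
    refine ⟨a4K.map f, map_a4K_eq hk f hf, f a4d, hfH _, ?_, ?_⟩
    · rw [orderOf_injective f hf, a4d_order]
    · intro d' hd' hd'o
      have hle : a4K.map f ⊔ Subgroup.zpowers d' ≤ H := by
        apply sup_le
        · rintro _ ⟨x, _, rfl⟩
          exact hfH x
        · rw [Subgroup.zpowers_le]
          exact hd'
      symm
      apply Subgroup.eq_of_le_of_card_ge hle
      have hH : Nat.card H = 12 := (Nat.card_congr e.toEquiv).trans a4_card
      have h4 : 4 ∣ Nat.card ↥(a4K.map f ⊔ Subgroup.zpowers d') := by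
        have h5 := Subgroup.card_dvd_of_le (le_sup_left : a4K.map f ≤ a4K.map f ⊔ Subgroup.zpowers d')
        rwa [Nat.card_congr (a4K.equivMapOfInjective f hf).symm.toEquiv, a4K_card] at h5
      have h3 : 3 ∣ Nat.card ↥(a4K.map f ⊔ Subgroup.zpowers d') := by
        have h5 := Subgroup.card_dvd_of_le (le_sup_right : Subgroup.zpowers d' ≤ a4K.map f ⊔ Subgroup.zpowers d')
        rwa [Nat.card_zpowers, hd'o] at h5
      have h12 : 12 ∣ Nat.card ↥(a4K.map f ⊔ Subgroup.zpowers d') :=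
        Nat.Coprime.mul_dvd_of_dvd_of_dvd (by norm_num : Nat.Coprime 4 3) h4 h3
      rw [hH]
      exact Nat.le_of_dvd Nat.card_pos h12
  obtain ⟨V₁, hV₁, d₁, hd₁, hd₁o, -⟩ := key H₁ h₁
  obtain ⟨V₂, hV₂, d₂, hd₂, hd₂o, hs₂⟩ := key H₂ h₂
  obtain ⟨g, hg⟩ := exists_conj_zpowers hk hd₁o hd₂o
  refine ⟨g, ?_⟩
  obtain ⟨e₁⟩ := h₁
  obtain ⟨V₃, hV₃, -, -, -, hs₃⟩ := key (H₁.map (MulAut.conj g).toMonoidHom)
    ⟨((MulAut.conj g).subgroupMap H₁).symm.trans e₁⟩
  have hV : V₃ = V₂ := SetLike.coe_injective (hV₃.trans hV₂.symm)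
  have hd' : g * d₁ * g⁻¹ ∈ H₁.map (MulAut.conj g).toMonoidHom := ⟨d₁, hd₁, rfl⟩
  have hor : orderOf (g * d₁ * g⁻¹) = 3 := by
    rw [← hd₁o]
    exact orderOf_conj_eq_aux g d₁
  have hz : Subgroup.zpowers (g * d₁ * g⁻¹) = Subgroup.zpowers d₂ := by
    rw [← hg, MonoidHom.map_zpowers]
    rfl
  rw [hs₃ _ hd' hor, hz, hV, ← hs₂ d₂ hd₂ hd₂o]

end Cfsg.Agent.Lib.Amalgam.GL2Mod
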