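import Mathlib

/-!
# Finite checks over the field with two elements for `GL₂(ℤ/2ᵏ)`
-/

set_option autoImplicit false

namespace Cfsg.Agent.Lib.Amalgam.GL2Mod

set_option maxRecDepth 100000 in
set_option synthInstance.maxSize 100000 in
set_option synthInstance.maxHeartbeats 0 in
theorem f2_step1 : ∀ a0 a1 a2 a3 b0 b1 b2 b3 d0 d1 d2 d3 : ZMod 2,
    d0 * d3 + d1 * d2 = 1 →
    a0 * a0 + a1 * a2 = 1 → a0 * a1 + a1 * a3 = 0 → a2 * a0 + a3 * a2 = 0 → a2 * a1 + a3 * a3 = 1 →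
    b0 * b0 + b1 * b2 = 1 → b0 * b1 + b1 * b3 = 0 → b2 * b0 + b3 * b2 = 0 → b2 * b1 + b3 * b3 = 1 →
    d0 * a0 + d1 * a2 = b0 * d0 + b1 * d2 → d0 * a1 + d1 * a3 = b0 * d1 + b1 * d3 →
    d2 * a0 + d3 * a2 = b2 * d0 + b3 * d2 → d2 * a1 + d3 * a3 = b2 * d1 + b3 * d3 →
    d0 * b0 + d1 * b2 = (a0 * b0 + a1 * b2) * d0 + (a0 * b1 + a1 * b3) * d2 →
    d0 * b1 + d1 * b3 = (a0 * b0 + a1 * b2) * d1 + (a0 * b1 + a1 * b3) * d3 →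
    d2 * b0 + d3 * b2 = (a2 * b0 + a3 * b2) * d0 + (a2 * b1 + a3 * b3) * d2 →
    d2 * b1 + d3 * b3 = (a2 * b0 + a3 * b2) * d1 + (a2 * b1 + a3 * b3) * d3 →
    a0 = 1 ∧ a1 = 0 ∧ a2 = 0 ∧ a3 = 1 := by
  decide

set_option maxRecDepth 100000 in
set_option synthInstance.maxSize 100000 in
set_option synthInstance.maxHeartbeats 0 in
theorem f2_step3 : ∀ x0 x1 x2 x3 y0 y1 y2 y3 d0 d1 d2 d3 : ZMod 2,
    d0 * d3 + d1 * d2 = 1 →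
    d0 * x0 + d1 * x2 = y0 * d0 + y1 * d2 → d0 * x1 + d1 * x3 = y0 * d1 + y1 * d3 →
    d2 * x0 + d3 * x2 = y2 * d0 + y3 * d2 → d2 * x1 + d3 * x3 = y2 * d1 + y3 * d3 →
    d0 * y0 + d1 * y2 = (x0 + y0) * d0 + (x1 + y1) * d2 →
    d0 * y1 + d1 * y3 = (x0 + y0) * d1 + (x1 + y1) * d3 →
    d2 * y0 + d3 * y2 = (x2 + y2) * d0 + (x3 + y3) * d2 →
    d2 * y1 + d3 * y3 = (x2 + y2) * d1 + (x3 + y3) * d3 →
    d0 * (x0 + y0) + d1 * (x2 + y2) = x0 * d0 + x1 * d2 →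
    d0 * (x1 + y1) + d1 * (x3 + y3) = x0 * d1 + x1 * d3 →
    d2 * (x0 + y0) + d3 * (x2 + y2) = x2 * d0 + x3 * d2 →
    d2 * (x1 + y1) + d3 * (x3 + y3) = x2 * d1 + x3 * d3 →
    x0 = x3 ∧ x2 = x0 + x1 := by
  decide

end Cfsg.Agent.Lib.Amalgam.GL2Mod
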