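import Cfsg.Agent.Lib.FStar.Basic
import Cfsg.Agent.Lib.Amalgam.ResOf
import Cfsg.Agent.Lib.Amalgam.NormMap
import Cfsg.Agent.Lib.Amalgam.Asym
import Cfsg.Agent.Lib.Amalgam.YL
import Cfsg.Agent.Lib.Transfer.Basic
import Cfsg.Agent.Lib.Techniques.Complement
import Cfsg.Agent.Lib.Core.MinNormal2
import Cfsg.Agent.Lib.Core.Basic
import Cfsg.Agent.Lib.FF.SylowIn

/-!
# Quasisimple sections over a centralizer

A group `X` with a normal subgroup `C` such that `O_p(X/C) = 1` and `O^p(X)C/C` is quasisimple;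
a normal subgroup `D` generated by `p`-subgroups with `[C, D]` a `p`-group.
-/

set_option autoImplicit false

namespace Cfsg.Agent.Lib.Amalgam.QuasiSec

open Cfsg Subgroup Cfsg.Agent.Lib.Core Cfsg.Agent.Lib.FStar Cfsg.Agent.Lib.Amalgam
open scoped commutatorElement

section Gen

variable {Γ : Type*} [Group Γ] [Finite Γ]

/-- A subgroup normalizes its commutator with any subgroup. -/
theorem le_normalizer_comm_left (K Y : Subgroup Γ) : K ≤ normalizer ((⁅K, Y⁆ : Subgroup Γ) : Set Γ) := by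
  intro r hr
  apply mem_normalizer_of_map_conj_le
  rw [Subgroup.map_le_iff_le_comap, Subgroup.commutator_le]
  intro a ha y hy
  rw [Subgroup.mem_comap]
  have e : (MulAut.conj r).toMonoidHom ⁅a, y⁆ = ⁅r * a, y⁆ * ⁅r, y⁆⁻¹ := by
    simp only [commutatorElement_def, MulEquiv.toMonoidHom_eq_coe, MonoidHom.coe_coe, MulAut.conj_apply]
    group
  rw [e]
  exact mul_mem (commutator_mem_commutator (K.mul_mem hr ha) hy) (inv_mem (commutator_mem_commutator hr hy))

/-- Three subgroups lemma for a perfect subgroup. -/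
theorem comm_eq_bot_of_central {K A : Subgroup Γ} (hK : ⁅K, K⁆ = K) (h : ⁅⁅K, A⁆, K⁆ = ⊥) : ⁅K, A⁆ = ⊥ := by
  have h2 : ⁅⁅A, K⁆, K⁆ = ⊥ := by rwa [commutator_comm A K]
  have h3 := commutator_commutator_eq_bot_of_rotate h h2
  rwa [hK] at h3

/-- Quasisimple dichotomy for subgroups. -/
theorem qs_dich {K : Subgroup Γ} (hq : IsQuasisimple K) (N : Subgroup Γ) (hN : K ≤ normalizer (N : Set Γ)) :
    K ≤ N ∨ ⁅N ⊓ K, K⁆ = ⊥ := by
  haveI := subgroupOf_normal_of_le_normalizer hN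
  rcases qs_normal_eq_top_or_le_center hq (N.subgroupOf K) with h | h
  · left
    intro x hx
    have : (⟨x, hx⟩ : K) ∈ N.subgroupOf K := by rw [h]; trivial
    exact this
  · right
    rw [commutator_eq_bot_iff_le_centralizer]
    rintro x ⟨hxN, hxK⟩
    rw [mem_centralizer_iff]
    intro y hy
    have h1 : (⟨x, hxK⟩ : K) ∈ center K := h (by exact hxN)
    have h2 := (mem_center_iff.1 h1) ⟨y, hy⟩
    exact congrArg Subtype.val h2

variable {p : ℕ} [hp : Fact p.Prime]

/-- In a central-by-`p` group every `p`-subgroup lies in the `p`-core. -/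
theorem le_pCore_of_central_quot {Z : Subgroup Γ} (hZ : Z ≤ center Γ) (hq : ∀ x : Γ, ∃ k : ℕ, x ^ (p ^ k) ∈ Z)
    {Y : Subgroup Γ} (hY : IsPGroup p Y) : Y ≤ pCore p Γ := by
  haveI : Z.Normal := ⟨fun n hn g => by
    rw [mem_center_iff.1 (hZ hn) g]
    simpa using hn⟩
  have hqp : IsPGroup p (Γ ⧸ Z) := by
    intro x
    obtain ⟨y, rfl⟩ := QuotientGroup.mk'_surjective Z x
    obtain ⟨k, hk⟩ := hq y
    refine ⟨k, ?_⟩
    rw [← map_pow]
    exact (QuotientGroup.eq_one_iff _).2 hk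
  haveI : Group.IsNilpotent (Γ ⧸ Z) := hqp.isNilpotent
  have hnil : Group.IsNilpotent Γ := by
    apply _root_.isNilpotent_of_ker_le_center (QuotientGroup.mk' Z)
    rw [QuotientGroup.ker_mk']
    exact hZ
  have htf := (Group.isNilpotent_of_finite_tfae (G := Γ)).out 0 3
  obtain ⟨P, hP⟩ := hY.exists_le_sylow
  exact hP.trans (le_pCore (htf.1 hnil p hp P) P.2)

/-- A `p`-subgroup centralizing a normal subgroup of `p`-power index is trivial, if `O_p = 1`. -/
theorem eq_bot_of_comm_eq_bot (hO : pCore p Γ = ⊥) {K : Subgroup Γ} [hK : K.Normal]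
    (hpow : ∀ x : Γ, ∃ k : ℕ, x ^ (p ^ k) ∈ K) {Y : Subgroup Γ} (hY : IsPGroup p Y) (hc : ⁅K, Y⁆ = ⊥) : Y = ⊥ := by
  set C : Subgroup Γ := centralizer (K : Set Γ) with hC
  haveI : C.Normal := Subgroup.normal_centralizer
  have hYC : Y ≤ C := by
    rw [hC, ← commutator_eq_bot_iff_le_centralizer, commutator_comm]
    exact hc
  have h1 : Y.subgroupOf C ≤ pCore p C := by
    apply le_pCore_of_central_quot (Z := K.subgroupOf C)
    · intro z hz
      rw [mem_center_iff]
      intro c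
      apply Subtype.ext
      exact ((mem_centralizer_iff.1 c.2) z.1 hz).symm
    · intro x
      obtain ⟨k, hk⟩ := hpow x.1
      exact ⟨k, hk⟩
    · intro y
      obtain ⟨k, hk⟩ := hY ⟨y.1.1, y.2⟩
      refine ⟨k, ?_⟩
      apply Subtype.ext
      apply Subtype.ext
      have := congrArg Subtype.val hk
      simpa using this
  have h2 : ((pCore p C).map C.subtype).Normal := normal_map_of_characteristic C (pCore p C)
  have h3 : (pCore p C).map C.subtype ≤ pCore p Γ := le_pCore h2 ((pCore_isPGroup p C).map _)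
  rw [hO] at h3
  rw [eq_bot_iff]
  intro y hy
  apply h3
  exact ⟨⟨y, hYC hy⟩, h1 hy, rfl⟩

/-- A quasisimple normal subgroup lies in any normal subgroup containing a nontrivial `p`-subgroup. -/
theorem K_le_of_normal (hO : pCore p Γ = ⊥) {K : Subgroup Γ} [hK : K.Normal]
    (hpow : ∀ x : Γ, ∃ k : ℕ, x ^ (p ^ k) ∈ K) (hq : IsQuasisimple K) {D : Subgroup Γ} [hD : D.Normal]
    {Q : Subgroup Γ} (hQ : IsPGroup p Q) (hQ1 : Q ≠ ⊥) (hQD : Q ≤ D) : K ≤ D := by
  rcases qs_dich hq D (by rw [normalizer_eq_top_iff.2 hD]; exact le_top) with h | h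
  · exact h
  · exfalso
    have hKK : ⁅K, K⁆ = K := qs_subgroup_perfect hq
    have h1 : ⁅K, D⁆ ≤ D ⊓ K := by
      rw [inf_comm]
      exact commutator_le_inf K D
    have h2 : ⁅⁅K, D⁆, K⁆ = ⊥ := by
      rw [eq_bot_iff, ← h]
      exact commutator_mono h1 le_rfl
    have h3 := comm_eq_bot_of_central hKK h2
    have h4 : ⁅K, Q⁆ = ⊥ := by
      rw [eq_bot_iff, ← h3]
      exact commutator_mono le_rfl hQD
    exact hQ1 (eq_bot_of_comm_eq_bot hO hpow hQ h4)

/-- A quasisimple normal subgroup is its own commutator with a nontrivial `p`-subgroup. -/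
theorem K_le_comm (hO : pCore p Γ = ⊥) {K : Subgroup Γ} [hK : K.Normal]
    (hpow : ∀ x : Γ, ∃ k : ℕ, x ^ (p ^ k) ∈ K) (hq : IsQuasisimple K) {Y : Subgroup Γ} (hY : IsPGroup p Y)
    (hY1 : Y ≠ ⊥) : K ≤ ⁅K, Y⁆ := by
  rcases qs_dich hq ⁅K, Y⁆ (le_normalizer_comm_left K Y) with h | h
  · exact h
  · exfalso
    have hKK : ⁅K, K⁆ = K := qs_subgroup_perfect hq
    have h1 : ⁅K, Y⁆ ≤ K := by
      apply commutator_le_left_of_normalizer
      rw [normalizer_eq_top_iff.2 hK]
      exact le_top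
    rw [inf_eq_left.2 h1] at h
    exact hY1 (eq_bot_of_comm_eq_bot hO hpow hY (comm_eq_bot_of_central hKK h))

/-- A perfect group has no nontrivial `p`-quotient. -/
theorem eq_top_of_perfect_of_pow {H : Type*} [Group H] [Finite H] (hH : commutator H = ⊤) {N : Subgroup H} [hN : N.Normal]
    (h : ∀ x : H, ∃ k : ℕ, x ^ (p ^ k) ∈ N) : N = ⊤ := by
  have hqp : IsPGroup p (H ⧸ N) := by
    intro x
    obtain ⟨y, rfl⟩ := QuotientGroup.mk'_surjective N x
    obtain ⟨k, hk⟩ := h y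
    refine ⟨k, ?_⟩
    rw [← map_pow]
    exact (QuotientGroup.eq_one_iff _).2 hk
  haveI : Group.IsNilpotent (H ⧸ N) := hqp.isNilpotent
  haveI : Group.IsPerfect H := ⟨hH⟩
  haveI : Group.IsPerfect (H ⧸ N) := Group.IsPerfect.ofSurjective (QuotientGroup.mk'_surjective N)
  have h0 := Cfsg.Agent.Lib.Transfer.eq_bot_of_le_commutator (G := H ⧸ N) (R := ⊤) (Q := ⊤) inferInstance le_rfl
    (by
      have : ⁅(⊤ : Subgroup (H ⧸ N)), (⊤ : Subgroup (H ⧸ N))⁆ = ⊤ := Group.IsPerfect.commutator_eq_top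
      rw [this])
  rw [eq_top_iff]
  intro x _
  have h1 : (QuotientGroup.mk' N x) ∈ (⊤ : Subgroup (H ⧸ N)) := trivial
  rw [h0] at h1
  exact (QuotientGroup.eq_one_iff _).1 (Subgroup.mem_bot.1 h1)

/-- `O^p(R)` lies in `N` when `R = N P` with `P` a `p`-subgroup. -/
theorem res_le_of_le_sup {R N P : Subgroup Γ} (hRN : R ≤ normalizer (N : Set Γ)) (hNR : N ≤ R)
    (hP : IsPGroup p P) (hPR : P ≤ R) (h : R ≤ N ⊔ P) : (pResidual p ↥R).map R.subtype ≤ N := by
  haveI := subgroupOf_normal_of_le_normalizer hRN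
  set N' := N.subgroupOf R with hN'
  set P' := P.subgroupOf R with hP'
  have htop : (⊤ : Subgroup R) ≤ N' ⊔ P' := by
    rintro ⟨r, hr⟩ -
    have h1 : r ∈ (N' ⊔ P').map R.subtype := by
      rw [Subgroup.map_sup, subgroupOf_map_subtype, subgroupOf_map_subtype, inf_eq_left.2 hNR, inf_eq_left.2 hPR]
      exact h hr
    obtain ⟨y, hy, rfl⟩ := h1
    exact hy
  have hq : IsPGroup p (↥R ⧸ N') := by
    intro x
    obtain ⟨r, rfl⟩ := QuotientGroup.mk'_surjective N' x
    have h1 := Subgroup.mem_map_of_mem (QuotientGroup.mk' N') (htop (Subgroup.mem_top r))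
    rw [Subgroup.map_sup] at h1
    have h2 : N'.map (QuotientGroup.mk' N') = ⊥ := by
      rw [Subgroup.map_eq_bot_iff, QuotientGroup.ker_mk']
    rw [h2, bot_sup_eq] at h1
    obtain ⟨y, hy, e⟩ := h1
    obtain ⟨k, hk⟩ := hP ⟨y.1, hy⟩
    refine ⟨k, ?_⟩
    rw [← e, ← map_pow]
    have h3 : y ^ (p ^ k) = 1 := by
      apply Subtype.ext
      have := congrArg Subtype.val hk
      simpa using this
    rw [h3, map_one]
  have h4 := Cfsg.Agent.Lib.Transfer.pResidual_le_ker hq (QuotientGroup.mk' N')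
  rw [QuotientGroup.ker_mk'] at h4
  rintro _ ⟨x, hx, rfl⟩
  exact h4 hx

/-- Perfect `R = W A` with `[A, A] ≤ W` forces `R ≤ W`. -/
theorem le_of_perfect_of_le_sup {R W A : Subgroup Γ} (hperf : commutator ↥R = ⊤) (hRW : R ≤ normalizer (W : Set Γ))
    (hWR : W ≤ R) (hAR : A ≤ R) (h : R ≤ W ⊔ A) (hAA : ⁅A, A⁆ ≤ W) : R ≤ W := by
  haveI := subgroupOf_normal_of_le_normalizer hRW
  set W' := W.subgroupOf R with hW'
  set A' := A.subgroupOf R with hA'
  let φ := QuotientGroup.mk' W'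
  have htop : (⊤ : Subgroup R) ≤ W' ⊔ A' := by
    rintro ⟨r, hr⟩ -
    have h1 : r ∈ (W' ⊔ A').map R.subtype := by
      rw [Subgroup.map_sup, subgroupOf_map_subtype, subgroupOf_map_subtype, inf_eq_left.2 hWR, inf_eq_left.2 hAR]
      exact h hr
    obtain ⟨y, hy, rfl⟩ := h1
    exact hy
  have h2 : W'.map φ = ⊥ := by
    rw [Subgroup.map_eq_bot_iff, QuotientGroup.ker_mk']
  have h3 : (⊤ : Subgroup R).map φ ≤ A'.map φ := by
    have := Subgroup.map_mono (f := φ) htop
    rwa [Subgroup.map_sup, h2, bot_sup_eq] at this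
  have hAA' : ⁅A', A'⁆ ≤ W' := by
    rw [Subgroup.commutator_le]
    intro a ha b hb
    rw [hW', Subgroup.mem_subgroupOf]
    exact hAA (commutator_mem_commutator ha hb)
  have h4 : (⁅A', A'⁆ : Subgroup R).map φ = ⊥ := by
    rw [Subgroup.map_eq_bot_iff, QuotientGroup.ker_mk']
    exact hAA'
  have h5 : (⁅(⊤ : Subgroup R), (⊤ : Subgroup R)⁆ : Subgroup R).map φ = ⊥ := by
    rw [Subgroup.map_commutator, eq_bot_iff, ← h4, Subgroup.map_commutator]
    exact commutator_mono h3 h3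
  have h6 : (⊤ : Subgroup R) ≤ W' := by
    rw [Subgroup.map_eq_bot_iff, QuotientGroup.ker_mk'] at h5
    have : ⁅(⊤ : Subgroup R), (⊤ : Subgroup R)⁆ = ⊤ := hperf
    rwa [this] at h5
  intro x hx
  exact h6 (Subgroup.mem_top (⟨x, hx⟩ : R))

end Gen

section Main

variable {X : Type*} [Group X] [Finite X] {p : ℕ} [hp : Fact p.Prime]

/-- The structure of `O^p(D)`. -/
theorem main (C : Subgroup X) [hC : C.Normal] (D : Subgroup X) [hD : D.Normal] (P₀ : Subgroup X) [hP₀n : P₀.Normal]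
    (hP₀ : IsPGroup p P₀) (hCD : ⁅C, D⁆ ≤ P₀)
    (Q : Subgroup X) (hQp : IsPGroup p Q) (hQD : Q ≤ D) (hQC : ¬ Q ≤ C)
    (hgen : ∀ S : Subgroup X, (∀ Q' : Subgroup X, IsPGroup p Q' → Q' ≤ D → Q' ≤ S) → D ≤ S)
    (hred : pCore p (X ⧸ C) = ⊥)
    (hqs : IsQuasisimple ↥((pResidual p X ⊔ C).map (QuotientGroup.mk' C)))
    (R : Subgroup X) (hR : R = (pResidual p ↥D).map D.subtype) :
    pResidual p X ⊔ C = R ⊔ C ∧ ⁅R, R⁆ = R ∧ (pResidual p ↥R).map R.subtype = R ∧
    IsQuasisimple (↥R ⧸ C.subgroupOf R) ∧ IsQuasisimple (↥R ⧸ pCore p ↥R) ∧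
    ∀ Y : Subgroup X, IsPGroup p Y → ¬ Y ≤ C → ⁅R, Y⁆ = R := by
  classical
  let π := QuotientGroup.mk' C
  have hπs : Function.Surjective π := QuotientGroup.mk'_surjective C
  have hπk : π.ker = C := QuotientGroup.ker_mk' C
  set K : Subgroup (X ⧸ C) := (pResidual p X ⊔ C).map π with hK
  haveI hres : (pResidual p X).Normal := Cfsg.Agent.Lib.Techniques.pResidual_normal X p
  haveI hKn : K.Normal := Subgroup.Normal.map inferInstance π hπs
  have hKpow : ∀ x : X ⧸ C, ∃ k : ℕ, x ^ (p ^ k) ∈ K := by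
    intro x
    obtain ⟨y, rfl⟩ := hπs x
    obtain ⟨k, hk⟩ := Cfsg.Agent.Lib.Transfer.isPGroup_quotient_pResidual (G := X) (p := p) (QuotientGroup.mk' _ y)
    refine ⟨k, ?_⟩
    rw [← map_pow] at hk ⊢
    exact ⟨_, Subgroup.mem_sup_left ((QuotientGroup.eq_one_iff _).1 hk), rfl⟩
  have hKK : ⁅K, K⁆ = K := qs_subgroup_perfect hqs
  have hKtop : commutator ↥K = ⊤ := qs_commutator hqs
  -- `R`
  have hRcl : R = closure {g : X | g ∈ D ∧ Nat.Coprime (orderOf g) p} := hR.trans (map_pResidual_eq_closure p D)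
  haveI hRn : R.Normal := by
    rw [← normalizer_eq_top_iff, hR, eq_top_iff]
    have h1 := le_normalizer_map_pResidual (p := p) (K := D)
    rwa [normalizer_eq_top_iff.2 hD] at h1
  have hRD : R ≤ D := by
    rw [hR]
    exact map_pResidual_le
  have hRres : R ≤ pResidual p X := by
    rw [hRcl, pResidual]
    exact closure_mono fun g hg => hg.2
  have hDpow : ∀ d ∈ D, ∃ k : ℕ, d ^ (p ^ k) ∈ R := by
    intro d hd
    haveI := Cfsg.Agent.Lib.Techniques.pResidual_normal ↥D p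
    obtain ⟨k, hk⟩ := Cfsg.Agent.Lib.Transfer.isPGroup_quotient_pResidual (G := ↥D) (p := p) (QuotientGroup.mk' _ ⟨d, hd⟩)
    refine ⟨k, ?_⟩
    rw [← map_pow] at hk
    have h1 := (QuotientGroup.eq_one_iff _).1 hk
    rw [hR]
    exact ⟨_, h1, rfl⟩
  -- the images
  have hKD : K ≤ D.map π := by
    haveI : (D.map π).Normal := Subgroup.Normal.map inferInstance π hπs
    refine K_le_of_normal hred hKpow hqs (Q := Q.map π) (hQp.map π) ?_ (Subgroup.map_mono hQD)
    intro h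
    rw [Subgroup.map_eq_bot_iff, hπk] at h
    exact hQC h
  have hKR : K ≤ R.map π := by
    haveI hN : (R.map π).Normal := Subgroup.Normal.map inferInstance π hπs
    have h1 : (R.map π).subgroupOf K = ⊤ := by
      apply eq_top_of_perfect_of_pow (p := p) hKtop
      rintro ⟨x, hx⟩
      obtain ⟨d, hd, rfl⟩ := hKD hx
      obtain ⟨k, hk⟩ := hDpow d hd
      refine ⟨k, ?_⟩
      rw [Subgroup.mem_subgroupOf]
      exact ⟨_, hk, by simp⟩
    intro x hx
    have h2 : (⟨x, hx⟩ : K) ∈ (R.map π).subgroupOf K := by rw [h1]; trivial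
    exact h2
  have hRK : R.map π ≤ K := Subgroup.map_mono (hRres.trans le_sup_left)
  have hKeq : K = R.map π := le_antisymm hKR hRK
  -- (a)
  have ha : pResidual p X ⊔ C = R ⊔ C := by
    apply le_antisymm
    · rw [← hπk]
      rw [← Subgroup.map_le_map_iff]
      rw [hπk]
      exact hKR
    · exact sup_le (hRres.trans le_sup_left) le_sup_right
  -- `R ≤ [R,R] C`
  have hcomm : R ≤ ⁅R, R⁆ ⊔ C := by
    rw [← hπk, ← Subgroup.map_le_map_iff, Subgroup.map_commutator, ← hKeq, hKK]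
  -- commutator of `R` and `D`
  set R₁ : Subgroup X := ⁅R, R⁆ ⊔ (R ⊓ P₀) with hR₁
  haveI hR₁n : R₁.Normal := by
    rw [hR₁]
    infer_instance
  have hkey : ∀ r ∈ R, ∀ d ∈ D, ⁅r, d⁆ ∈ R₁ := by
    intro r hr d hd
    obtain ⟨w, hw, c, hc, rfl⟩ := Subgroup.mem_sup_of_normal_right.1 (hcomm hr)
    have hcR : c ∈ R := by
      have := R.mul_mem (R.inv_mem (commutator_le_self R hw)) hr
      simpa using this
    have e : ⁅w * c, d⁆ = w * ⁅c, d⁆ * w⁻¹ * ⁅w, d⁆ := by
      simp only [commutatorElement_def]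
      group
    rw [e]
    have h1 : ⁅c, d⁆ ∈ R₁ := by
      apply Subgroup.mem_sup_right
      refine ⟨?_, hCD (commutator_mem_commutator hc hd)⟩
      have := commutator_le_left_of_normalizer (V := R) (R := ⊤) (by rw [normalizer_eq_top_iff.2 hRn])
      exact this (commutator_mem_commutator hcR (Subgroup.mem_top d))
    have h2 : w ∈ R₁ := Subgroup.mem_sup_left hw
    have h3 : ⁅w, d⁆ ∈ R₁ := by
      apply Subgroup.mem_sup_left
      have := commutator_le_left_of_normalizer (V := ⁅R, R⁆) (R := ⊤) (by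
        rw [normalizer_eq_top_iff.2 (inferInstance : (⁅R, R⁆ : Subgroup X).Normal)])
      exact this (commutator_mem_commutator hw (Subgroup.mem_top d))
    exact R₁.mul_mem (R₁.mul_mem (R₁.mul_mem h2 h1) (R₁.inv_mem h2)) h3
  -- `R ≤ R₁`
  have hRR₁ : R ≤ R₁ := by
    let φ := QuotientGroup.mk' (R₁.subgroupOf D)
    have hφs : Function.Surjective φ := QuotientGroup.mk'_surjective _
    set Z : Subgroup (↥D ⧸ R₁.subgroupOf D) := (R.subgroupOf D).map φ with hZ
    have hZc : Z ≤ center (↥D ⧸ R₁.subgroupOf D) := by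
      rintro _ ⟨r, hr, rfl⟩
      rw [mem_center_iff]
      intro x
      obtain ⟨d, rfl⟩ := hφs x
      have h1 : ⁅r, d⁆ ∈ R₁.subgroupOf D := by
        rw [Subgroup.mem_subgroupOf]
        exact hkey r.1 hr d.1 d.2
      have h2 : φ ⁅r, d⁆ = 1 := (QuotientGroup.eq_one_iff _).2 h1
      rw [map_commutatorElement, commutatorElement_eq_one_iff_mul_comm] at h2
      exact h2.symm
    have hZq : ∀ x, ∃ k : ℕ, x ^ (p ^ k) ∈ Z := by
      intro x
      obtain ⟨d, rfl⟩ := hφs x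
      obtain ⟨k, hk⟩ := hDpow d.1 d.2
      refine ⟨k, ?_⟩
      rw [← map_pow]
      refine ⟨_, ?_, rfl⟩
      exact Subgroup.mem_subgroupOf.2 (by simpa using hk)
    have hS : D ≤ ((pCore p (↥D ⧸ R₁.subgroupOf D)).comap φ).map D.subtype := by
      apply hgen
      intro Q' hQ' hQ'D x hx
      refine ⟨⟨x, hQ'D hx⟩, ?_, rfl⟩
      show φ _ ∈ pCore p _
      have h1 : (Q'.subgroupOf D).map φ ≤ pCore p (↥D ⧸ R₁.subgroupOf D) := by
        apply le_pCore_of_central_quot hZc hZq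
        exact (Cfsg.Agent.Lib.FF.isPGroup_subgroupOf hQ').map φ
      apply h1
      exact ⟨⟨x, hQ'D hx⟩, hx, rfl⟩
    have htop : pCore p (↥D ⧸ R₁.subgroupOf D) = ⊤ := by
      rw [eq_top_iff]
      intro x _
      obtain ⟨d, rfl⟩ := hφs x
      obtain ⟨y, hy, e⟩ := hS d.2
      have e' : y = d := Subtype.ext e
      rw [← e']
      exact hy
    have hpD : IsPGroup p (↥D ⧸ R₁.subgroupOf D) := by
      intro x
      obtain ⟨k, hk⟩ := pCore_isPGroup p (↥D ⧸ R₁.subgroupOf D) ⟨x, by rw [htop]; trivial⟩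
      refine ⟨k, ?_⟩
      have := congrArg Subtype.val hk
      simpa using this
    have h4 := Cfsg.Agent.Lib.Transfer.pResidual_le_ker hpD φ
    rw [QuotientGroup.ker_mk'] at h4
    rw [hR]
    rintro _ ⟨x, hx, rfl⟩
    exact h4 hx
  -- (c)
  have hc : (pResidual p ↥R).map R.subtype = R := by
    apply le_antisymm map_pResidual_le
    rw [map_pResidual_eq_closure]
    conv_lhs => rw [hRcl]
    apply closure_le _ |>.2
    intro g hg
    apply Subgroup.subset_closure
    refine ⟨?_, hg.2⟩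
    rw [hR]
    exact mem_map_pResidual_of_coprime hg.1 hg.2
  have hnormAll : ∀ N : Subgroup X, N.Normal → R ≤ normalizer (N : Set X) := fun N hN => by
    rw [normalizer_eq_top_iff.2 hN]; exact le_top
  have hR₀p : IsPGroup p ↥(R ⊓ P₀) := hP₀.to_le inf_le_right
  -- (b)
  have hb : ⁅R, R⁆ = R := by
    apply le_antisymm (commutator_le_self R)
    have := res_le_of_le_sup (p := p) (R := R) (N := ⁅R, R⁆) (P := R ⊓ P₀) (hnormAll _ inferInstance) (commutator_le_self R)
      hR₀p inf_le_left hRR₁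
    rwa [hc] at this
  have hRtop : commutator ↥R = ⊤ := by
    apply Subgroup.map_injective R.subtype_injective
    rw [Subgroup.map_subtype_commutator, hb, ← MonoidHom.range_eq_map, Subgroup.range_subtype]
  -- the map to `K`
  let ρ : ↥R →* ↥K := (π.comp R.subtype).codRestrict K (fun r => hRK ⟨r.1, r.2, rfl⟩)
  have hρv : ∀ r : ↥R, ((ρ r : ↥K) : X ⧸ C) = π r.1 := fun r => rfl
  have hρs : Function.Surjective ρ := by
    rintro ⟨x, hx⟩
    obtain ⟨r, hr, rfl⟩ := hKR hx
    exact ⟨⟨r, hr⟩, Subtype.ext rfl⟩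
  have hρk : ∀ r : ↥R, ρ r = 1 ↔ r.1 ∈ C := by
    intro r
    rw [← Subtype.val_inj, hρv]
    exact QuotientGroup.eq_one_iff _
  have hρker : ρ.ker = C.subgroupOf R := by
    ext r
    rw [MonoidHom.mem_ker, hρk, Subgroup.mem_subgroupOf]
  have hd : IsQuasisimple (↥R ⧸ C.subgroupOf R) := by
    have e : (↥R ⧸ C.subgroupOf R) ≃* ↥K :=
      (QuotientGroup.quotientMulEquivOfEq hρker.symm).trans (QuotientGroup.quotientKerEquivOfSurjective ρ hρs)
    exact qs_of_mulEquiv e.symm hqs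
  have hcoreC : ∀ x : ↥R, x ∈ pCore p ↥R → ρ x = 1 := by
    intro x hx
    rw [hρk]
    haveI h1 : ((pCore p ↥R).map R.subtype).Normal := normal_map_of_characteristic R (pCore p ↥R)
    have h2 : ((pCore p ↥R).map R.subtype).map π ≤ pCore p (X ⧸ C) :=
      le_pCore (Subgroup.Normal.map h1 π hπs) (((pCore_isPGroup p ↥R).map _).map π)
    rw [hred] at h2
    have h3 := h2 ⟨x.1, ⟨x, hx, rfl⟩, rfl⟩
    have h4 : π x.1 = 1 := Subgroup.mem_bot.1 h3
    rw [← hπk]
    exact h4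
  have he : IsQuasisimple (↥R ⧸ pCore p ↥R) := by
    let f : (↥R ⧸ pCore p ↥R) →* ↥K := QuotientGroup.lift (pCore p ↥R) ρ hcoreC
    have hfs : Function.Surjective f := by
      intro y
      obtain ⟨r, rfl⟩ := hρs y
      exact ⟨QuotientGroup.mk r, rfl⟩
    haveI : Group.IsPerfect ↥R := ⟨hRtop⟩
    haveI hperf : Group.IsPerfect (↥R ⧸ pCore p ↥R) :=
      Group.IsPerfect.ofSurjective (QuotientGroup.mk'_surjective (pCore p ↥R))
    refine qs_of_surjective_of_perfect hperf.commutator_eq_top hqs f hfs ?_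
    intro x hx
    obtain ⟨r, rfl⟩ := QuotientGroup.mk'_surjective (pCore p ↥R) x
    have hrC : r.1 ∈ C := by
      rw [← hρk]
      exact hx
    rw [mem_center_iff]
    intro y
    obtain ⟨s, rfl⟩ := QuotientGroup.mk'_surjective (pCore p ↥R) y
    have h1 : ⁅r, s⁆ ∈ pCore p ↥R := by
      have h2 : P₀.subgroupOf R ≤ pCore p ↥R := le_pCore inferInstance (Cfsg.Agent.Lib.FF.isPGroup_subgroupOf hP₀)
      apply h2
      rw [Subgroup.mem_subgroupOf]
      exact hCD (commutator_mem_commutator hrC (hRD s.2))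
    have h2 : QuotientGroup.mk' (pCore p ↥R) ⁅r, s⁆ = 1 := (QuotientGroup.eq_one_iff _).2 h1
    rw [map_commutatorElement, commutatorElement_eq_one_iff_mul_comm] at h2
    exact h2.symm
  -- (f)
  have hf : ∀ Y : Subgroup X, IsPGroup p Y → ¬ Y ≤ C → ⁅R, Y⁆ = R := by
    intro Y hY hYC
    have hY1 : Y.map π ≠ ⊥ := by
      intro h
      rw [Subgroup.map_eq_bot_iff, hπk] at h
      exact hYC h
    have h1 := K_le_comm hred hKpow hqs (hY.map π) hY1
    have h2 : R ≤ ⁅R, Y⁆ ⊔ C := by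
      rw [← hπk, ← Subgroup.map_le_map_iff, Subgroup.map_commutator, ← hKeq]
      exact h1
    have hWR : ⁅R, Y⁆ ≤ R := commutator_le_left_of_normalizer (by rw [normalizer_eq_top_iff.2 hRn]; exact le_top)
    have hWn : R ≤ normalizer ((⁅R, Y⁆ : Subgroup X) : Set X) := le_normalizer_comm_left R Y
    have hW₁ : R ≤ ⁅R, Y⁆ ⊔ (R ⊓ P₀) := by
      apply le_of_perfect_of_le_sup (A := R ⊓ C) hRtop
      · exact le_normalizer_sup hWn (hnormAll _ inferInstance)
      · exact sup_le hWR inf_le_left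
      · exact inf_le_left
      · intro r hr
        obtain ⟨w, hw, c, hc', rfl⟩ := Subgroup.mem_sup_of_normal_right.1 (h2 hr)
        have hcR : c ∈ R := by
          have := R.mul_mem (R.inv_mem (hWR hw)) hr
          simpa using this
        exact Subgroup.mul_mem_sup (Subgroup.mem_sup_left hw) ⟨hcR, hc'⟩
      · apply le_trans _ le_sup_right
        apply le_inf
        · exact (commutator_mono inf_le_left inf_le_left).trans (commutator_le_self R)
        · exact (commutator_mono (inf_le_right) (inf_le_left.trans hRD)).trans hCD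
    apply le_antisymm hWR
    have := res_le_of_le_sup (p := p) (R := R) (N := ⁅R, Y⁆) (P := R ⊓ P₀) hWn hWR hR₀p inf_le_left hW₁
    rwa [hc] at this
  exact ⟨ha, hb, hc, hd, he, hf⟩

end Main

end Cfsg.Agent.Lib.Amalgam.QuasiSec
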