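import Cfsg.Agent.Lib.Amalgam.Asym
import Cfsg.Agent.Lib.Amalgam.QuasiSec
import Cfsg.Agent.Lib.FF.SylowIn
import Cfsg.Agent.Lib.FF.Basic
import Cfsg.Agent.Lib.Amalgam.WeakClosed
import Cfsg.Agent.Lib.Amalgam.ResOf
import Cfsg.Agent.Lib.Amalgam.Large

/-!
# Fixed-point-freeness on `O_p(L)/C_Y(L)`

`Y` an abelian `p`-subgroup of `L`, `A` a normal `p`-subgroup normalizing `Y` with `A = ⟨(Y ∩ A)^L⟩`, the normal closure of `Y`
being `L`, and `N_L(Y)` the unique maximal subgroup over `Y`: products of two conjugates of `Y` that are not `p`-elements act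
without fixed points on `A/C_Y(L)`.
-/

set_option autoImplicit false

namespace Cfsg.Agent.Lib.Amalgam.LFpf

open Subgroup Cfsg.Agent.Lib.FF Cfsg.Agent.Lib.Amalgam
open scoped commutatorElement

variable {L : Type*} [Group L] [Finite L] {p : ℕ} [hp : Fact p.Prime]

/-- The abstract data. -/
structure LD (p : ℕ) (Y A : Subgroup L) : Prop where
  ab : ∀ x ∈ Y, ∀ y ∈ Y, x * y = y * x
  pg : IsPGroup p Y
  Ap : IsPGroup p A
  An : A.Normal
  AY : A ≤ normalizer (Y : Set L)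
  Agen : ∀ N : Subgroup L, N.Normal → Y ⊓ A ≤ N → A ≤ N
  cl : ∀ N : Subgroup L, N.Normal → Y ≤ N → N = ⊤
  max : ∀ X : Subgroup L, Y ≤ X → X ≠ ⊤ → X ≤ normalizer (Y : Set L)
  CA : Y ⊓ center L ≤ A

abbrev cjg (l : L) (H : Subgroup L) : Subgroup L := H.map (MulAut.conj l).toMonoidHom

omit [Finite L] in
theorem mem_cjg {l x : L} {H : Subgroup L} : x ∈ cjg l H ↔ l⁻¹ * x * l ∈ H := mem_conj_iff

omit [Finite L] in
theorem normal_le_of_cjg_le {N H : Subgroup L} (hN : N.Normal) {l : L} (h : cjg l H ≤ N) : H ≤ N := by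
  intro x hx
  have h1 : l * x * l⁻¹ ∈ N := h (conj_mem_conj hx)
  have h2 := hN.conj_mem _ h1 l⁻¹
  simpa [mul_assoc] using h2

omit [Finite L] in
theorem cjg_inf_center (l : L) (H : Subgroup L) : cjg l H ⊓ center L = H ⊓ center L := by
  ext x
  constructor
  · rintro ⟨h1, h2⟩
    refine ⟨?_, h2⟩
    have h3 := mem_cjg.1 h1
    have h4 : l⁻¹ * x * l = x := by
      rw [mem_center_iff.1 h2 l⁻¹]
      simp
    rwa [h4] at h3
  · rintro ⟨h1, h2⟩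
    refine ⟨mem_cjg.2 ?_, h2⟩
    have h4 : l⁻¹ * x * l = x := by
      rw [mem_center_iff.1 h2 l⁻¹]
      simp
    rwa [h4]

theorem LD.conj {Y A : Subgroup L} (D : LD p Y A) (l : L) : LD p (cjg l Y) A := by
  haveI := D.An
  refine ⟨?_, ?_, D.Ap, D.An, ?_, ?_, ?_, ?_, ?_⟩
  · intro x hx y hy
    have h1 := D.ab _ (mem_cjg.1 hx) _ (mem_cjg.1 hy)
    have e : x * y = l * ((l⁻¹ * x * l) * (l⁻¹ * y * l)) * l⁻¹ := by group
    have e' : y * x = l * ((l⁻¹ * y * l) * (l⁻¹ * x * l)) * l⁻¹ := by group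
    rw [e, e', h1]
  · exact D.pg.map _
  · intro a ha
    have h1 : l⁻¹ * a * l⁻¹⁻¹ ∈ A := D.An.conj_mem a ha l⁻¹
    have h2 : l⁻¹ * a * l ∈ normalizer (Y : Set L) := D.AY (by simpa using h1)
    rw [mem_normalizer_iff_conj] at h2 ⊢
    calc cjg a (cjg l Y) = cjg l (cjg (l⁻¹ * a * l) Y) := by
          rw [cjg, cjg, cjg, cjg, conj_mul_conj, conj_mul_conj]
          congr 2
          group
      _ = cjg l Y := congrArg (cjg l) h2
  · intro N hN h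
    apply D.Agen N hN
    intro x hx
    have h1 : l * x * l⁻¹ ∈ cjg l Y ⊓ A := ⟨conj_mem_conj hx.1, D.An.conj_mem x hx.2 l⟩
    have h2 := hN.conj_mem _ (h h1) l⁻¹
    simpa [mul_assoc] using h2
  · intro N hN h
    exact D.cl N hN (normal_le_of_cjg_le hN h)
  · intro X hX hXT
    have h1 : Y ≤ cjg l⁻¹ X := by
      intro y hy
      rw [mem_cjg]
      have := hX (conj_mem_conj (g := l) hy)
      simpa using this
    have h2 : cjg l⁻¹ X ≠ ⊤ := by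
      intro h
      apply hXT
      rw [eq_top_iff]
      intro x _
      have h3 : l⁻¹ * x * l ∈ cjg l⁻¹ X := by rw [h]; trivial
      rw [mem_cjg] at h3
      simpa [mul_assoc] using h3
    intro x hx
    have h3 : l⁻¹ * x * l ∈ cjg l⁻¹ X := by
      rw [mem_cjg]
      simpa [mul_assoc] using hx
    have h4 := D.max _ h1 h2 h3
    rw [mem_normalizer_iff_conj] at h4 ⊢
    calc cjg x (cjg l Y) = cjg l (cjg (l⁻¹ * x * l) Y) := by
          rw [cjg, cjg, cjg, cjg, conj_mul_conj, conj_mul_conj]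
          congr 2
          group
      _ = cjg l Y := congrArg (cjg l) h4
  · rw [cjg_inf_center]
    exact D.CA

theorem LD.comm_mem {Y A : Subgroup L} (D : LD p Y A) {a y : L} (ha : a ∈ A) (hy : y ∈ Y) : ⁅a, y⁆ ∈ Y ⊓ A := by
  haveI := D.An
  have h1 : ⁅A, Y⁆ ≤ A ⊓ Y := by
    apply commutator_le_inf_of_mutual D.AY (by
      rw [normalizer_eq_top_iff.2 D.An]; exact le_top)
  have h2 := h1 (commutator_mem_commutator ha hy)
  exact ⟨h2.2, h2.1⟩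

omit [Finite L] in
theorem order_p_of_pow {h : L} {n : ℕ} (H : h ^ (p ^ n) = 1) : ∃ k : ℕ, orderOf h = p ^ k := by
  obtain ⟨k, -, hk⟩ := (Nat.dvd_prime_pow hp.out).1 (orderOf_dvd_of_pow_eq_one H)
  exact ⟨k, hk⟩

omit [Finite L] hp in
theorem isPGroup_zpowers_of_pow {x : L} {k : ℕ} (h : x ^ (p ^ k) = 1) : IsPGroup p (zpowers x) := by
  rintro ⟨_, n, rfl⟩
  refine ⟨k, ?_⟩
  apply Subtype.ext
  simp only [SubgroupClass.coe_pow, OneMemClass.coe_one]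
  show ((x ^ n) ^ (p ^ k)) = 1
  rw [← zpow_natCast (x ^ n), ← _root_.zpow_mul, mul_comm, _root_.zpow_mul, zpow_natCast, h, one_zpow]

omit [Finite L] hp in
theorem IsPGroup.pow_eq_one {H : Subgroup L} (hH : IsPGroup p H) {x : L} (hx : x ∈ H) : ∃ k : ℕ, x ^ (p ^ k) = 1 := by
  obtain ⟨k, hk⟩ := hH ⟨x, hx⟩
  refine ⟨k, ?_⟩
  have := congrArg Subtype.val hk
  simpa using this

/-- Two conjugates: if a product is not a `p`-element, then neither normalizes the other. -/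
theorem not_norm {Y₁ Y₂ A : Subgroup L} (hA : A.Normal) (hAp : IsPGroup p A) (hY₁ : IsPGroup p Y₁) (hY₂ : IsPGroup p Y₂)
    {y₁ y₂ b : L} (hy₁ : y₁ ∈ Y₁) (hy₂ : y₂ ∈ Y₂)
    (hb : b ∈ A) (hnp : ¬ ∃ k : ℕ, orderOf (y₁ * y₂ * b) = p ^ k) (hn : y₁ ∈ normalizer (Y₂ : Set L)) : False := by
  haveI := hA
  apply hnp
  obtain ⟨k, hk⟩ := IsPGroup.pow_eq_one hY₁ hy₁
  have h1 : IsPGroup p (zpowers y₁) := isPGroup_zpowers_of_pow hk
  have h2 : zpowers y₁ ≤ normalizer (Y₂ : Set L) := by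
    rw [zpowers_le]
    exact hn
  have h3 : IsPGroup p ↥(zpowers y₁ ⊔ Y₂) := IsPGroup.to_sup_of_normal_right' h1 hY₂ h2
  have h4 : y₁ * y₂ ∈ zpowers y₁ ⊔ Y₂ :=
    Subgroup.mul_mem_sup (mem_zpowers y₁) hy₂
  obtain ⟨m, hm⟩ := IsPGroup.pow_eq_one h3 h4
  have h5 : (QuotientGroup.mk' A) (y₁ * y₂ * b) = (QuotientGroup.mk' A) (y₁ * y₂) := by
    have hb1 : QuotientGroup.mk' A b = 1 := (QuotientGroup.eq_one_iff b).2 hb
    rw [map_mul, hb1, mul_one]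
  have h6 : (y₁ * y₂ * b) ^ (p ^ m) ∈ A := by
    rw [← QuotientGroup.eq_one_iff, ← QuotientGroup.mk'_apply, map_pow, h5, ← map_pow, hm, map_one]
  obtain ⟨j, hj⟩ := IsPGroup.pow_eq_one hAp h6
  apply order_p_of_pow (n := m + j)
  rw [pow_add, pow_mul, hj]

/-- An element of `Y` fixed modulo a central subgroup by an element outside `N(Y)` is central. -/
theorem fix_central {Y A C : Subgroup L} (D : LD p Y A) (hCc : C ≤ center L) {z y : L} (hz : z ∈ Y)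
    (hyN : y ∉ normalizer (Y : Set L)) (hfix : ⁅y, z⁆ ∈ C) : z ∈ center L := by
  classical
  haveI hCn : C.Normal := ⟨fun n hn g => by
    rw [mem_center_iff.1 (hCc hn) g]
    simpa using hn⟩
  let φ := QuotientGroup.mk' C
  have hφ : ∀ x, φ x = 1 ↔ x ∈ C := fun x => QuotientGroup.eq_one_iff x
  let S : Subgroup L := (centralizer ({φ z} : Set (L ⧸ C))).comap φ
  have hS : ∀ g, g ∈ S ↔ ⁅g, z⁆ ∈ C := by
    intro g
    rw [← hφ, map_commutatorElement, commutatorElement_eq_one_iff_mul_comm, Subgroup.mem_comap, mem_centralizer_iff]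
    constructor
    · intro h
      exact (h (φ z) rfl).symm
    · intro h t ht
      rw [Set.mem_singleton_iff] at ht
      rw [ht]
      exact h.symm
  have hYS : Y ≤ S := by
    intro g hg
    rw [hS]
    have : ⁅g, z⁆ = 1 := by
      rw [commutatorElement_eq_one_iff_mul_comm]
      exact D.ab g hg z hz
    rw [this]
    exact C.one_mem
  have hyS : y ∈ S := (hS y).2 hfix
  have hST : S = ⊤ := by
    by_contra hne
    exact hyN (D.max S hYS hne hyS)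
  have hall : ∀ g, ⁅g, z⁆ ∈ C := fun g => (hS g).1 (by rw [hST]; trivial)
  -- the centralizer of `z` is normal
  have hTn : (centralizer ({z} : Set L)).Normal := by
    constructor
    intro c hc g
    rw [mem_centralizer_iff] at hc ⊢
    intro t ht
    rw [Set.mem_singleton_iff] at ht
    rw [ht]
    have hcz : z * c = c * z := hc z rfl
    -- `g⁻¹ z g = k z` with `k` central
    have h1 : ⁅g⁻¹, z⁆ ∈ C := hall _
    have hk := hCc h1
    have e1 : g⁻¹ * z * g = ⁅g⁻¹, z⁆ * z := by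
      rw [commutatorElement_def]
      group
    have h2 : c * (g⁻¹ * z * g) = (g⁻¹ * z * g) * c := by
      rw [e1, ← mul_assoc, mem_center_iff.1 hk c, mul_assoc, ← hcz, mul_assoc]
    have e2 : z * (g * c * g⁻¹) = g * ((g⁻¹ * z * g) * c) * g⁻¹ := by group
    have e3 : g * c * g⁻¹ * z = g * (c * (g⁻¹ * z * g)) * g⁻¹ := by group
    rw [e2, e3, h2]
  have hT : centralizer ({z} : Set L) = ⊤ := by
    apply D.cl _ hTn
    intro g hg
    rw [mem_centralizer_iff]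
    intro t ht
    rw [Set.mem_singleton_iff] at ht
    rw [ht]
    exact D.ab z hz g hg
  apply mem_center_iff.2
  intro g
  have := (mem_centralizer_iff.1 (show g ∈ centralizer ({z} : Set L) by rw [hT]; trivial)) z rfl
  exact this.symm

/-- Modulo `C`, the subgroup `A` is abelian as soon as the two conjugates generate. -/
theorem A_comm {Y₁ Y₂ A : Subgroup L} (D₁ : LD p Y₁ A) (D₂ : LD p Y₂ A) (hC : Y₁ ⊓ center L = Y₂ ⊓ center L)
    {y₁ : L} (hy₁ : y₁ ∈ Y₁) (hn12 : y₁ ∉ normalizer (Y₂ : Set L)) :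
    ∀ x ∈ A, ∀ x' ∈ A, ⁅x, x'⁆ ∈ Y₁ ⊓ center L := by
  classical
  haveI hAn := D₁.An
  set C := Y₁ ⊓ center L with hCdef
  have hCc : C ≤ center L := inf_le_right
  haveI hCn : C.Normal := ⟨fun n hn g => by
    rw [mem_center_iff.1 (hCc hn) g]
    simpa using hn⟩
  -- generation
  have hgen : Y₁ ⊔ Y₂ ⊔ A = ⊤ := by
    by_contra hne
    have h1 := D₂.max (Y₁ ⊔ Y₂ ⊔ A) (le_sup_right.trans le_sup_left) hne
    exact hn12 (h1 (Subgroup.mem_sup_left (Subgroup.mem_sup_left hy₁)))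
  set Z₁ := Y₁ ⊓ A with hZ₁
  set Z₂ := Y₂ ⊓ A with hZ₂
  have hZ₁A : Z₁ ≤ A := inf_le_right
  have hZ₂A : Z₂ ≤ A := inf_le_right
  have hAZ₁ : A ≤ normalizer (Z₁ : Set L) := Cfsg.Agent.Lib.Amalgam.le_normalizer_inf D₁.AY (by
    rw [normalizer_eq_top_iff.2 D₁.An]; exact le_top)
  have hAZ₂ : A ≤ normalizer (Z₂ : Set L) := Cfsg.Agent.Lib.Amalgam.le_normalizer_inf D₂.AY (by
    rw [normalizer_eq_top_iff.2 D₁.An]; exact le_top)
  -- `A = Z₁ Z₂`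
  have hsupN : (Z₁ ⊔ Z₂).Normal := by
    rw [← normalizer_eq_top_iff, eq_top_iff, ← hgen]
    refine sup_le (sup_le ?_ ?_) ?_
    · intro y hy
      apply mem_normalizer_of_map_conj_le
      rw [Subgroup.map_le_iff_le_comap]
      refine sup_le ?_ ?_
      · intro z hz
        rw [Subgroup.mem_comap]
        show y * z * y⁻¹ ∈ Z₁ ⊔ Z₂
        rw [D₁.ab y hy z hz.1]
        simpa using Subgroup.mem_sup_left hz
      · intro z hz
        rw [Subgroup.mem_comap]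
        show y * z * y⁻¹ ∈ Z₁ ⊔ Z₂
        have h1 : ⁅y, z⁆ ∈ Z₁ := by
          rw [← commutatorElement_inv]
          exact Z₁.inv_mem (D₁.comm_mem hz.2 hy)
        have e : y * z * y⁻¹ = ⁅y, z⁆ * z := by
          simp only [commutatorElement_def]
          group
        rw [e]
        exact Subgroup.mul_mem_sup h1 hz
    · intro y hy
      apply mem_normalizer_of_map_conj_le
      rw [Subgroup.map_le_iff_le_comap]
      refine sup_le ?_ ?_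
      · intro z hz
        rw [Subgroup.mem_comap]
        show y * z * y⁻¹ ∈ Z₁ ⊔ Z₂
        have h1 : ⁅y, z⁆ ∈ Z₂ := by
          rw [← commutatorElement_inv]
          exact Z₂.inv_mem (D₂.comm_mem hz.2 hy)
        have e : y * z * y⁻¹ = ⁅y, z⁆ * z := by
          simp only [commutatorElement_def]
          group
        rw [e, sup_comm]
        exact Subgroup.mul_mem_sup h1 hz
      · intro z hz
        rw [Subgroup.mem_comap]
        show y * z * y⁻¹ ∈ Z₁ ⊔ Z₂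
        rw [D₂.ab y hy z hz.1]
        simpa using Subgroup.mem_sup_right hz
    · exact Cfsg.Agent.Lib.Amalgam.le_normalizer_sup hAZ₁ hAZ₂
  have hAsup : A ≤ Z₁ ⊔ Z₂ := D₁.Agen _ hsupN le_sup_left
  have hdec : ∀ x ∈ A, ∃ z₁ ∈ Z₁, ∃ z₂ ∈ Z₂, x = z₁ * z₂ := by
    intro x hx
    have h1 : Z₁ ≤ normalizer (Z₂ : Set L) := hZ₁A.trans hAZ₂
    rw [sup_comm] at hAsup
    obtain ⟨k, hk, j, hj, e⟩ := exists_mul_of_mem_sup h1 (hAsup hx)
    refine ⟨j, hj, j⁻¹ * k * j, ?_, ?_⟩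
    · exact (mem_normalizer_iff.1 (hAZ₂ (Z₁.inv_mem hj |> hZ₁A)) k).1 hk |> fun h => by simpa using h
    · rw [e]
      group
  -- `Z₁ ∩ Z₂ ≤ C`
  have hZZ : Z₁ ⊓ Z₂ ≤ C := by
    rintro z ⟨hz₁, hz₂⟩
    refine ⟨hz₁.1, ?_⟩
    have h1 : centralizer ({z} : Set L) = ⊤ := by
      rw [eq_top_iff, ← hgen]
      refine sup_le (sup_le ?_ ?_) ?_
      · intro y hy
        rw [mem_centralizer_iff]
        intro t ht
        rw [Set.mem_singleton_iff] at ht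
        rw [ht]
        exact D₁.ab z hz₁.1 y hy
      · intro y hy
        rw [mem_centralizer_iff]
        intro t ht
        rw [Set.mem_singleton_iff] at ht
        rw [ht]
        exact D₂.ab z hz₂.1 y hy
      · intro x hx
        obtain ⟨z₁, hz1, z₂, hz2, rfl⟩ := hdec x hx
        rw [mem_centralizer_iff]
        intro t ht
        rw [Set.mem_singleton_iff] at ht
        rw [ht]
        have e1 := D₁.ab z hz₁.1 z₁ hz1.1
        have e2 := D₂.ab z hz₂.1 z₂ hz2.1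
        rw [← mul_assoc, e1, mul_assoc, e2, mul_assoc]
    apply mem_center_iff.2
    intro g
    have := (mem_centralizer_iff.1 (show g ∈ centralizer ({z} : Set L) by rw [h1]; trivial)) z rfl
    exact this.symm
  have hCZ₁ : C ≤ Z₁ := le_inf inf_le_left D₁.CA
  have hCZ₂ : C ≤ Z₂ := by
    apply le_inf
    · intro x hx
      rw [hC] at hx
      exact hx.1
    · exact D₁.CA
  -- working modulo `C`
  let φ := QuotientGroup.mk' C
  have hφ : ∀ x, φ x = 1 ↔ x ∈ C := fun x => QuotientGroup.eq_one_iff x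
  have hφeq : ∀ {x y : L}, φ x = φ y ↔ x * y⁻¹ ∈ C := by
    intro x y
    rw [← hφ, map_mul, map_inv, mul_inv_eq_one]
  -- commutators of `Z₁`, `Z₂` lie in `C`
  have hZcomm : ∀ z₁ ∈ Z₁, ∀ z₂ ∈ Z₂, φ z₁ * φ z₂ = φ z₂ * φ z₁ := by
    intro z₁ hz₁ z₂ hz₂
    have h1 : ⁅Z₁, Z₂⁆ ≤ Z₁ ⊓ Z₂ := commutator_le_inf_of_mutual (hZ₁A.trans hAZ₂) (hZ₂A.trans hAZ₁)
    have h2 : ⁅z₁, z₂⁆ ∈ C := hZZ (h1 (commutator_mem_commutator hz₁ hz₂))
    have h3 := (hφ _).2 h2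
    rw [map_commutatorElement, commutatorElement_eq_one_iff_mul_comm] at h3
    exact h3
  have hAcomm : ∀ x ∈ A, ∀ x' ∈ A, φ x * φ x' = φ x' * φ x := by
    intro x hx x' hx'
    obtain ⟨z₁, hz₁, z₂, hz₂, rfl⟩ := hdec x hx
    obtain ⟨z₁', hz₁', z₂', hz₂', rfl⟩ := hdec x' hx'
    simp only [map_mul]
    have e1 : φ z₁ * φ z₁' = φ z₁' * φ z₁ := by
      rw [← map_mul, ← map_mul, D₁.ab _ hz₁.1 _ hz₁'.1]
    have e2 : φ z₂ * φ z₂' = φ z₂' * φ z₂ := by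
      rw [← map_mul, ← map_mul, D₂.ab _ hz₂.1 _ hz₂'.1]
    have e3 := hZcomm z₁ hz₁ z₂' hz₂'
    have e4 := hZcomm z₁' hz₁' z₂ hz₂
    calc φ z₁ * φ z₂ * (φ z₁' * φ z₂') = φ z₁ * (φ z₂ * φ z₁') * φ z₂' := by group
      _ = φ z₁ * (φ z₁' * φ z₂) * φ z₂' := by rw [e4]
      _ = (φ z₁ * φ z₁') * (φ z₂ * φ z₂') := by group
      _ = (φ z₁' * φ z₁) * (φ z₂' * φ z₂) := by rw [e1, e2]
      _ = φ z₁' * (φ z₁ * φ z₂') * φ z₂ := by group
      _ = φ z₁' * (φ z₂' * φ z₁) * φ z₂ := by rw [e3]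
      _ = φ z₁' * φ z₂' * (φ z₁ * φ z₂) := by group
  intro x hx x' hx'
  have h := hAcomm x hx x' hx'
  rw [← hφ, map_commutatorElement, commutatorElement_eq_one_iff_mul_comm]
  exact h

/-- The core: two conjugates `Y₁`, `Y₂` with `y₁ y₂ b` not a `p`-element. -/
theorem core {Y₁ Y₂ A : Subgroup L} (D₁ : LD p Y₁ A) (D₂ : LD p Y₂ A) (hC : Y₁ ⊓ center L = Y₂ ⊓ center L)
    {y₁ y₂ b : L} (hy₁ : y₁ ∈ Y₁) (hy₂ : y₂ ∈ Y₂) (hb : b ∈ A)
    (hnp : ¬ ∃ k : ℕ, orderOf (y₁ * y₂ * b) = p ^ k) {a : L} (ha : a ∈ A)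
    (hfix : (y₁ * y₂ * b) * a * (y₁ * y₂ * b)⁻¹ * a⁻¹ ∈ Y₁ ⊓ center L) : a ∈ Y₁ ⊓ center L := by
  classical
  haveI hAn := D₁.An
  set C := Y₁ ⊓ center L with hCdef
  have hCc : C ≤ center L := inf_le_right
  haveI hCn : C.Normal := ⟨fun n hn g => by
    rw [mem_center_iff.1 (hCc hn) g]
    simpa using hn⟩
  have hn12 : y₁ ∉ normalizer (Y₂ : Set L) := fun h => not_norm D₁.An D₁.Ap D₁.pg D₂.pg hy₁ hy₂ hb hnp h
  have hn21 : y₂ ∉ normalizer (Y₁ : Set L) := by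
    intro h
    -- `y₁ y₂ b` is conjugate to `y₂ b y₁`, and `y₂ y₁ (y₁⁻¹ b y₁)` is such a product
    apply hnp
    have hb' : y₁⁻¹ * b * y₁ ∈ A := by
      have := D₁.An.conj_mem b hb y₁⁻¹
      simpa using this
    have e : y₁ * y₂ * b = y₁ * (y₂ * y₁ * (y₁⁻¹ * b * y₁)) * y₁⁻¹ := by group
    rw [e, orderOf_conj' y₁]
    by_contra hcon
    exact not_norm D₁.An D₁.Ap D₂.pg D₁.pg hy₂ hy₁ hb' hcon h
  -- generation
  have hgen : Y₁ ⊔ Y₂ ⊔ A = ⊤ := by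
    by_contra hne
    have h1 := D₂.max (Y₁ ⊔ Y₂ ⊔ A) (le_sup_right.trans le_sup_left) hne
    exact hn12 (h1 (Subgroup.mem_sup_left (Subgroup.mem_sup_left hy₁)))
  set Z₁ := Y₁ ⊓ A with hZ₁
  set Z₂ := Y₂ ⊓ A with hZ₂
  have hZ₁A : Z₁ ≤ A := inf_le_right
  have hZ₂A : Z₂ ≤ A := inf_le_right
  have hAZ₁ : A ≤ normalizer (Z₁ : Set L) := Cfsg.Agent.Lib.Amalgam.le_normalizer_inf D₁.AY (by
    rw [normalizer_eq_top_iff.2 D₁.An]; exact le_top)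
  have hAZ₂ : A ≤ normalizer (Z₂ : Set L) := Cfsg.Agent.Lib.Amalgam.le_normalizer_inf D₂.AY (by
    rw [normalizer_eq_top_iff.2 D₁.An]; exact le_top)
  -- `A = Z₁ Z₂`
  have hsupN : (Z₁ ⊔ Z₂).Normal := by
    rw [← normalizer_eq_top_iff, eq_top_iff, ← hgen]
    refine sup_le (sup_le ?_ ?_) ?_
    · intro y hy
      apply mem_normalizer_of_map_conj_le
      rw [Subgroup.map_le_iff_le_comap]
      refine sup_le ?_ ?_
      · intro z hz
        rw [Subgroup.mem_comap]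
        show y * z * y⁻¹ ∈ Z₁ ⊔ Z₂
        rw [D₁.ab y hy z hz.1]
        simpa using Subgroup.mem_sup_left hz
      · intro z hz
        rw [Subgroup.mem_comap]
        show y * z * y⁻¹ ∈ Z₁ ⊔ Z₂
        have h1 : ⁅y, z⁆ ∈ Z₁ := by
          rw [← commutatorElement_inv]
          exact Z₁.inv_mem (D₁.comm_mem hz.2 hy)
        have e : y * z * y⁻¹ = ⁅y, z⁆ * z := by
          simp only [commutatorElement_def]
          group
        rw [e]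
        exact Subgroup.mul_mem_sup h1 hz
    · intro y hy
      apply mem_normalizer_of_map_conj_le
      rw [Subgroup.map_le_iff_le_comap]
      refine sup_le ?_ ?_
      · intro z hz
        rw [Subgroup.mem_comap]
        show y * z * y⁻¹ ∈ Z₁ ⊔ Z₂
        have h1 : ⁅y, z⁆ ∈ Z₂ := by
          rw [← commutatorElement_inv]
          exact Z₂.inv_mem (D₂.comm_mem hz.2 hy)
        have e : y * z * y⁻¹ = ⁅y, z⁆ * z := by
          simp only [commutatorElement_def]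
          group
        rw [e, sup_comm]
        exact Subgroup.mul_mem_sup h1 hz
      · intro z hz
        rw [Subgroup.mem_comap]
        show y * z * y⁻¹ ∈ Z₁ ⊔ Z₂
        rw [D₂.ab y hy z hz.1]
        simpa using Subgroup.mem_sup_right hz
    · exact Cfsg.Agent.Lib.Amalgam.le_normalizer_sup hAZ₁ hAZ₂
  have hAsup : A ≤ Z₁ ⊔ Z₂ := D₁.Agen _ hsupN le_sup_left
  have hdec : ∀ x ∈ A, ∃ z₁ ∈ Z₁, ∃ z₂ ∈ Z₂, x = z₁ * z₂ := by
    intro x hx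
    have h1 : Z₁ ≤ normalizer (Z₂ : Set L) := hZ₁A.trans hAZ₂
    rw [sup_comm] at hAsup
    obtain ⟨k, hk, j, hj, e⟩ := exists_mul_of_mem_sup h1 (hAsup hx)
    refine ⟨j, hj, j⁻¹ * k * j, ?_, ?_⟩
    · exact (mem_normalizer_iff.1 (hAZ₂ (Z₁.inv_mem hj |> hZ₁A)) k).1 hk |> fun h => by simpa using h
    · rw [e]
      group
  -- `Z₁ ∩ Z₂ ≤ C`
  have hZZ : Z₁ ⊓ Z₂ ≤ C := by
    rintro z ⟨hz₁, hz₂⟩
    refine ⟨hz₁.1, ?_⟩
    have h1 : centralizer ({z} : Set L) = ⊤ := by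
      rw [eq_top_iff, ← hgen]
      refine sup_le (sup_le ?_ ?_) ?_
      · intro y hy
        rw [mem_centralizer_iff]
        intro t ht
        rw [Set.mem_singleton_iff] at ht
        rw [ht]
        exact D₁.ab z hz₁.1 y hy
      · intro y hy
        rw [mem_centralizer_iff]
        intro t ht
        rw [Set.mem_singleton_iff] at ht
        rw [ht]
        exact D₂.ab z hz₂.1 y hy
      · intro x hx
        obtain ⟨z₁, hz1, z₂, hz2, rfl⟩ := hdec x hx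
        rw [mem_centralizer_iff]
        intro t ht
        rw [Set.mem_singleton_iff] at ht
        rw [ht]
        have e1 := D₁.ab z hz₁.1 z₁ hz1.1
        have e2 := D₂.ab z hz₂.1 z₂ hz2.1
        rw [← mul_assoc, e1, mul_assoc, e2, mul_assoc]
    apply mem_center_iff.2
    intro g
    have := (mem_centralizer_iff.1 (show g ∈ centralizer ({z} : Set L) by rw [h1]; trivial)) z rfl
    exact this.symm
  have hCZ₁ : C ≤ Z₁ := le_inf inf_le_left D₁.CA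
  have hCZ₂ : C ≤ Z₂ := by
    apply le_inf
    · intro x hx
      rw [hC] at hx
      exact hx.1
    · exact D₁.CA
  -- working modulo `C`
  let φ := QuotientGroup.mk' C
  have hφ : ∀ x, φ x = 1 ↔ x ∈ C := fun x => QuotientGroup.eq_one_iff x
  have hφeq : ∀ {x y : L}, φ x = φ y ↔ x * y⁻¹ ∈ C := by
    intro x y
    rw [← hφ, map_mul, map_inv, mul_inv_eq_one]
  -- commutators of `Z₁`, `Z₂` lie in `C`
  have hZcomm : ∀ z₁ ∈ Z₁, ∀ z₂ ∈ Z₂, φ z₁ * φ z₂ = φ z₂ * φ z₁ := by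
    intro z₁ hz₁ z₂ hz₂
    have h1 : ⁅Z₁, Z₂⁆ ≤ Z₁ ⊓ Z₂ := commutator_le_inf_of_mutual (hZ₁A.trans hAZ₂) (hZ₂A.trans hAZ₁)
    have h2 : ⁅z₁, z₂⁆ ∈ C := hZZ (h1 (commutator_mem_commutator hz₁ hz₂))
    have h3 := (hφ _).2 h2
    rw [map_commutatorElement, commutatorElement_eq_one_iff_mul_comm] at h3
    exact h3
  have hAcomm : ∀ x ∈ A, ∀ x' ∈ A, φ x * φ x' = φ x' * φ x := by
    intro x hx x' hx'
    obtain ⟨z₁, hz₁, z₂, hz₂, rfl⟩ := hdec x hx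
    obtain ⟨z₁', hz₁', z₂', hz₂', rfl⟩ := hdec x' hx'
    simp only [map_mul]
    have e1 : φ z₁ * φ z₁' = φ z₁' * φ z₁ := by
      rw [← map_mul, ← map_mul, D₁.ab _ hz₁.1 _ hz₁'.1]
    have e2 : φ z₂ * φ z₂' = φ z₂' * φ z₂ := by
      rw [← map_mul, ← map_mul, D₂.ab _ hz₂.1 _ hz₂'.1]
    have e3 := hZcomm z₁ hz₁ z₂' hz₂'
    have e4 := hZcomm z₁' hz₁' z₂ hz₂
    calc φ z₁ * φ z₂ * (φ z₁' * φ z₂') = φ z₁ * (φ z₂ * φ z₁') * φ z₂' := by group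
      _ = φ z₁ * (φ z₁' * φ z₂) * φ z₂' := by rw [e4]
      _ = (φ z₁ * φ z₁') * (φ z₂ * φ z₂') := by group
      _ = (φ z₁' * φ z₁) * (φ z₂' * φ z₂) := by rw [e1, e2]
      _ = φ z₁' * (φ z₁ * φ z₂') * φ z₂ := by group
      _ = φ z₁' * (φ z₂' * φ z₁) * φ z₂ := by rw [e3]
      _ = φ z₁' * φ z₂' * (φ z₁ * φ z₂) := by group
  -- the decomposition of `a`
  obtain ⟨z₁, hz₁, z₂, hz₂, rfl⟩ := hdec a ha
  set h := y₁ * y₂ * b with hh
  -- the fixed point equation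
  have hfix' : φ h * (φ z₁ * φ z₂) * (φ h)⁻¹ = φ z₁ * φ z₂ := by
    have h1 := (hφ _).2 hfix
    simp only [map_mul, map_inv] at h1
    rw [mul_inv_eq_one] at h1
    simpa [hh, map_mul] using h1
  have hazz : z₁ * z₂ ∈ A := ha
  have hbv : φ b * (φ z₁ * φ z₂) * (φ b)⁻¹ = φ z₁ * φ z₂ := by
    have := hAcomm b hb (z₁ * z₂) hazz
    simp only [map_mul] at this
    rw [this]
    group
  -- the relation `φ y₂ v (φ y₂)⁻¹ = (φ y₁)⁻¹ v φ y₁`
  have hrel : φ y₂ * (φ z₁ * φ z₂) * (φ y₂)⁻¹ = (φ y₁)⁻¹ * (φ z₁ * φ z₂) * φ y₁ := by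
    have h1 : φ h = φ y₁ * φ y₂ * φ b := by
      rw [hh]; simp only [map_mul]
    rw [h1] at hfix'
    have h2 : φ y₁ * (φ y₂ * (φ b * (φ z₁ * φ z₂) * (φ b)⁻¹) * (φ y₂)⁻¹) * (φ y₁)⁻¹ = φ z₁ * φ z₂ := by
      refine Eq.trans ?_ hfix'
      group
    rw [hbv] at h2
    calc φ y₂ * (φ z₁ * φ z₂) * (φ y₂)⁻¹
        = (φ y₁)⁻¹ * (φ y₁ * (φ y₂ * (φ z₁ * φ z₂) * (φ y₂)⁻¹) * (φ y₁)⁻¹) * φ y₁ := by group
      _ = (φ y₁)⁻¹ * (φ z₁ * φ z₂) * φ y₁ := by rw [h2]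
  -- the commutators
  have hc₂ : ⁅y₂, z₁⁆ ∈ Z₂ := by
    rw [← commutatorElement_inv]
    exact Z₂.inv_mem (D₂.comm_mem hz₁.2 hy₂)
  have hc₁ : ⁅y₁⁻¹, z₂⁆ ∈ Z₁ := by
    rw [← commutatorElement_inv]
    exact Z₁.inv_mem (D₁.comm_mem hz₂.2 (Y₁.inv_mem hy₁))
  have hy₂z₂ : φ y₂ * φ z₂ * (φ y₂)⁻¹ = φ z₂ := by
    rw [← map_mul, D₂.ab y₂ hy₂ z₂ hz₂.1, map_mul]
    group
  have hy₁z₁ : (φ y₁)⁻¹ * φ z₁ * φ y₁ = φ z₁ := by
    rw [mul_assoc, ← map_mul, D₁.ab z₁ hz₁.1 y₁ hy₁, map_mul]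
    group
  have ec₂ : φ y₂ * φ z₁ * (φ y₂)⁻¹ = φ ⁅y₂, z₁⁆ * φ z₁ := by
    rw [map_commutatorElement, commutatorElement_def]
    group
  have ec₁ : (φ y₁)⁻¹ * φ z₂ * φ y₁ = φ ⁅y₁⁻¹, z₂⁆ * φ z₂ := by
    rw [map_commutatorElement, commutatorElement_def, map_inv]
    group
  have hzc : φ ⁅y₂, z₁⁆ * φ z₁ * φ z₂ = φ z₁ * (φ ⁅y₁⁻¹, z₂⁆ * φ z₂) := by
    rw [← ec₂, ← ec₁]
    calc φ y₂ * φ z₁ * (φ y₂)⁻¹ * φ z₂ = φ y₂ * φ z₁ * (φ y₂)⁻¹ * (φ y₂ * φ z₂ * (φ y₂)⁻¹) := by rw [hy₂z₂]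
      _ = φ y₂ * (φ z₁ * φ z₂) * (φ y₂)⁻¹ := by group
      _ = (φ y₁)⁻¹ * (φ z₁ * φ z₂) * φ y₁ := hrel
      _ = ((φ y₁)⁻¹ * φ z₁ * φ y₁) * ((φ y₁)⁻¹ * φ z₂ * φ y₁) := by group
      _ = φ z₁ * ((φ y₁)⁻¹ * φ z₂ * φ y₁) := by rw [hy₁z₁]
  have hceq : φ ⁅y₂, z₁⁆ = φ ⁅y₁⁻¹, z₂⁆ := by
    have h1 := hAcomm z₁ hz₁.2 ⁅y₁⁻¹, z₂⁆ hc₁.2
    rw [← mul_assoc, h1, mul_assoc (φ ⁅y₁⁻¹, z₂⁆)] at hzc
    rw [mul_assoc, ] at hzc
    exact mul_right_cancel hzc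
  have hc₁C : ⁅y₁⁻¹, z₂⁆ ∈ C := by
    apply hZZ
    refine ⟨hc₁, ?_⟩
    have h1 : ⁅y₂, z₁⁆ * ⁅y₁⁻¹, z₂⁆⁻¹ ∈ C := hφeq.1 hceq
    have h2 : ⁅y₂, z₁⁆⁻¹ * (⁅y₂, z₁⁆ * ⁅y₁⁻¹, z₂⁆⁻¹) ∈ Z₂ := Z₂.mul_mem (Z₂.inv_mem hc₂) (hCZ₂ h1)
    have h3 := Z₂.inv_mem h2
    have e : ⁅y₁⁻¹, z₂⁆ = (⁅y₂, z₁⁆⁻¹ * (⁅y₂, z₁⁆ * ⁅y₁⁻¹, z₂⁆⁻¹))⁻¹ := by
      generalize ⁅y₂, z₁⁆ = u
      generalize ⁅y₁⁻¹, z₂⁆ = v
      group
    rw [e]
    exact h3
  have hc₂C : ⁅y₂, z₁⁆ ∈ C := by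
    have h1 : φ ⁅y₂, z₁⁆ = 1 := by rw [hceq]; exact (hφ _).2 hc₁C
    exact (hφ _).1 h1
  -- central
  have hz₂cen : z₂ ∈ center L := by
    have h1 : ⁅y₁⁻¹, z₂⁆ ∈ C := hc₁C
    have h2 : (y₁⁻¹)⁻¹ = y₁ := inv_inv y₁
    have hn' : y₁⁻¹ ∉ normalizer (Y₂ : Set L) := fun h => hn12 (by simpa using (normalizer (Y₂ : Set L)).inv_mem h)
    exact fix_central D₂ hCc hz₂.1 hn' h1
  have hz₁cen : z₁ ∈ center L := fix_central D₁ hCc hz₁.1 hn21 hc₂C
  exact C.mul_mem ⟨hz₁.1, hz₁cen⟩ (by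
    have : z₂ ∈ Y₂ ⊓ center L := ⟨hz₂.1, hz₂cen⟩
    rw [← hC] at this
    exact this)

/-- The case of an element central modulo `A`: `h` is a product of a `p`-element and a non-`p`-element product of two conjugates. -/
theorem fpf_central {Y₁ Y₂ A : Subgroup L} (D₁ : LD p Y₁ A) (D₂ : LD p Y₂ A) (hC : Y₁ ⊓ center L = Y₂ ⊓ center L)
    {y₁ y₂ b : L} (hy₁ : y₁ ∈ Y₁) (hy₂ : y₂ ∈ Y₂) (hb : b ∈ A)
    (hnp : ¬ ∃ k : ℕ, orderOf (y₁ * y₂ * b) = p ^ k) {h w : L} {k : ℕ} (hwp : w ^ (p ^ k) = 1)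
    (hhw : y₁ * y₂ * b = w * h) (hcent : ∀ g : L, ⁅h, g⁆ ∈ A) {a : L} (ha : a ∈ A)
    (hfix : h * a * h⁻¹ * a⁻¹ ∈ Y₁ ⊓ center L) : a ∈ Y₁ ⊓ center L := by
  classical
  haveI hAn := D₁.An
  set C := Y₁ ⊓ center L with hCdef
  have hCc : C ≤ center L := inf_le_right
  haveI hCn : C.Normal := ⟨fun n hn g => by
    rw [mem_center_iff.1 (hCc hn) g]
    simpa using hn⟩
  have hn12 : y₁ ∉ normalizer (Y₂ : Set L) := fun h => not_norm D₁.An D₁.Ap D₁.pg D₂.pg hy₁ hy₂ hb hnp h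
  have hcomm := A_comm D₁ D₂ hC hy₁ hn12
  let φ := QuotientGroup.mk' C
  have hφ : ∀ x, φ x = 1 ↔ x ∈ C := fun x => QuotientGroup.eq_one_iff x
  have hφs : Function.Surjective φ := QuotientGroup.mk'_surjective C
  have hAab : ∀ x ∈ A, ∀ x' ∈ A, φ x * φ x' = φ x' * φ x := by
    intro x hx x' hx'
    have h3 := (hφ _).2 (hcomm x hx x' hx')
    rw [map_commutatorElement, commutatorElement_eq_one_iff_mul_comm] at h3
    exact h3
  -- the subgroup of fixed points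
  let W : Subgroup L := A ⊓ (centralizer ({φ h} : Set (L ⧸ C))).comap φ
  have hW : ∀ x, x ∈ W ↔ x ∈ A ∧ φ h * φ x = φ x * φ h := by
    intro x
    show x ∈ A ⊓ _ ↔ _
    rw [Subgroup.mem_inf, Subgroup.mem_comap, mem_centralizer_iff]
    constructor
    · rintro ⟨h1, h2⟩
      exact ⟨h1, h2 (φ h) rfl⟩
    · rintro ⟨h1, h2⟩
      refine ⟨h1, ?_⟩
      intro t ht
      rw [Set.mem_singleton_iff] at ht
      rw [ht]
      exact h2
  have hWn : W.Normal := by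
    constructor
    intro x hx g
    obtain ⟨hxA, hxf⟩ := (hW x).1 hx
    refine (hW _).2 ⟨hAn.conj_mem x hxA g, ?_⟩
    -- `h g = g h k` with `k ∈ A`
    have hk : h⁻¹ * g⁻¹ * h * g ∈ A := by
      have h4 := hAn.conj_mem _ (hcent g) (g⁻¹ * h⁻¹)
      have e : g⁻¹ * h⁻¹ * ⁅h, g⁆ * (g⁻¹ * h⁻¹)⁻¹ = h⁻¹ * g⁻¹ * h * g := by
        simp only [commutatorElement_def]
        group
      rwa [e] at h4
    set k := h⁻¹ * g⁻¹ * h * g with hkdef
    have e : h * g = g * h * k := by rw [hkdef]; group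
    have hkx : φ k * φ x = φ x * φ k := hAab k hk x hxA
    have e1 : φ h * φ g = φ g * φ h * φ k := by
      rw [← map_mul, ← map_mul, ← map_mul, e]
    rw [map_mul, map_mul, map_inv]
    calc φ h * (φ g * φ x * (φ g)⁻¹) = (φ h * φ g) * φ x * (φ g)⁻¹ := by group
      _ = (φ g * φ h * φ k) * φ x * (φ g)⁻¹ := by rw [e1]
      _ = φ g * φ h * (φ k * φ x) * (φ g)⁻¹ := by group
      _ = φ g * φ h * (φ x * φ k) * (φ g)⁻¹ := by rw [hkx]
      _ = φ g * (φ h * φ x) * φ k * (φ g)⁻¹ := by group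
      _ = φ g * (φ x * φ h) * φ k * (φ g)⁻¹ := by rw [hxf]
      _ = (φ g * φ x * (φ g)⁻¹) * (φ g * φ h * φ k * (φ g)⁻¹) := by group
      _ = (φ g * φ x * (φ g)⁻¹) * ((φ h * φ g) * (φ g)⁻¹) := by rw [e1]
      _ = (φ g * φ x * (φ g)⁻¹) * φ h := by group
  -- by contradiction
  by_contra haC
  have haW : a ∈ W := by
    refine (hW a).2 ⟨ha, ?_⟩
    have h1 := (hφ _).2 hfix
    simp only [map_mul, map_inv] at h1
    rw [mul_inv_eq_one] at h1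
    calc φ h * φ a = (φ h * φ a * (φ h)⁻¹) * φ h := by group
      _ = φ a * φ h := by rw [h1]
  haveI : W.Normal := hWn
  have hWmap : IsPGroup p (W.map φ) := by
    apply IsPGroup.map
    exact D₁.Ap.to_le inf_le_left
  have hWbot : W.map φ ≠ ⊥ := by
    intro hbot
    apply haC
    have : φ a ∈ W.map φ := ⟨a, haW, rfl⟩
    rw [hbot] at this
    exact (hφ a).1 this
  have hQ : IsPGroup p (zpowers (φ w)) := by
    apply isPGroup_zpowers_of_pow (k := k)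
    rw [← map_pow, hwp, map_one]
  have hQn : zpowers (φ w) ≤ normalizer ((W.map φ : Subgroup _) : Set (L ⧸ C)) := by
    have h1 : (W.map φ).Normal := hWn.map φ hφs
    rw [normalizer_eq_top_iff.2 h1]
    exact le_top
  have h1 := Cfsg.Agent.Lib.Amalgam.inf_centralizer_ne_bot hQ hWmap hWbot hQn
  obtain ⟨⟨u, hu⟩, hu1⟩ := Subgroup.ne_bot_iff_exists_ne_one.mp h1
  obtain ⟨⟨a', ha'W, rfl⟩, hu2⟩ := hu
  have hu1' : φ a' ≠ 1 := fun e => hu1 (Subtype.ext e)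
  obtain ⟨ha'A, ha'f⟩ := (hW a').1 ha'W
  have ha'w : φ w * φ a' = φ a' * φ w := by
    have := mem_centralizer_iff.1 hu2 (φ w) (mem_zpowers _)
    exact this
  apply hu1'
  rw [hφ]
  apply core D₁ D₂ hC hy₁ hy₂ hb hnp ha'A
  rw [← hφ, hhw]
  simp only [map_mul, map_inv]
  rw [mul_inv_eq_one]
  calc φ w * φ h * φ a' * (φ w * φ h)⁻¹ = φ w * (φ h * φ a') * (φ h)⁻¹ * (φ w)⁻¹ := by group
    _ = φ w * (φ a' * φ h) * (φ h)⁻¹ * (φ w)⁻¹ := by rw [ha'f]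
    _ = (φ w * φ a') * (φ w)⁻¹ := by group
    _ = (φ a' * φ w) * (φ w)⁻¹ := by rw [ha'w]
    _ = φ a' := by group

/-- The predicate of being a conjugate of an element of `Y` modulo `ker π`. -/
def InY {Q : Type*} [Group Q] (π : L →* Q) (Y : Subgroup L) (x : Q) : Prop :=
  ∃ l : L, ∃ y ∈ Y, x = π (l * y * l⁻¹)

theorem InY.of_mem {Q : Type*} [Group Q] (π : L →* Q) {Y : Subgroup L} {y : L} (hy : y ∈ Y) : InY π Y (π y) :=
  ⟨1, y, hy, by simp⟩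

theorem InY.conj {Q : Type*} [Group Q] {π : L →* Q} (hπ : Function.Surjective π) {Y : Subgroup L} {x : Q}
    (hx : InY π Y x) (g : Q) : InY π Y (g * x * g⁻¹) := by
  obtain ⟨l, y, hy, rfl⟩ := hx
  obtain ⟨g, rfl⟩ := hπ g
  refine ⟨g * l, y, hy, ?_⟩
  simp only [map_mul, map_inv]
  group

/-- Products of two conjugates. -/
theorem fpf_of_prod {Q : Type*} [Group Q] {π : L →* Q} {Y A : Subgroup L} (D : LD p Y A) (hker : π.ker = A)
    {h : L} (hnp : ¬ ∃ k : ℕ, orderOf h = p ^ k) {x₁ x₂ : Q} (h₁ : InY π Y x₁) (h₂ : InY π Y x₂)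
    (hx : π h = x₁ * x₂) {a : L} (ha : a ∈ A) (hfix : h * a * h⁻¹ * a⁻¹ ∈ Y ⊓ center L) : a ∈ Y ⊓ center L := by
  obtain ⟨l₁, y₁, hy₁, rfl⟩ := h₁
  obtain ⟨l₂, y₂, hy₂, rfl⟩ := h₂
  set u₁ := l₁ * y₁ * l₁⁻¹ with hu₁
  set u₂ := l₂ * y₂ * l₂⁻¹ with hu₂
  have hu₁' : u₁ ∈ cjg l₁ Y := conj_mem_conj hy₁
  have hu₂' : u₂ ∈ cjg l₂ Y := conj_mem_conj hy₂
  have hb : (u₁ * u₂)⁻¹ * h ∈ A := by
    rw [← hker, MonoidHom.mem_ker, map_mul, map_inv, hx, map_mul]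
    simp
  have e : h = u₁ * u₂ * ((u₁ * u₂)⁻¹ * h) := by group
  have hC1 : cjg l₁ Y ⊓ center L = cjg l₂ Y ⊓ center L := by
    rw [cjg_inf_center, cjg_inf_center]
  have e1 : cjg l₁ Y ⊓ center L = Y ⊓ center L := cjg_inf_center _ _
  rw [← e1]
  rw [e] at hnp hfix
  rw [← e1] at hfix
  exact core (D.conj l₁) (D.conj l₂) hC1 hu₁' hu₂' hb hnp ha hfix

/-- An element of `L` with image of `p`-power order is a `p`-element. -/
theorem order_of_image {Q : Type*} [Group Q] {π : L →* Q} {A : Subgroup L} (hA : IsPGroup p A) (hker : π.ker = A)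
    {h : L} {k : ℕ} (hk : π h ^ (p ^ k) = 1) : ∃ j : ℕ, h ^ (p ^ j) = 1 := by
  have h1 : h ^ (p ^ k) ∈ A := by
    rw [← hker, MonoidHom.mem_ker, map_pow, hk]
  obtain ⟨j, hj⟩ := IsPGroup.pow_eq_one hA h1
  exact ⟨k + j, by rw [pow_add, pow_mul, hj]⟩

end Cfsg.Agent.Lib.Amalgam.LFpf
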