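import Cfsg.Agent.Lib.Amalgam.LFpf
import Cfsg.Agent.Lib.Amalgam.Red
import Cfsg.Agent.Lib.Core.Basic
import Cfsg.Prelude

/-!
# From `𝔏_G(Y_M)` to the abstract data; the dihedral case
-/

set_option autoImplicit false

namespace Cfsg.Agent.Lib.Amalgam.LFpf

open Subgroup Cfsg.Agent.Lib.FF Cfsg.Agent.Lib.Amalgam
open scoped commutatorElement

section conv

variable {G : Type*} [Group G] [Finite G] {p : ℕ} [hp : Fact p.Prime] {M L : Subgroup G}

theorem reducedOf_comm (x y : G) (hx : x ∈ largestPReducedOf p M) (hy : y ∈ largestPReducedOf p M) : x * y = y * x := by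
  obtain ⟨u, hu, rfl⟩ := hx
  obtain ⟨v, hv, rfl⟩ := hy
  have h1 := (isPReducedNormal_largestPReduced' (p := p) (L := ↥M)).2.1.1.is_comm.comm ⟨u, hu⟩ ⟨v, hv⟩
  have h2 := congrArg Subtype.val (congrArg Subtype.val h1)
  exact h2

theorem reducedOf_pow {x : G} (hx : x ∈ largestPReducedOf p M) : x ^ p = 1 := by
  obtain ⟨u, hu, rfl⟩ := hx
  have h1 := (isPReducedNormal_largestPReduced' (p := p) (L := ↥M)).2.1.2 u hu
  have h2 := congrArg Subtype.val h1
  exact h2

theorem LD_of_frakL (hL : IsInFrakL p M L) :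
    LD p ((largestPReducedOf p M).subgroupOf L) (pCore p ↥L) := by
  obtain ⟨hYL, hgen, hAY, hmin, -, ⟨-, hmax⟩, -⟩ := hL
  set Y := largestPReducedOf p M with hY
  refine ⟨?_, ?_, Cfsg.Agent.Lib.Core.pCore_isPGroup p ↥L, Cfsg.Agent.Lib.Core.pCore_normal p ↥L, ?_, ?_, ?_, ?_, ?_⟩
  · intro x hx y hy
    exact Subtype.ext (reducedOf_comm (p := p) (M := M) _ _ hx hy)
  · rintro ⟨x, hx⟩
    refine ⟨1, ?_⟩
    apply Subtype.ext
    apply Subtype.ext
    have h1 : (x : G) ^ p = 1 := reducedOf_pow hx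
    simpa using h1
  · intro a ha
    have h1 : (a : G) ∈ normalizer (Y : Set G) := hAY ⟨a, ha, rfl⟩
    rw [mem_normalizer_iff] at h1 ⊢
    intro y
    have h2 := h1 (y : G)
    show (y : G) ∈ Y ↔ ((a * y * a⁻¹ : ↥L) : G) ∈ Y
    simpa using h2
  · intro N hN h a ha
    have h1 : (a : G) ∈ pCoreOf p L := ⟨a, ha, rfl⟩
    rw [hgen] at h1
    obtain ⟨b, hb, hba⟩ := h1
    have hab : b = a := Subtype.ext hba
    rw [← hab]
    have h2 : normalClosure (((Y ⊓ pCoreOf p L).subgroupOf L : Subgroup ↥L) : Set ↥L) ≤ N := by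
      apply normalClosure_le_normal
      intro z hz
      apply h
      have hz' : (z : G) ∈ Y ⊓ pCoreOf p L := hz
      refine ⟨hz'.1, ?_⟩
      obtain ⟨w, hw, hwz⟩ := hz'.2
      have : w = z := Subtype.ext hwz
      rw [← this]
      exact hw
    exact h2 hb
  · intro N hN h
    rw [eq_top_iff, ← hmin.1]
    exact normalClosure_le_normal h
  · intro X hX hXT x hx
    have hlt : X.map L.subtype < L := by
      refine lt_of_le_of_ne ?_ ?_
      · rintro _ ⟨z, -, rfl⟩
        exact z.2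
      · intro e
        apply hXT
        rw [eq_top_iff]
        intro z _
        have h1 : (z : G) ∈ X.map L.subtype := by rw [e]; exact z.2
        obtain ⟨w, hw, hwz⟩ := h1
        have : w = z := Subtype.ext hwz
        rw [← this]
        exact hw
    have hYX : Y ≤ X.map L.subtype := by
      intro y hy
      exact ⟨⟨y, hYL hy⟩, hX hy, rfl⟩
    have h1 : (x : G) ∈ normalizer (Y : Set G) := (hmax _ hYX hlt ⟨x, hx, rfl⟩).2
    rw [mem_normalizer_iff] at h1 ⊢
    intro y
    have h2 := h1 (y : G)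
    show (y : G) ∈ Y ↔ ((x * y * x⁻¹ : ↥L) : G) ∈ Y
    simpa using h2
  · apply Cfsg.Agent.Lib.Core.le_pCore
    · constructor
      intro n hn g
      rw [mem_center_iff.1 hn.2 g]
      simpa using hn
    · rintro ⟨x, hx, -⟩
      refine ⟨1, ?_⟩
      apply Subtype.ext
      apply Subtype.ext
      have h1 : (x : G) ^ p = 1 := reducedOf_pow hx
      simpa using h1

/-- The index condition in `L`. -/
theorem relIndex_eq (hL : IsInFrakL p M L) :
    (pCore p ↥L).relIndex ((largestPReducedOf p M).subgroupOf L) =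
      (largestPReducedOf p M ⊓ pCoreOf p L).relIndex (largestPReducedOf p M) := by
  rw [Subgroup.inf_relIndex_left]
  have h1 : (pCoreOf p L).subgroupOf L = pCore p ↥L := by
    rw [pCoreOf]
    ext x
    simp [Subgroup.mem_subgroupOf]
  rw [← h1, Subgroup.relIndex_subgroupOf hL.1]

/-- From the statement in `G` to the statement in `L`. -/
theorem transfer_fpf (hL : IsInFrakL p M L)
    (H : ∀ h : ↥L, (¬ ∃ k : ℕ, orderOf h = p ^ k) → ∀ a ∈ pCore p ↥L,
      h * a * h⁻¹ * a⁻¹ ∈ (largestPReducedOf p M).subgroupOf L ⊓ center ↥L →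
        a ∈ (largestPReducedOf p M).subgroupOf L ⊓ center ↥L)
    (h : G) (hh : h ∈ L) (hnp : ¬ ∃ k : ℕ, orderOf h = p ^ k) :
    ∀ a ∈ (pCoreOf p L), h * a * h⁻¹ * a⁻¹ ∈ (largestPReducedOf p M) ⊓ Subgroup.centralizer ((L : Subgroup G) : Set G) →
      a ∈ (largestPReducedOf p M) ⊓ Subgroup.centralizer ((L : Subgroup G) : Set G) := by
  rintro _ ⟨a, ha, rfl⟩ hfix
  have h1 := H ⟨h, hh⟩ (by rwa [Subgroup.orderOf_mk]) a ha ?_
  · refine ⟨h1.1, ?_⟩
    apply mem_centralizer_iff.2
    intro t ht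
    have := mem_center_iff.1 h1.2 ⟨t, ht⟩
    exact congrArg Subtype.val this
  · refine ⟨hfix.1, ?_⟩
    apply mem_center_iff.2
    intro g
    apply Subtype.ext
    have := mem_centralizer_iff.1 hfix.2 g g.2
    exact this

end conv

section abs

variable {L : Type*} [Group L] [Finite L] {p : ℕ} [hp : Fact p.Prime]

/-- The goal in abstract form. -/
def Good (p : ℕ) (Y A : Subgroup L) : Prop :=
  ∀ h : L, (¬ ∃ k : ℕ, orderOf h = p ^ k) → ∀ a ∈ A, h * a * h⁻¹ * a⁻¹ ∈ Y ⊓ center L → a ∈ Y ⊓ center L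

omit [Finite L] in
theorem not_pElem_of_order {h : L} (hnp : ¬ ∃ k : ℕ, orderOf h = p ^ k) (j : ℕ) : h ^ (p ^ j) ≠ 1 :=
  fun H => hnp (order_p_of_pow H)

/-- `Y` is not contained in `A`. -/
theorem LD.not_le {Y A : Subgroup L} (D : LD p Y A) (hne : ¬ normalizer (Y : Set L) = ⊤) : ¬ Y ≤ A := by
  intro h
  have h1 := D.cl A D.An h
  apply hne
  rw [eq_top_iff, ← h1]
  exact D.AY

/-- The dihedral case. -/
theorem good_dihedral {r : ℕ} (hr : r.Prime) (hr2 : r ≠ 2) {Y A : Subgroup L} (D : LD 2 Y A)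
    [Fact (Nat.Prime 2)] {π : L →* DihedralGroup r} (hπ : Function.Surjective π) (hker : π.ker = A)
    (hY : ¬ Y ≤ A) : Good 2 Y A := by
  classical
  haveI : Fact r.Prime := ⟨hr⟩
  have h20 : (2 : ZMod r) ≠ 0 := by
    intro h
    have h1 : ((2 : ℕ) : ZMod r) = 0 := by exact_mod_cast h
    rw [ZMod.natCast_eq_zero_iff] at h1
    exact hr2 ((Nat.prime_dvd_prime_iff_eq hr Nat.prime_two).1 h1)
  -- a reflection in `Y`
  obtain ⟨y, hyY, hyA⟩ := Set.not_subset.1 hY
  have hy1 : π y ≠ 1 := by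
    intro h
    apply hyA
    rw [← hker]
    exact h
  obtain ⟨k, hk⟩ := IsPGroup.pow_eq_one D.pg hyY
  have hk' : π y ^ (2 ^ k) = 1 := by rw [← map_pow, hk, map_one]
  have hrefl : ∃ i, π y = DihedralGroup.sr i := by
    rcases hrr : π y with i | i
    · exfalso
      rw [hrr] at hk' hy1
      have hpow : ∀ n : ℕ, (DihedralGroup.r i : DihedralGroup r) ^ n = DihedralGroup.r ((n : ZMod r) * i) := by
        intro n
        induction n with
        | zero => simp
        | succ n ih =>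
          rw [pow_succ, ih, DihedralGroup.r_mul_r]
          congr 1
          push_cast
          ring
      rw [hpow, ← DihedralGroup.r_zero, DihedralGroup.r.injEq] at hk'
      rcases mul_eq_zero.1 hk' with h1 | h1
      · push_cast at h1
        exact h20 (eq_zero_of_pow_eq_zero h1)
      · apply hy1
        rw [h1, DihedralGroup.r_zero]
    · exact ⟨i, rfl⟩
  obtain ⟨i, hi⟩ := hrefl
  have hall : ∀ j, InY π Y (DihedralGroup.sr j) := by
    intro j
    have h1 := InY.conj hπ (InY.of_mem π hyY) (DihedralGroup.r ((i - j) * 2⁻¹))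
    have e : (DihedralGroup.r ((i - j) * 2⁻¹) : DihedralGroup r) * π y * (DihedralGroup.r ((i - j) * 2⁻¹))⁻¹ = DihedralGroup.sr j := by
      rw [hi, DihedralGroup.r_mul_sr, DihedralGroup.inv_r, DihedralGroup.sr_mul_r]
      congr 1
      field_simp
      ring
    rwa [e] at h1
  intro h hnp a ha hfix
  rcases hx : π h with t | t
  · refine fpf_of_prod D hker hnp (hall 0) (hall t) ?_ ha hfix
    rw [hx, DihedralGroup.sr_mul_sr, sub_zero]
  · exfalso
    obtain ⟨j, hj⟩ := order_of_image (k := 1) D.Ap hker (h := h) (by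
      rw [hx, pow_one, pow_two, DihedralGroup.sr_mul_self])
    exact not_pElem_of_order hnp j hj

end abs

end Cfsg.Agent.Lib.Amalgam.LFpf
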