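import Cfsg.Agent.Lib.Amalgam.LFpf2
import Cfsg.Agent.Lib.Amalgam.SzBound
import Cfsg.Agent.S3391
import Cfsg.Agent.Lib.Sz.Bridge

/-!
# The Suzuki case of fixed-point-freeness
-/

set_option autoImplicit false

namespace Cfsg.Agent.Lib.Amalgam.LFpf

open Subgroup Cfsg.Agent.Lib.FF Cfsg.Agent.Lib.Amalgam Cfsg.Agent.SzT Cfsg.Agent.S3391
open scoped commutatorElement

section sz

variable {F : Type*} [Field F] [Fintype F] {s : ℕ} [h : SzF F s]

/-- A non-`2`-element of the Suzuki group is a product of two involutions. -/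
theorem sz_prod_inv {x : GG s F} (h4 : x ^ 4 ≠ 1) :
    ∃ t₁ t₂ : GG s F, x = t₁ * t₂ ∧ t₁ * t₁ = 1 ∧ t₁ ≠ 1 ∧ t₂ * t₂ = 1 ∧ t₂ ≠ 1 := by
  classical
  rcases dich h4 with hF | ⟨g, l, hl, e⟩
  · -- the non-split case
    set T := CC x with hT
    set N := normalizer ((T : Subgroup (GG s F)) : Set (GG s F)) with hN
    have hcN : Nat.card N = 4 * Nat.card T := fpf_index hF
    have hodd : ¬ 2 ∣ Nat.card T := by
      intro h2
      have h3 := h2.trans (card_CC_dvd hF)
      have h5 := odd_q_sq_add_one (F := F) (s := s)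
      exact h5 h3
    haveI : Fact (Nat.Prime 2) := ⟨Nat.prime_two⟩
    have h2N : 2 ∣ Nat.card N := by
      rw [hcN]
      exact ⟨2 * Nat.card T, by ring⟩
    obtain ⟨j, hj⟩ := exists_prime_orderOf_dvd_card' 2 h2N
    have hjG : orderOf (j : GG s F) = 2 := by rw [Subgroup.orderOf_coe]; exact hj
    have hj2 : (j : GG s F) * j = 1 := by
      rw [← pow_two, ← hjG, pow_orderOf_eq_one]
    have hjT : (j : GG s F) ∉ T := by
      intro hjT
      have h1 : orderOf (⟨j, hjT⟩ : T) ∣ Nat.card T := orderOf_dvd_natCard _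
      rw [Subgroup.orderOf_mk, hjG] at h1
      exact hodd h1
    have hjinv : ((j : GG s F))⁻¹ = j := inv_eq_of_mul_eq_one_left hj2
    have hjN : ∀ a ∈ T, (j : GG s F) * a * (j : GG s F)⁻¹ ∈ T := by
      intro a ha
      exact (mem_normalizer_iff.1 j.2 a).1 ha
    have hxT : x ∈ T := self_mem_CC x
    have hconj : (j : GG s F) * x * j = x⁻¹ := by
      set a := (j : GG s F) * x * j with ha
      have haT : a ∈ T := by
        have := hjN x hxT
        rwa [hjinv] at this
      have hcomm : a * x = x * a := CC_comm hF haT hxT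
      by_contra hne
      have hw1 : x * a ≠ 1 := by
        intro e1
        apply hne
        exact eq_inv_of_mul_eq_one_right e1
      have hwT : x * a ∈ T := T.mul_mem hxT haT
      obtain ⟨-, h6⟩ := CC_eq hF hwT hw1
      -- `j` centralizes `x * a`
      have h7 : (j : GG s F) ∈ CC (x * a) := by
        apply mem_CC.2
        have e1 : (j : GG s F) * (x * a) * j = x * a := by
          have e2 : (j : GG s F) * (x * a) * j = ((j : GG s F) * x * j) * ((j : GG s F) * a * j) := by
            calc (j : GG s F) * (x * a) * j = (j : GG s F) * x * (1 * a) * j := by group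
              _ = (j : GG s F) * x * (((j : GG s F) * j) * a) * j := by rw [hj2]
              _ = _ := by group
          rw [e2, ← ha]
          have e3 : (j : GG s F) * a * j = x := by
            rw [ha]
            calc (j : GG s F) * ((j : GG s F) * x * j) * j = ((j : GG s F) * j) * x * ((j : GG s F) * j) := by group
              _ = x := by rw [hj2]; group
          rw [e3]
          exact hcomm
        calc (j : GG s F) * (x * a) = (j : GG s F) * (x * a) * 1 := by group
          _ = (j : GG s F) * (x * a) * ((j : GG s F) * j) := by rw [hj2]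
          _ = ((j : GG s F) * (x * a) * j) * j := by group
          _ = (x * a) * j := by rw [e1]
      rw [h6] at h7
      exact hjT h7
    refine ⟨x * j, j, ?_, ?_, ?_, hj2, ?_⟩
    · calc x = x * 1 := by group
        _ = x * ((j : GG s F) * j) := by rw [hj2]
        _ = _ := by group
    · calc x * j * (x * j) = x * ((j : GG s F) * x * j) := by group
        _ = 1 := by rw [hconj]; group
    · intro e1
      apply hjT
      have : (j : GG s F) = x⁻¹ := eq_inv_of_mul_eq_one_right e1
      rw [this]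
      exact T.inv_mem hxT
    · intro e1
      rw [e1, orderOf_one] at hjG
      omega
  · -- the split case
    have hne : dG s l * wG s F ≠ 1 := by
      intro e1
      have e2 : dG s l = wG s F := by
        have := eq_inv_of_mul_eq_one_left e1
        rwa [wG_inv] at this
      have h1 : dG s l • pI F = pI F := dG_smul_pI l
      rw [e2, wG_smul_pI] at h1
      exact pP_ne_pI _ _ h1
    have hw1 : wG s F ≠ 1 := by
      intro e1
      have h1 := wG_smul_pI (s := s) (F := F)
      rw [e1, one_smul] at h1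
      exact pP_ne_pI _ _ h1.symm
    have hinv : dG s l * wG s F * (dG s l * wG s F) = 1 := by
      calc dG s l * wG s F * (dG s l * wG s F) = dG s l * (wG s F * dG s l * wG s F) := by group
        _ = 1 := by rw [wG_conj_dG, dG_mul, mul_inv_cancel, dG_one]
    refine ⟨g * (dG s l * wG s F) * g⁻¹, g * wG s F * g⁻¹, ?_, ?_, ?_, ?_, ?_⟩
    · rw [e]
      calc g * dG s l * g⁻¹ = g * dG s l * 1 * g⁻¹ := by group
        _ = g * dG s l * (wG s F * wG s F) * g⁻¹ := by rw [wG_mul_self]
        _ = _ := by group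
    · calc g * (dG s l * wG s F) * g⁻¹ * (g * (dG s l * wG s F) * g⁻¹) = g * (dG s l * wG s F * (dG s l * wG s F)) * g⁻¹ := by group
        _ = 1 := by rw [hinv]; group
    · intro e1
      apply hne
      have : dG s l * wG s F = g⁻¹ * (g * (dG s l * wG s F) * g⁻¹) * g := by group
      rw [this, e1]
      group
    · calc g * wG s F * g⁻¹ * (g * wG s F * g⁻¹) = g * (wG s F * wG s F) * g⁻¹ := by group
        _ = 1 := by rw [wG_mul_self]; group
    · intro e1
      apply hw1
      have : wG s F = g⁻¹ * (g * wG s F * g⁻¹) * g := by group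
      rw [this, e1]
      group

end sz

section good

variable {L : Type*} [Group L] [Finite L]

theorem good_Sz [hp2 : Fact (Nat.Prime 2)] {F : Type*} [Field F] [Fintype F] {s : ℕ} [h : SzF F s] {Y A : Subgroup L} (D : LD 2 Y A)
    {π : L →* GG s F} (hπ : Function.Surjective π) (hker : π.ker = A) (hY : ¬ Y ≤ A) : Good 2 Y A := by
  classical
  -- an involution in the image of `Y`
  have hV : IsPGroup 2 (Y.map π) := D.pg.map _
  have hV1 : Y.map π ≠ ⊥ := by
    intro e
    apply hY
    intro y hy
    have h1 : π y ∈ Y.map π := ⟨y, hy, rfl⟩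
    rw [e] at h1
    rw [← hker]
    exact h1
  obtain ⟨n, hn⟩ := IsPGroup.iff_card.1 hV
  have hn0 : n ≠ 0 := by
    rintro rfl
    apply hV1
    rw [pow_zero] at hn
    exact (Subgroup.card_eq_one).1 hn
  have h2V : 2 ∣ Nat.card (Y.map π) := by
    rw [hn]
    exact dvd_pow_self 2 hn0
  obtain ⟨⟨t, ht⟩, hto⟩ := exists_prime_orderOf_dvd_card' 2 h2V
  have htG : orderOf t = 2 := by
    rw [← Subgroup.orderOf_mk t ht]
    exact hto
  have ht2 : t * t = 1 := by
    rw [← pow_two, ← htG, pow_orderOf_eq_one]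
  have ht1 : t ≠ 1 := by
    rintro rfl
    rw [orderOf_one] at htG
    omega
  obtain ⟨y, hy, rfl⟩ := ht
  have hinv : ∀ t' : GG s F, t' * t' = 1 → t' ≠ 1 → InY π Y t' := by
    intro t' h1 h2
    obtain ⟨x₁, hx₁⟩ := SzBound.conj_involution ht2 ht1
    obtain ⟨x₂, hx₂⟩ := SzBound.conj_involution h1 h2
    have h3 := InY.conj hπ (InY.of_mem π hy) (x₂⁻¹ * x₁)
    have e : (x₂⁻¹ * x₁) * π y * (x₂⁻¹ * x₁)⁻¹ = t' := by
      calc (x₂⁻¹ * x₁) * π y * (x₂⁻¹ * x₁)⁻¹ = x₂⁻¹ * (x₁ * π y * x₁⁻¹) * x₂ := by group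
        _ = x₂⁻¹ * (x₂ * t' * x₂⁻¹) * x₂ := by rw [hx₁, hx₂]
        _ = t' := by group
    rwa [e] at h3
  intro z hnp a ha hfix
  have h4 : π z ^ 4 ≠ 1 := by
    intro e
    obtain ⟨j, hj⟩ := order_of_image (k := 2) D.Ap hker (h := z) (by simpa using e)
    exact not_pElem_of_order hnp j hj
  obtain ⟨t₁, t₂, e, h11, h12, h21, h22⟩ := sz_prod_inv h4
  exact fpf_of_prod D hker hnp (hinv _ h11 h12) (hinv _ h21 h22) e ha hfix

end good

end Cfsg.Agent.Lib.Amalgam.LFpf
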