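import Cfsg.Agent.Lib.Sz.Lie

/-!
# The Suzuki group over the field with two elements has order twenty
-/

set_option autoImplicit false

namespace Cfsg.Agent.Lib.Amalgam.Sz2Card

open Cfsg.Agent.SzT Matrix

/-- The condition over the field of two elements. -/
def T2 {R : Type*} [Field R] (M : Matrix (Fin 4) (Fin 4) R) : Prop :=
  Mᵀ * wM R * M = wM R ∧ Cfsg.Lie.star4 M = M

/-- The twenty matrices. -/
def L20 : List (Matrix (Fin 4) (Fin 4) (ZMod 2)) :=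
  [!![0,0,0,1;0,0,1,0;0,1,0,0;1,0,0,0], !![0,0,0,1;0,0,1,0;0,1,0,1;1,0,1,1], !![0,0,0,1;0,0,1,1;0,1,1,0;1,1,1,1],
   !![0,0,0,1;0,0,1,1;0,1,1,1;1,1,0,1], !![1,0,0,0;0,1,0,0;0,0,1,0;0,0,0,1], !![1,0,0,0;0,1,0,0;1,0,1,0;1,1,0,1],
   !![1,0,0,0;1,1,0,0;0,1,1,0;1,1,1,1], !![1,0,0,0;1,1,0,0;1,1,1,0;1,0,1,1], !![1,0,1,1;0,1,0,1;0,0,1,0;0,0,0,1],
   !![1,0,1,1;0,1,0,1;1,0,0,1;1,1,1,1], !![1,0,1,1;1,1,1,0;0,1,1,1;1,1,0,1], !![1,0,1,1;1,1,1,0;1,1,0,0;1,0,0,0],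
   !![1,1,0,1;0,1,1,1;0,0,1,1;0,0,0,1], !![1,1,0,1;0,1,1,1;1,1,1,0;1,0,1,1], !![1,1,0,1;1,0,1,0;0,1,0,0;1,0,0,0],
   !![1,1,0,1;1,0,1,0;1,0,0,1;1,1,1,1], !![1,1,1,1;0,1,1,0;0,0,1,1;0,0,0,1], !![1,1,1,1;0,1,1,0;1,1,0,0;1,0,0,0],
   !![1,1,1,1;1,0,0,1;0,1,0,1;1,0,1,1], !![1,1,1,1;1,0,0,1;1,0,1,0;1,1,0,1]]

theorem L20_nodup : L20.Nodup := by decide +kernel

theorem L20_length : L20.length = 20 := rfl

set_option synthInstance.maxHeartbeats 400000 in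
set_option synthInstance.maxSize 2000 in
set_option maxRecDepth 100000 in
/-- The exhaustive search, by rows. -/
theorem enum20 : ∀ a b c d e f g h : ZMod 2,
    (a * f - e * b = a ∧ a * g - e * c = b ∧ b * h - f * d = c ∧ c * h - g * d = d) →
    ∀ i j k l m n o p : ZMod 2,
      (a * j - i * b = e ∧ a * k - i * c = f ∧ b * l - j * d = g ∧ c * l - k * d = h ∧
       e * n - m * f = i ∧ e * o - m * g = j ∧ f * p - n * h = k ∧ g * p - o * h = l ∧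
       i * n - m * j = m ∧ i * o - m * k = n ∧ j * p - n * l = o ∧ k * p - o * l = p) →
      (a * m + e * i + i * e + m * a = 0 ∧ a * n + e * j + i * f + m * b = 0 ∧ a * o + e * k + i * g + m * c = 0 ∧ a * p + e * l + i * h + m * d = 1 ∧
       b * n + f * j + j * f + n * b = 0 ∧ b * o + f * k + j * g + n * c = 1 ∧ b * p + f * l + j * h + n * d = 0 ∧
       c * o + g * k + k * g + o * c = 0 ∧ c * p + g * l + k * h + o * d = 0 ∧ d * p + h * l + l * h + p * d = 0) →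
      !![a, b, c, d; e, f, g, h; i, j, k, l; m, n, o, p] ∈ L20 := by
  decide +kernel

/-- The equations on the entries. -/
def EE {R : Type*} [Field R] (M : Matrix (Fin 4) (Fin 4) R) : Prop :=
  M 0 0 * M 1 1 - M 1 0 * M 0 1 = M 0 0 ∧
  M 0 0 * M 1 2 - M 1 0 * M 0 2 = M 0 1 ∧
  M 0 1 * M 1 3 - M 1 1 * M 0 3 = M 0 2 ∧
  M 0 2 * M 1 3 - M 1 2 * M 0 3 = M 0 3 ∧
  M 0 0 * M 2 1 - M 2 0 * M 0 1 = M 1 0 ∧
  M 0 0 * M 2 2 - M 2 0 * M 0 2 = M 1 1 ∧
  M 0 1 * M 2 3 - M 2 1 * M 0 3 = M 1 2 ∧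
  M 0 2 * M 2 3 - M 2 2 * M 0 3 = M 1 3 ∧
  M 1 0 * M 3 1 - M 3 0 * M 1 1 = M 2 0 ∧
  M 1 0 * M 3 2 - M 3 0 * M 1 2 = M 2 1 ∧
  M 1 1 * M 3 3 - M 3 1 * M 1 3 = M 2 2 ∧
  M 1 2 * M 3 3 - M 3 2 * M 1 3 = M 2 3 ∧
  M 2 0 * M 3 1 - M 3 0 * M 2 1 = M 3 0 ∧
  M 2 0 * M 3 2 - M 3 0 * M 2 2 = M 3 1 ∧
  M 2 1 * M 3 3 - M 3 1 * M 2 3 = M 3 2 ∧
  M 2 2 * M 3 3 - M 3 2 * M 2 3 = M 3 3 ∧
  M 0 0 * M 3 0 + M 1 0 * M 2 0 + M 2 0 * M 1 0 + M 3 0 * M 0 0 = 0 ∧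
  M 0 0 * M 3 1 + M 1 0 * M 2 1 + M 2 0 * M 1 1 + M 3 0 * M 0 1 = 0 ∧
  M 0 0 * M 3 2 + M 1 0 * M 2 2 + M 2 0 * M 1 2 + M 3 0 * M 0 2 = 0 ∧
  M 0 0 * M 3 3 + M 1 0 * M 2 3 + M 2 0 * M 1 3 + M 3 0 * M 0 3 = 1 ∧
  M 0 1 * M 3 0 + M 1 1 * M 2 0 + M 2 1 * M 1 0 + M 3 1 * M 0 0 = 0 ∧
  M 0 1 * M 3 1 + M 1 1 * M 2 1 + M 2 1 * M 1 1 + M 3 1 * M 0 1 = 0 ∧
  M 0 1 * M 3 2 + M 1 1 * M 2 2 + M 2 1 * M 1 2 + M 3 1 * M 0 2 = 1 ∧
  M 0 1 * M 3 3 + M 1 1 * M 2 3 + M 2 1 * M 1 3 + M 3 1 * M 0 3 = 0 ∧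
  M 0 2 * M 3 0 + M 1 2 * M 2 0 + M 2 2 * M 1 0 + M 3 2 * M 0 0 = 0 ∧
  M 0 2 * M 3 1 + M 1 2 * M 2 1 + M 2 2 * M 1 1 + M 3 2 * M 0 1 = 1 ∧
  M 0 2 * M 3 2 + M 1 2 * M 2 2 + M 2 2 * M 1 2 + M 3 2 * M 0 2 = 0 ∧
  M 0 2 * M 3 3 + M 1 2 * M 2 3 + M 2 2 * M 1 3 + M 3 2 * M 0 3 = 0 ∧
  M 0 3 * M 3 0 + M 1 3 * M 2 0 + M 2 3 * M 1 0 + M 3 3 * M 0 0 = 1 ∧
  M 0 3 * M 3 1 + M 1 3 * M 2 1 + M 2 3 * M 1 1 + M 3 3 * M 0 1 = 0 ∧
  M 0 3 * M 3 2 + M 1 3 * M 2 2 + M 2 3 * M 1 2 + M 3 3 * M 0 2 = 0 ∧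
  M 0 3 * M 3 3 + M 1 3 * M 2 3 + M 2 3 * M 1 3 + M 3 3 * M 0 3 = 0

instance {R : Type*} [Field R] [DecidableEq R] (M : Matrix (Fin 4) (Fin 4) R) : Decidable (EE M) := by
  unfold EE
  infer_instance

theorem EE_of_mem : ∀ M ∈ L20, EE M := by
  intro M hM
  simp only [L20, List.mem_cons, List.not_mem_nil, or_false] at hM
  rcases hM with rfl|rfl|rfl|rfl|rfl|rfl|rfl|rfl|rfl|rfl|rfl|rfl|rfl|rfl|rfl|rfl|rfl|rfl|rfl|rfl
  all_goals decide +kernel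

theorem T2_of_EE {R : Type*} [Field R] [Fintype R] {M : Matrix (Fin 4) (Fin 4) R} (h : EE M) : T2 M := by
  obtain ⟨s00, s01, s02, s03, s10, s11, s12, s13, s20, s21, s22, s23, s30, s31, s32, s33, f00, f01, f02, f03, f10, f11, f12, f13, f20, f21, f22, f23, f30, f31, f32, f33⟩ := h
  constructor
  · ext i j
    rw [form_entry]
    fin_cases i <;> fin_cases j
    · exact f00
    · exact f01
    · exact f02
    · exact f03
    · exact f10
    · exact f11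
    · exact f12
    · exact f13
    · exact f20
    · exact f21
    · exact f22
    · exact f23
    · exact f30
    · exact f31
    · exact f32
    · exact f33
  · ext i j
    rw [SzT.star_apply]
    fin_cases i <;> fin_cases j
    · exact s00
    · exact s01
    · exact s02
    · exact s03
    · exact s10
    · exact s11
    · exact s12
    · exact s13
    · exact s20
    · exact s21
    · exact s22
    · exact s23
    · exact s30
    · exact s31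
    · exact s32
    · exact s33

theorem T2_iff (M : Matrix (Fin 4) (Fin 4) (ZMod 2)) : M ∈ L20 ↔ T2 M := by
  constructor
  · exact fun h => T2_of_EE (EE_of_mem M h)
  · rintro ⟨h1, h2⟩
    have hM : !![M 0 0, M 0 1, M 0 2, M 0 3; M 1 0, M 1 1, M 1 2, M 1 3; M 2 0, M 2 1, M 2 2, M 2 3; M 3 0, M 3 1, M 3 2, M 3 3] = M := by
      ext i j
      fin_cases i <;> fin_cases j <;> rfl
    rw [← hM]
    have hs : ∀ p r, Cfsg.Lie.star4 M p r = M p r := fun p r => by rw [h2]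
    have hf : ∀ i j, (M.transpose * wM (ZMod 2) * M) i j = wM (ZMod 2) i j := fun i j => by rw [h1]
    simp only [form_entry] at hf
    apply enum20
    · exact ⟨hs 0 0, hs 0 1, hs 0 2, hs 0 3⟩
    · exact ⟨hs 1 0, hs 1 1, hs 1 2, hs 1 3, hs 2 0, hs 2 1, hs 2 2, hs 2 3, hs 3 0, hs 3 1, hs 3 2, hs 3 3⟩
    · exact ⟨hf 0 0, hf 0 1, hf 0 2, hf 0 3, hf 1 1, hf 1 2, hf 1 3, hf 2 2, hf 2 3, hf 3 3⟩

theorem card_T2_zmod : Nat.card {M : Matrix (Fin 4) (Fin 4) (ZMod 2) // T2 M} = 20 := by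
  classical
  rw [Nat.subtype_card L20.toFinset (by intro M; rw [List.mem_toFinset]; exact T2_iff M), List.toFinset_card_of_nodup L20_nodup, L20_length]

section transfer

variable {R R' : Type*} [Field R] [Field R'] [Fintype R] [Fintype R']

theorem wM_map (θ : R ≃+* R') : (wM R).map θ = wM R' := by
  ext i j
  fin_cases i <;> fin_cases j <;> simp [wM]

theorem star4_map (θ : R ≃+* R') (M : Matrix (Fin 4) (Fin 4) R) : Cfsg.Lie.star4 (M.map θ) = (Cfsg.Lie.star4 M).map θ := by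
  ext p r
  simp [Cfsg.Lie.star4]

theorem T2_map_iff (θ : R ≃+* R') (M : Matrix (Fin 4) (Fin 4) R) : T2 (M.map θ) ↔ T2 M := by
  have hinj : Function.Injective (fun N : Matrix (Fin 4) (Fin 4) R => N.map θ) := fun N N' h => by
    ext i j
    have := congrFun (congrFun h i) j
    exact θ.injective this
  have e1 : (M.map θ).transpose * wM R' * M.map θ = (M.transpose * wM R * M).map θ := by
    ext i j
    rw [Matrix.map_apply, form_entry, form_entry]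
    simp
  constructor
  · rintro ⟨h1, h2⟩
    constructor
    · apply hinj
      show (M.transpose * wM R * M).map θ = (wM R).map θ
      rw [← e1, h1, wM_map]
    · apply hinj
      show (Cfsg.Lie.star4 M).map θ = M.map θ
      rw [← star4_map, h2]
  · rintro ⟨h1, h2⟩
    constructor
    · rw [e1, h1, wM_map]
    · rw [star4_map, h2]

end transfer

section group

variable {F : Type*} [Field F] [Fintype F]

theorem star4_one : Cfsg.Lie.star4 (1 : Matrix (Fin 4) (Fin 4) F) = 1 := by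
  have e0 : Cfsg.Lie.pairOf 0 = (0, 1) := rfl
  have e1 : Cfsg.Lie.pairOf 1 = (0, 2) := rfl
  have e2 : Cfsg.Lie.pairOf 2 = (1, 3) := rfl
  have e3 : Cfsg.Lie.pairOf 3 = (2, 3) := rfl
  ext p r
  rw [SzT.star_apply]
  fin_cases p <;> fin_cases r <;> simp [m2, e0, e1, e2, e3, Matrix.one_apply]

theorem T2_of_closure (hF : Fintype.card F = 2) (g : GL (Fin 4) F) (hg : g ∈ Cfsg.Lie.Sz F 2) :
    T2 (g : Matrix (Fin 4) (Fin 4) F) := by
  have t2 : (2 : F) = 0 := by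
    have := FiniteField.cast_card_eq_zero F
    rw [hF] at this
    exact_mod_cast this
  have hpow : ∀ x : F, x ^ 2 = x := fun x => by
    have := FiniteField.pow_card x
    rwa [hF] at this
  induction hg using Subgroup.closure_induction with
  | mem x hx =>
    refine ⟨(mem_Sp4_iff x).1 hx.1, ?_⟩
    rw [hx.2]
    ext i j
    simp [hpow]
  | one =>
    refine ⟨by simp, ?_⟩
    simpa using star4_one
  | mul x y _ _ hx hy =>
    refine ⟨?_, ?_⟩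
    · rw [Units.val_mul, Matrix.transpose_mul]
      calc (y : Matrix (Fin 4) (Fin 4) F).transpose * (x : Matrix (Fin 4) (Fin 4) F).transpose * wM F * ((x : Matrix (Fin 4) (Fin 4) F) * y)
          = (y : Matrix (Fin 4) (Fin 4) F).transpose * ((x : Matrix (Fin 4) (Fin 4) F).transpose * wM F * x) * y := by
            simp only [Matrix.mul_assoc]
        _ = wM F := by rw [hx.1, hy.1]
    · rw [Units.val_mul, star_mul t2 hx.1 hy.1, hx.2, hy.2]
  | inv x _ hx =>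
    have e1 : (x : Matrix (Fin 4) (Fin 4) F) * ((x⁻¹ : GL (Fin 4) F) : Matrix (Fin 4) (Fin 4) F) = 1 := by
      rw [← Units.val_mul, mul_inv_cancel, Units.val_one]
    have e2 : ((x⁻¹ : GL (Fin 4) F) : Matrix (Fin 4) (Fin 4) F) * (x : Matrix (Fin 4) (Fin 4) F) = 1 := by
      rw [← Units.val_mul, inv_mul_cancel, Units.val_one]
    set N := ((x⁻¹ : GL (Fin 4) F) : Matrix (Fin 4) (Fin 4) F) with hN
    set M := (x : Matrix (Fin 4) (Fin 4) F) with hM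
    have hform : N.transpose * wM F * N = wM F := by
      calc N.transpose * wM F * N = N.transpose * (M.transpose * wM F * M) * N := by rw [hx.1]
        _ = (M * N).transpose * wM F * (M * N) := by
          rw [Matrix.transpose_mul]
          simp only [Matrix.mul_assoc]
        _ = wM F := by rw [e1]; simp
    refine ⟨hform, ?_⟩
    have h3 := star_mul t2 hx.1 hform
    rw [e1, star4_one, hx.2] at h3
    calc Cfsg.Lie.star4 N = (N * M) * Cfsg.Lie.star4 N := by rw [e2, Matrix.one_mul]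
      _ = N * (M * Cfsg.Lie.star4 N) := by rw [Matrix.mul_assoc]
      _ = N := by rw [← h3, Matrix.mul_one]

theorem mem_closure_of_T2 (hF : Fintype.card F = 2) (M : Matrix (Fin 4) (Fin 4) F) (hM : T2 M) :
    ∃ g : GL (Fin 4) F, g ∈ Cfsg.Lie.Sz F 2 ∧ (g : Matrix (Fin 4) (Fin 4) F) = M := by
  have hpow : ∀ x : F, x ^ 2 = x := fun x => by
    have := FiniteField.pow_card x
    rwa [hF] at this
  have h1 : (wM F * M.transpose * wM F) * M = 1 := by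
    calc (wM F * M.transpose * wM F) * M = wM F * (M.transpose * wM F * M) := by simp only [Matrix.mul_assoc]
      _ = 1 := by rw [hM.1, wM_mul_self]
  have h2 : M * (wM F * M.transpose * wM F) = 1 := mul_eq_one_comm.1 h1
  let g : GL (Fin 4) F := ⟨M, wM F * M.transpose * wM F, h2, h1⟩
  refine ⟨g, ?_, rfl⟩
  apply Subgroup.subset_closure
  refine ⟨(mem_Sp4_iff g).2 hM.1, ?_⟩
  show Cfsg.Lie.star4 M = M.map (fun x => x ^ 2)
  rw [hM.2]
  ext i j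
  simp [hpow]

/-- The order of `Sz(2)`. -/
theorem card_Sz2 (hF : Fintype.card F = 2) : Nat.card (Cfsg.Lie.Sz F 2) = 20 := by
  have θ : F ≃+* ZMod 2 := (ZMod.ringEquivOfPrime F Nat.prime_two hF).symm
  rw [← card_T2_zmod]
  apply Nat.card_congr
  refine Equiv.ofBijective (fun g => ⟨((g : GL (Fin 4) F) : Matrix (Fin 4) (Fin 4) F).map θ, ?_⟩) ⟨?_, ?_⟩
  · exact (T2_map_iff θ _).2 (T2_of_closure hF g g.2)
  · intro g g' h
    have h1 := congrArg Subtype.val h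
    apply Subtype.ext
    apply Units.ext
    ext i j
    have h2 := congrFun (congrFun h1 i) j
    exact θ.injective h2
  · rintro ⟨M, hM⟩
    have hM' : T2 (M.map θ.symm) := (T2_map_iff θ.symm M).2 hM
    obtain ⟨g, hg, e⟩ := mem_closure_of_T2 hF _ hM'
    refine ⟨⟨g, hg⟩, ?_⟩
    apply Subtype.ext
    show ((g : GL (Fin 4) F) : Matrix (Fin 4) (Fin 4) F).map θ = M
    rw [e]
    ext i j
    simp

end group

end Cfsg.Agent.Lib.Amalgam.Sz2Card
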