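import Cfsg.Agent.Lib.Amalgam.LFpfSL2
import Cfsg.Agent.Lib.Amalgam.LFpfSz
import Cfsg.Agent.Lib.Amalgam.Sz2Card

/-!
# Fixed-point-freeness on `O_p(L)/C_Y(L)`: the end of the proof
-/

set_option autoImplicit false

namespace Cfsg.Agent.Lib.Amalgam.LFpf

open Subgroup Cfsg.Agent.Lib.FF Cfsg.Agent.Lib.Amalgam Cfsg.Agent.SzT
open scoped commutatorElement

/-- In a group of order `20`, the normal closure of a subgroup of order `2` is proper. -/
theorem false_of_card20 {Q : Type*} [Group Q] (hQ : Nat.card Q = 20) (V : Subgroup Q) (hV : Nat.card V = 2)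
    (hcl : ∀ N : Subgroup Q, N.Normal → V ≤ N → N = ⊤) : False := by
  classical
  haveI : Finite Q := Nat.finite_of_card_ne_zero (by omega)
  haveI : Fact (Nat.Prime 5) := ⟨by norm_num⟩
  haveI : Fact (Nat.Prime 2) := ⟨Nat.prime_two⟩
  obtain ⟨P⟩ : Nonempty (Sylow 5 Q) := inferInstance
  have hind : Nat.card P * (P : Subgroup Q).index = 20 := by
    rw [Subgroup.card_mul_index]
    exact hQ
  obtain ⟨k, hk⟩ := IsPGroup.iff_card.1 P.isPGroup'
  have hnd := P.not_dvd_index
  have hind4 : (P : Subgroup Q).index = 4 := by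
    rw [hk] at hind
    rcases k with _ | _ | k
    · rw [pow_zero, one_mul] at hind
      rw [hind] at hnd
      exact absurd (by norm_num) hnd
    · rw [zero_add, pow_one] at hind
      omega
    · exfalso
      have h1 : 25 ∣ 20 := ⟨5 ^ k * (P : Subgroup Q).index, by
        rw [← hind]
        ring⟩
      omega
  have hn : Nat.card (Sylow 5 Q) ∣ 4 := hind4 ▸ P.card_dvd_index
  have hm := card_sylow_modEq_one 5 Q
  have hn1 : Nat.card (Sylow 5 Q) = 1 := by
    have h4 := Nat.le_of_dvd (by norm_num) hn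
    unfold Nat.ModEq at hm
    interval_cases hc : Nat.card (Sylow 5 Q) <;> simp_all
  haveI : Subsingleton (Sylow 5 Q) := (Nat.card_eq_one_iff_unique.1 hn1).1
  haveI hPn : (P : Subgroup Q).Normal := Sylow.normal_of_subsingleton P
  let φ := QuotientGroup.mk' (P : Subgroup Q)
  have hφ : Function.Surjective φ := QuotientGroup.mk'_surjective _
  have hcQ : Nat.card (Q ⧸ (P : Subgroup Q)) = 2 ^ 2 := by
    rw [← Subgroup.index_eq_card, hind4]
    norm_num
  have hcomm := IsPGroup.isMulCommutative_of_card_eq_prime_sq (p := 2) hcQ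
  have hVn : (V.map φ).Normal := by
    constructor
    intro n hn g
    have : g * n * g⁻¹ = n := by
      rw [hcomm.is_comm.comm g n]
      group
    rwa [this]
  have h1 := hcl ((V.map φ).comap φ) (hVn.comap φ) (Subgroup.le_comap_map φ V)
  have h2 : V.map φ = ⊤ := by
    rw [eq_top_iff]
    intro x _
    obtain ⟨y, rfl⟩ := hφ x
    have : y ∈ (V.map φ).comap φ := by rw [h1]; trivial
    exact this
  have h3 : Nat.card (V.map φ) ∣ Nat.card V :=
    Subgroup.card_dvd_of_surjective (φ.subgroupMap V) (φ.subgroupMap_surjective V)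
  rw [h2, Subgroup.card_top, hcQ, hV] at h3
  omega

/-- The homomorphism obtained from an isomorphism of the quotient. -/
theorem quot_hom {L Q : Type*} [Group L] [Group Q] (A : Subgroup L) [A.Normal] (e : L ⧸ A ≃* Q) :
    ∃ π : L →* Q, Function.Surjective π ∧ π.ker = A := by
  refine ⟨e.toMonoidHom.comp (QuotientGroup.mk' A), ?_, ?_⟩
  · exact e.surjective.comp (QuotientGroup.mk'_surjective A)
  · ext x
    rw [MonoidHom.mem_ker]
    show e (x : L ⧸ A) = 1 ↔ _
    rw [map_eq_one_iff e e.injective, QuotientGroup.eq_one_iff]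

variable {G : Type*} [Group G] [Finite G] {p : ℕ} [hp : Fact p.Prime] {M L : Subgroup G}

theorem good_of_frakL (hL : IsInFrakL p M L) :
    Good p ((largestPReducedOf p M).subgroupOf L) (pCore p ↥L) := by
  classical
  have D := LD_of_frakL hL
  have hrel := relIndex_eq hL
  have hYnot : ¬ (largestPReducedOf p M).subgroupOf L ≤ pCore p ↥L := by
    apply D.not_le
    intro e
    apply hL.2.2.2.2.2.1.1.ne
    apply le_antisymm inf_le_left
    apply le_inf le_rfl
    intro x hx
    have h1 : (⟨x, hx⟩ : ↥L) ∈ normalizer (((largestPReducedOf p M).subgroupOf L : Subgroup ↥L) : Set ↥L) := by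
      rw [e]; trivial
    rw [mem_normalizer_iff] at h1 ⊢
    intro y
    by_cases hy : y ∈ L
    · have h2 := h1 ⟨y, hy⟩
      simpa [Subgroup.mem_subgroupOf] using h2
    · -- `Y ≤ L`
      have hYL := hL.1
      constructor
      · intro h3
        exact absurd (hYL h3) hy
      · intro h3
        exfalso
        apply hy
        have h4 := hYL h3
        have h5 : x * y * x⁻¹ ∈ L := h4
        have : y = x⁻¹ * (x * y * x⁻¹) * x := by group
        rw [this]
        exact L.mul_mem (L.mul_mem (L.inv_mem hx) h5) hx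
  obtain ⟨-, -, -, -, -, -, hcase⟩ := hL
  rcases hcase with ⟨F, _, _, hcard, ⟨e⟩⟩ | ⟨rfl, F, _, _, m, hF, hcard, ⟨e⟩⟩ | ⟨rfl, r, hr, hr2, ⟨e⟩⟩
  · obtain ⟨π, hπ, hker⟩ := quot_hom _ e
    exact good_SL2 D hπ hker (by rw [hcard, hrel])
  · obtain ⟨π, hπ, hker⟩ := quot_hom _ e
    by_cases hm : m = 0
    · subst hm
      exfalso
      have hF2 : Fintype.card F = 2 := by simpa using hF
      have hQ : Nat.card (Lie.Sz F (2 ^ (0 + 1))) = 20 := Sz2Card.card_Sz2 hF2
      refine false_of_card20 hQ (((largestPReducedOf 2 M).subgroupOf L).map π) ?_ ?_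
      · rw [card_map_eq_relIndex hker, hrel, ← hcard, hF2]
      · intro N hN hVN
        have h1 := D.cl (N.comap π) (hN.comap π) (by
          intro y hy
          exact hVN ⟨y, hy, rfl⟩)
        rw [eq_top_iff]
        intro x _
        obtain ⟨y, rfl⟩ := hπ x
        have : y ∈ N.comap π := by rw [h1]; trivial
        exact this
    · haveI : SzF F (2 ^ (m + 1)) := szF_of_card (Nat.pos_of_ne_zero hm) hF
      have hπ' : Function.Surjective ((szEquiv (2 ^ (m + 1)) F).symm.toMonoidHom.comp π) :=
        (szEquiv (2 ^ (m + 1)) F).symm.surjective.comp hπ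
      have hker' : ((szEquiv (2 ^ (m + 1)) F).symm.toMonoidHom.comp π).ker = pCore 2 ↥L := by
        rw [← hker]
        ext x
        simp [MonoidHom.mem_ker]
      exact good_Sz D hπ' hker' hYnot
  · obtain ⟨π, hπ, hker⟩ := quot_hom _ e
    exact good_dihedral hr hr2 D hπ hker hYnot

end Cfsg.Agent.Lib.Amalgam.LFpf
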