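import Cfsg.Agent.Lib.Amalgam.LFpf2
import Cfsg.Agent.Lib.Techniques.SL2Borel

/-!
# The `SL₂` case of fixed-point-freeness
-/

set_option autoImplicit false

namespace Cfsg.Agent.Lib.Amalgam.LFpf

open Subgroup Cfsg.Agent.Lib.FF Cfsg.Agent.Lib.Amalgam Matrix Cfsg.Agent.Lib.Techniques
open scoped commutatorElement

section sl2

variable {F : Type*} [Field F]

/-- The matrix with given entries. -/
def mk2 (a b c d : F) (h : a * d - b * c = 1) : SpecialLinearGroup (Fin 2) F :=
  ⟨!![a, b; c, d], by simpa [det_fin_two_of] using h⟩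

@[simp] theorem mk2_00 (a b c d : F) (h) : (mk2 a b c d h).1 0 0 = a := rfl
@[simp] theorem mk2_01 (a b c d : F) (h) : (mk2 a b c d h).1 0 1 = b := rfl
@[simp] theorem mk2_10 (a b c d : F) (h) : (mk2 a b c d h).1 1 0 = c := rfl
@[simp] theorem mk2_11 (a b c d : F) (h) : (mk2 a b c d h).1 1 1 = d := rfl

theorem decomp_A (x : SpecialLinearGroup (Fin 2) F) (hc : x.1 1 0 ≠ 0) :
    ∃ (g : SpecialLinearGroup (Fin 2) F) (s r : F), x = g * (upT s * loT r) * g⁻¹ := by
  have hdet := sl2_det x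
  set a := x.1 0 0 with ha
  set b := x.1 0 1 with hb
  set c := x.1 1 0 with hc'
  set d := x.1 1 1 with hd
  refine ⟨upT (-((d - 1) / c)), (a + d - 2) / c, c, ?_⟩
  rw [upT_inv, neg_neg]
  apply sl2_ext
  · simp only [sl2_mul_00, sl2_mul_01, sl2_mul_10, sl2_mul_11, upT_00, upT_01, upT_10, upT_11, loT_00, loT_01, loT_10, loT_11]
    field_simp
    ring
  · simp only [sl2_mul_00, sl2_mul_01, sl2_mul_10, sl2_mul_11, upT_00, upT_01, upT_10, upT_11, loT_00, loT_01, loT_10, loT_11]
    field_simp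
    linear_combination (-c) * hdet
  · simp only [sl2_mul_00, sl2_mul_01, sl2_mul_10, sl2_mul_11, upT_00, upT_01, upT_10, upT_11, loT_00, loT_01, loT_10, loT_11]
    ring
  · simp only [sl2_mul_00, sl2_mul_01, sl2_mul_10, sl2_mul_11, upT_00, upT_01, upT_10, upT_11, loT_00, loT_01, loT_10, loT_11]
    field_simp
    ring

/-- The Weyl element. -/
def w0 : SpecialLinearGroup (Fin 2) F := mk2 0 1 (-1) 0 (by ring)

theorem w0_conj (x : SpecialLinearGroup (Fin 2) F) : (w0 * x * w0⁻¹).1 1 0 = - x.1 0 1 := by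
  simp only [sl2_mul_10, sl2_mul_11, sl2_mul_00, sl2_mul_01, sl2_inv_10, sl2_inv_00, sl2_inv_01, sl2_inv_11, w0, mk2_00, mk2_01, mk2_10, mk2_11]
  ring

theorem w0_conj_up (t : F) : w0 * upT t * w0⁻¹ = loT (-t) := by
  apply sl2_ext <;>
  · simp only [sl2_mul_10, sl2_mul_11, sl2_mul_00, sl2_mul_01, sl2_inv_10, sl2_inv_00, sl2_inv_01, sl2_inv_11, w0, mk2_00, mk2_01, mk2_10, mk2_11, upT_00, upT_01, upT_10, upT_11, loT_00, loT_01, loT_10, loT_11]
    ring

theorem conj_decomp (y : SpecialLinearGroup (Fin 2) F) (u : SpecialLinearGroup (Fin 2) F)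
    (h : ∃ (g : SpecialLinearGroup (Fin 2) F) (s r : F), u * y * u⁻¹ = g * (upT s * loT r) * g⁻¹) :
    ∃ (g : SpecialLinearGroup (Fin 2) F) (s r : F), y = g * (upT s * loT r) * g⁻¹ := by
  obtain ⟨g, s, r, e⟩ := h
  refine ⟨u⁻¹ * g, s, r, ?_⟩
  have : y = u⁻¹ * (u * y * u⁻¹) * u := by group
  rw [this, e]
  group

/-- A non-central element of `SL₂` is conjugate to a product of an upper and a lower transvection. -/
theorem sl2_decomp (x : SpecialLinearGroup (Fin 2) F) (hx : x.1 0 1 ≠ 0 ∨ x.1 1 0 ≠ 0 ∨ x.1 0 0 ≠ x.1 1 1) :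
    ∃ (g : SpecialLinearGroup (Fin 2) F) (s r : F), x = g * (upT s * loT r) * g⁻¹ := by
  have hB : ∀ y : SpecialLinearGroup (Fin 2) F, y.1 0 1 ≠ 0 →
      ∃ (g : SpecialLinearGroup (Fin 2) F) (s r : F), y = g * (upT s * loT r) * g⁻¹ := by
    intro y hy
    apply conj_decomp y w0
    apply decomp_A
    rw [w0_conj]
    exact neg_ne_zero.2 hy
  rcases hx with h | h | h
  · exact hB x h
  · exact decomp_A x h
  · by_cases hc : x.1 1 0 = 0
    · by_cases hb : x.1 0 1 = 0
      · apply conj_decomp x (upT 1)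
        apply hB
        rw [upT_inv]
        simp only [sl2_mul_10, sl2_mul_11, sl2_mul_00, sl2_mul_01, upT_00, upT_01, upT_10, upT_11, hb, hc]
        intro e
        apply h
        linear_combination -(1 : F) * e
      · exact hB x hb
    · exact decomp_A x hc

/-- The number of upper transvections. -/
theorem card_U0 [Fintype F] : Nat.card (U0 F) = Fintype.card F := by
  rw [← Nat.card_eq_fintype_card]
  symm
  apply Nat.card_congr
  refine Equiv.ofBijective (fun s => (⟨upT s, s, rfl⟩ : U0 F)) ⟨?_, ?_⟩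
  · intro a b h
    have h1 := congrArg (fun z : U0 F => (z : SpecialLinearGroup (Fin 2) F).1 0 1) h
    simpa using h1
  · rintro ⟨_, s, rfl⟩
    exact ⟨s, rfl⟩

/-- A `p`-subgroup of `SL₂` over a field of characteristic `p` is conjugate into the upper transvections. -/
theorem exists_conj_U0 [Fintype F] {p : ℕ} [Fact p.Prime] [CharP F p] (V : Subgroup (SpecialLinearGroup (Fin 2) F))
    (hV : IsPGroup p V) : ∃ g : SpecialLinearGroup (Fin 2) F, ∀ v ∈ V, g⁻¹ * v * g ∈ U0 F := by
  classical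
  letI : MulAction V (Fin 2 → F) :=
    { smul := fun v x => (v : SpecialLinearGroup (Fin 2) F).1.mulVec x
      one_smul := fun x => by
        show ((1 : V) : SpecialLinearGroup (Fin 2) F).1.mulVec x = x
        simp
      mul_smul := fun u v x => by
        show ((u * v : V) : SpecialLinearGroup (Fin 2) F).1.mulVec x = (u : SpecialLinearGroup (Fin 2) F).1.mulVec ((v : SpecialLinearGroup (Fin 2) F).1.mulVec x)
        rw [Matrix.mulVec_mulVec]
        rfl }
  have hsmul : ∀ (v : V) (x : Fin 2 → F), v • x = (v : SpecialLinearGroup (Fin 2) F).1.mulVec x := fun _ _ => rfl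
  have hdvd : p ∣ Nat.card (Fin 2 → F) := by
    rw [Nat.card_eq_fintype_card, Fintype.card_fun, Fintype.card_fin]
    apply dvd_pow _ (by norm_num)
    obtain ⟨n, -, hn⟩ := FiniteField.card F p
    rw [hn]
    exact dvd_pow_self p n.ne_zero
  have h0 : (0 : Fin 2 → F) ∈ MulAction.fixedPoints V (Fin 2 → F) := by
    intro v
    rw [hsmul]
    simp
  obtain ⟨b, hb, hb0⟩ := hV.exists_fixed_point_of_prime_dvd_card_of_fixed_point (Fin 2 → F) hdvd h0
  have hfix : ∀ v ∈ V, (v : SpecialLinearGroup (Fin 2) F).1.mulVec b = b := fun v hv => hb ⟨v, hv⟩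
  have hex : ∃ g : SpecialLinearGroup (Fin 2) F, g.1 0 0 = b 0 ∧ g.1 1 0 = b 1 := by
    by_cases h : b 0 = 0
    · have h1 : b 1 ≠ 0 := by
        intro h1
        apply hb0
        funext i
        fin_cases i
        · simpa using h.symm
        · simpa using h1.symm
      refine ⟨mk2 0 (-(b 1)⁻¹) (b 1) 0 (by field_simp; ring), h.symm, rfl⟩
    · refine ⟨mk2 (b 0) 0 (b 1) (b 0)⁻¹ (by field_simp; ring), rfl, rfl⟩
  obtain ⟨g, hg0, hg1⟩ := hex
  refine ⟨g, fun v hv => ?_⟩
  have hf := hfix v hv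
  have hf0 : v.1 0 0 * g.1 0 0 + v.1 0 1 * g.1 1 0 = g.1 0 0 := by
    have := congrFun hf 0
    simp only [Matrix.mulVec, dotProduct, Fin.sum_univ_two] at this
    rw [hg0, hg1]
    exact this
  have hf1 : v.1 1 0 * g.1 0 0 + v.1 1 1 * g.1 1 0 = g.1 1 0 := by
    have := congrFun hf 1
    simp only [Matrix.mulVec, dotProduct, Fin.sum_univ_two] at this
    rw [hg0, hg1]
    exact this
  have hdg := sl2_det g
  have h00 : (g⁻¹ * v * g).1 0 0 = 1 := by
    simp only [sl2_mul_00, sl2_mul_01, sl2_mul_10, sl2_mul_11, sl2_inv_00, sl2_inv_01, sl2_inv_10, sl2_inv_11]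
    linear_combination g.1 1 1 * hf0 - g.1 0 1 * hf1 + hdg
  have h10 : (g⁻¹ * v * g).1 1 0 = 0 := by
    simp only [sl2_mul_00, sl2_mul_01, sl2_mul_10, sl2_mul_11, sl2_inv_00, sl2_inv_01, sl2_inv_10, sl2_inv_11]
    linear_combination -g.1 1 0 * hf0 + g.1 0 0 * hf1
  refine mem_U0.2 ⟨h10, h00, ?_⟩
  have hd := sl2_det (g⁻¹ * v * g)
  rw [h00, h10] at hd
  linear_combination hd

/-- A `p`-subgroup of order `|F|` is a conjugate of the upper transvections. -/
theorem exists_conj_all [Fintype F] {p : ℕ} [Fact p.Prime] [CharP F p] (V : Subgroup (SpecialLinearGroup (Fin 2) F))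
    (hV : IsPGroup p V) (hc : Nat.card V = Fintype.card F) :
    ∃ g : SpecialLinearGroup (Fin 2) F, ∀ s : F, g * upT s * g⁻¹ ∈ V := by
  obtain ⟨g, hg⟩ := exists_conj_U0 V hV
  refine ⟨g, fun s => ?_⟩
  let V' := V.map (MulAut.conj g⁻¹).toMonoidHom
  have h1 : V' ≤ U0 F := by
    rintro _ ⟨v, hv, rfl⟩
    have := hg v hv
    simpa using this
  have h2 : Nat.card V' = Nat.card V := Subgroup.card_map_of_injective (MulAut.conj g⁻¹).injective
  have h3 : V' = U0 F := Subgroup.eq_of_le_of_card_ge h1 (by rw [h2, hc, card_U0])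
  have h4 : upT s ∈ V' := by rw [h3]; exact ⟨s, rfl⟩
  obtain ⟨v, hv, e⟩ := h4
  have e' : g⁻¹ * v * g = upT s := by simpa using e
  rw [← e']
  have : g * (g⁻¹ * v * g) * g⁻¹ = v := by group
  rwa [this]

/-- A product formula: powers of the unipotent `1 + n`. -/
def W0 : SpecialLinearGroup (Fin 2) F := mk2 3 4 (-1) (-1) (by ring)

theorem W0_pow (n : ℕ) : ∀ (h : (1 + 2 * (n : F)) * (1 - 2 * (n : F)) - (4 * (n : F)) * (-(n : F)) = 1),
    (W0 : SpecialLinearGroup (Fin 2) F) ^ n = mk2 (1 + 2 * (n : F)) (4 * (n : F)) (-(n : F)) (1 - 2 * (n : F)) h := by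
  induction n with
  | zero =>
    intro h
    apply sl2_ext <;> simp
  | succ n ih =>
    intro h
    rw [pow_succ, ih (by ring)]
    apply sl2_ext <;>
    · simp only [sl2_mul_00, sl2_mul_01, sl2_mul_10, sl2_mul_11, W0, mk2_00, mk2_01, mk2_10, mk2_11]
      push_cast
      ring

theorem W0_pow_char {p : ℕ} [CharP F p] : (W0 : SpecialLinearGroup (Fin 2) F) ^ p = 1 := by
  rw [W0_pow p (by ring)]
  apply sl2_ext <;> simp [CharP.cast_eq_zero F p]

/-- The element `-1`. -/
def Z0 : SpecialLinearGroup (Fin 2) F := mk2 (-1) 0 0 (-1) (by ring)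

theorem Z0_sq : (Z0 : SpecialLinearGroup (Fin 2) F) * Z0 = 1 := by
  apply sl2_ext <;> simp [Z0, sl2_mul_00, sl2_mul_01, sl2_mul_10, sl2_mul_11]

theorem Z0_comm (x : SpecialLinearGroup (Fin 2) F) : Z0 * x = x * Z0 := by
  apply sl2_ext <;> simp [Z0, sl2_mul_00, sl2_mul_01, sl2_mul_10, sl2_mul_11]

theorem prod_eq : upT (-4 : F) * loT 1 = Z0 * W0 := by
  apply sl2_ext <;>
  · simp only [sl2_mul_00, sl2_mul_01, sl2_mul_10, sl2_mul_11, W0, Z0, mk2_00, mk2_01, mk2_10, mk2_11, upT_00, upT_01, upT_10, upT_11, loT_00, loT_01, loT_10, loT_11]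
    ring

/-- `X = Z W` is not a `p`-element for `p` odd, when `Z ≠ 1`. -/
theorem prod_not_p {p : ℕ} [hp : Fact p.Prime] [CharP F p] (hZ : (-1 : F) ≠ 1) (k : ℕ) :
    (upT (-4 : F) * loT 1) ^ (p ^ k) ≠ 1 := by
  have hp2 : p ≠ 2 := by
    rintro rfl
    apply hZ
    have h2 : (2 : F) = 0 := by exact_mod_cast CharP.cast_eq_zero F 2
    linear_combination -h2
  have hodd : Odd p := hp.out.odd_of_ne_two hp2
  intro H
  rw [prod_eq, (show Commute (Z0 : SpecialLinearGroup (Fin 2) F) W0 from Z0_comm _).mul_pow] at H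
  have hZp : (Z0 : SpecialLinearGroup (Fin 2) F) ^ (p ^ k) = Z0 := by
    obtain ⟨m, hm⟩ := hodd.pow (n := k)
    rw [hm, pow_succ, pow_mul, pow_two, Z0_sq, one_pow, one_mul]
  rw [hZp] at H
  rcases k with _ | k
  · have h1 := congrArg (fun z : SpecialLinearGroup (Fin 2) F => z.1 1 0) H
    simp only [pow_zero, pow_one, sl2_mul_10, Z0, W0, mk2_00, mk2_01, mk2_10, mk2_11] at h1
    simp at h1
  · rw [pow_succ', pow_mul, W0_pow_char, one_pow, mul_one] at H
    have h1 := congrArg (fun z : SpecialLinearGroup (Fin 2) F => z.1 0 0) H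
    simp only [Z0, mk2_00] at h1
    exact hZ (by simpa using h1)

end sl2

section good

variable {L : Type*} [Group L] [Finite L] {p : ℕ} [hp : Fact p.Prime]

/-- The number of elements of the image. -/
theorem card_map_eq_relIndex {Q : Type*} [Group Q] {π : L →* Q} {A : Subgroup L} (hker : π.ker = A) (Y : Subgroup L) :
    Nat.card (Y.map π) = A.relIndex Y := by
  have h1 : (π.comp Y.subtype).ker = A.subgroupOf Y := by
    rw [← hker]
    rfl
  have h2 := Subgroup.index_ker (π.comp Y.subtype)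
  rw [h1, MonoidHom.range_comp, Subgroup.range_subtype] at h2
  exact h2.symm

theorem good_SL2 {F : Type*} [Field F] [Fintype F] {Y A : Subgroup L} (D : LD p Y A)
    {π : L →* SpecialLinearGroup (Fin 2) F} (hπ : Function.Surjective π) (hker : π.ker = A)
    (hcard : Fintype.card F = A.relIndex Y) : Good p Y A := by
  classical
  have hVp : IsPGroup p (Y.map π) := D.pg.map _
  have hVc : Nat.card (Y.map π) = Fintype.card F := by
    rw [hcard, card_map_eq_relIndex hker]
  -- the characteristic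
  haveI hchar : CharP F p := by
    obtain ⟨c, hc⟩ := CharP.exists F
    have hcp : c.Prime := CharP.char_is_prime F c
    obtain ⟨n, -, hn⟩ := FiniteField.card F c
    obtain ⟨m, hm⟩ := IsPGroup.iff_card.1 hVp
    have h1 : c ^ (n : ℕ) = p ^ m := by
      rw [← hn, ← hVc, hm]
    have h2 : c ∣ p ^ m := by
      rw [← h1]
      exact dvd_pow_self c n.ne_zero
    have h3 : c = p := (Nat.prime_dvd_prime_iff_eq hcp hp.out).1 (hcp.dvd_of_dvd_pow h2)
    rw [← h3]
    exact hc
  obtain ⟨g, hg⟩ := exists_conj_all (Y.map π) hVp hVc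
  have hup : ∀ s, InY π Y (upT s) := by
    intro s
    obtain ⟨y, hy, e⟩ := hg s
    have h1 := InY.conj hπ (InY.of_mem π hy) g⁻¹
    have e' : g⁻¹ * π y * g⁻¹⁻¹ = upT s := by
      rw [e]
      group
    rwa [e'] at h1
  have hlo : ∀ s, InY π Y (loT s) := by
    intro s
    have h1 := InY.conj hπ (hup (-s)) w0
    rwa [w0_conj_up, neg_neg] at h1
  intro h hnp a ha hfix
  by_cases hx : (π h).1 0 1 ≠ 0 ∨ (π h).1 1 0 ≠ 0 ∨ (π h).1 0 0 ≠ (π h).1 1 1
  · obtain ⟨u, s, r, e⟩ := sl2_decomp (π h) hx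
    refine fpf_of_prod D hker hnp (InY.conj hπ (hup s) u) (InY.conj hπ (hlo r) u) ?_ ha hfix
    rw [e]
    group
  · push Not at hx
    obtain ⟨h01, h10, h00⟩ := hx
    have hdet := sl2_det (π h)
    rw [h01, ← h00] at hdet
    have hsq : ((π h).1 0 0 - 1) * ((π h).1 0 0 + 1) = 0 := by linear_combination hdet
    rcases mul_eq_zero.1 hsq with h1 | h1
    · -- the identity
      exfalso
      have hone : π h = 1 := by
        apply sl2_ext
        · simp; linear_combination h1
        · simpa using h01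
        · simpa using h10
        · simp; rw [← h00]; linear_combination h1
      obtain ⟨j, hj⟩ := order_of_image (k := 0) D.Ap hker (h := h) (by rw [hone]; simp)
      exact not_pElem_of_order hnp j hj
    · -- the element `-1`
      have hz : π h = Z0 := by
        apply sl2_ext
        · simp [Z0]; linear_combination h1
        · simpa [Z0] using h01
        · simpa [Z0] using h10
        · simp [Z0]; rw [← h00]; linear_combination h1
      have hm1 : (-1 : F) ≠ 1 := by
        intro e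
        exfalso
        have hone : π h = 1 := by
          rw [hz]
          apply sl2_ext <;> simp [Z0, e]
        obtain ⟨j, hj⟩ := order_of_image (k := 0) D.Ap hker (h := h) (by rw [hone]; simp)
        exact not_pElem_of_order hnp j hj
      obtain ⟨l₁, y₁, hy₁, e₁⟩ := hup (-4)
      obtain ⟨l₂, y₂, hy₂, e₂⟩ := hlo 1
      set u₁ := l₁ * y₁ * l₁⁻¹ with hu₁
      set u₂ := l₂ * y₂ * l₂⁻¹ with hu₂
      have hu₁' : u₁ ∈ cjg l₁ Y := conj_mem_conj hy₁
      have hu₂' : u₂ ∈ cjg l₂ Y := conj_mem_conj hy₂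
      have hC1 : cjg l₁ Y ⊓ center L = cjg l₂ Y ⊓ center L := by
        rw [cjg_inf_center, cjg_inf_center]
      have e1 : cjg l₁ Y ⊓ center L = Y ⊓ center L := cjg_inf_center _ _
      rw [← e1] at hfix ⊢
      have hnp' : ¬ ∃ k : ℕ, orderOf (u₁ * u₂ * 1) = p ^ k := by
        rintro ⟨k, hk⟩
        apply prod_not_p (F := F) (p := p) hm1 k
        have h2 : (u₁ * u₂ * 1) ^ (p ^ k) = 1 := by rw [← hk]; exact pow_orderOf_eq_one _
        have h3 := congrArg π h2
        rw [map_pow, mul_one, map_mul, map_one, ← e₁, ← e₂] at h3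
        exact h3
      have hw : π ((u₁ * u₂) * h⁻¹) ^ (p ^ 1) = 1 := by
        have h2 : π ((u₁ * u₂) * h⁻¹) = W0 := by
          rw [map_mul, map_mul, ← e₁, ← e₂, map_inv, hz, prod_eq]
          have h3 : (Z0 : SpecialLinearGroup (Fin 2) F)⁻¹ = Z0 := inv_eq_of_mul_eq_one_left Z0_sq
          rw [h3, mul_assoc, ← Z0_comm, ← mul_assoc, Z0_sq, one_mul]
        rw [h2, pow_one, W0_pow_char]
      obtain ⟨j, hj⟩ := order_of_image D.Ap hker hw
      refine fpf_central (D.conj l₁) (D.conj l₂) hC1 hu₁' hu₂' A.one_mem hnp' hj ?_ ?_ ha hfix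
      · group
      · intro t
        rw [← hker, MonoidHom.mem_ker, map_commutatorElement, commutatorElement_eq_one_iff_mul_comm, hz]
        exact Z0_comm _

end good

end Cfsg.Agent.Lib.Amalgam.LFpf
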