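import Cfsg.Agent.Lib.Amalgam.LFpfMain
import Cfsg.Agent.Lib.Sz.SubA

/-!
# The uniqueness of `Y A / A` among the elementary abelian normal subgroups of `N_L(Y) / A`
-/

set_option autoImplicit false

namespace Cfsg.Agent.Lib.Amalgam.LUniq

open Subgroup Matrix Cfsg.Agent.Lib.FF Cfsg.Agent.Lib.Amalgam Cfsg.Agent.Lib.Techniques Cfsg.Agent.Lib.Amalgam.LFpf

/-- The uniqueness property. -/
def UniqP (p : ℕ) {Q : Type*} [Group Q] (T : Subgroup Q) : Prop :=
  ∀ V : Subgroup Q, V ≤ normalizer (T : Set Q) → normalizer (T : Set Q) ≤ normalizer (V : Set Q) →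
    (∀ x ∈ V, x ^ p = 1) → V ≠ ⊥ → V = T

theorem UniqP.map_equiv {p : ℕ} {Q Q' : Type*} [Group Q] [Group Q'] {T : Subgroup Q} (h : UniqP p T) (f : Q ≃* Q') :
    UniqP p (T.map f.toMonoidHom) := by
  intro V hV hN hexp hne
  have e1 : normalizer ((T.map f.toMonoidHom : Subgroup Q') : Set Q') = (normalizer (T : Set Q)).map f.toMonoidHom :=
    (Subgroup.map_equiv_normalizer_eq T f).symm
  rw [e1] at hV hN
  have e2 : normalizer ((V.map f.symm.toMonoidHom : Subgroup Q) : Set Q) = (normalizer (V : Set Q')).map f.symm.toMonoidHom :=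
    (Subgroup.map_equiv_normalizer_eq V f.symm).symm
  have h1 := h (V.map f.symm.toMonoidHom) ?_ ?_ ?_ ?_
  · rw [← h1]
    ext x
    constructor
    · intro hx
      exact ⟨f.symm x, ⟨x, hx, rfl⟩, by simp⟩
    · rintro ⟨_, ⟨y, hy, rfl⟩, rfl⟩
      simpa using hy
  · rintro _ ⟨v, hv, rfl⟩
    obtain ⟨t, ht, e⟩ := hV hv
    have : f.symm v = t := by
      rw [← e]
      simp
    show f.symm v ∈ _
    rw [this]
    exact ht
  · intro x hx
    rw [e2]
    refine ⟨f x, hN ⟨x, hx, rfl⟩, by simp⟩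
  · rintro _ ⟨v, hv, rfl⟩
    show (f.symm v) ^ p = 1
    rw [← map_pow, hexp v hv, map_one]
  · intro hbot
    apply hne
    rw [eq_bot_iff]
    intro v hv
    have : f.symm v ∈ V.map f.symm.toMonoidHom := ⟨v, hv, rfl⟩
    rw [hbot] at this
    have h2 : f.symm v = 1 := this
    have h3 : v = 1 := by simpa using h2
    rw [h3]
    exact one_mem _

section sl2

variable {F : Type*} [Field F]

/-- The diagonal elements. -/
def diagT (t : F) (ht : t ≠ 0) : SpecialLinearGroup (Fin 2) F := mk2 t 0 0 t⁻¹ (by field_simp; ring)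

theorem diagT_conj (t : F) (ht : t ≠ 0) (b : F) : diagT t ht * upT b * (diagT t ht)⁻¹ = upT (t ^ 2 * b) := by
  apply sl2_ext <;>
  · simp only [sl2_mul_10, sl2_mul_11, sl2_mul_00, sl2_mul_01, sl2_inv_10, sl2_inv_00, sl2_inv_01, sl2_inv_11, diagT, mk2_00, mk2_01, mk2_10, mk2_11, upT_00, upT_01, upT_10, upT_11]
    field_simp
    try ring

theorem uniq_U0 [Fintype F] {p : ℕ} [hp : Fact p.Prime] [CharP F p] : UniqP p (U0 F) := by
  classical
  intro V hV hN hexp hne
  rw [normalizer_U0] at hV hN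
  have hVU : V ≤ U0 F := by
    intro v hv
    have h1 := sl2_pow_00_of_mem_B0 (hV hv) p
    rw [hexp v hv] at h1
    have h2 : (v.1 0 0) ^ p = 1 := by
      rw [← h1.1]
      simp
    have h3 : (v.1 0 0 - 1) ^ p = 0 := by
      rw [sub_pow_char, h2]
      simp
    have h4 : v.1 0 0 = 1 := sub_eq_zero.1 (pow_eq_zero_iff hp.out.ne_zero |>.1 h3)
    have h5 : v.1 1 0 = 0 := hV hv
    have hd := sl2_det v
    rw [h4, h5] at hd
    exact mem_U0.2 ⟨h5, h4, by linear_combination hd⟩
  obtain ⟨v, hv, hv1⟩ := (Subgroup.ne_bot_iff_exists_ne_one.1 hne) |> fun ⟨⟨v, hv⟩, h⟩ => (⟨v, hv, fun e => h (Subtype.ext e)⟩ : ∃ v, v ∈ V ∧ v ≠ 1)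
  obtain ⟨w, rfl⟩ := hVU hv
  have hw : w ≠ 0 := by
    rintro rfl
    exact hv1 upT_zero
  have hsq : ∀ t : F, upT (t ^ 2 * w) ∈ V := by
    intro t
    by_cases ht : t = 0
    · subst ht
      simp [upT_zero, one_mem]
    · have h1 : diagT t ht ∈ B0 F := by
        show (diagT t ht).1 1 0 = 0
        rfl
      have h2 := (mem_normalizer_iff.1 (hN h1) _).1 hv
      rwa [diagT_conj] at h2
  have hall : ∀ c : F, upT (c * w) ∈ V := by
    intro c
    by_cases h2 : (2 : F) = 0
    · haveI : Fact (Nat.Prime 2) := ⟨Nat.prime_two⟩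
      have hp2 : p = 2 := by
        have h3 : ((2 : ℕ) : F) = 0 := by exact_mod_cast h2
        rw [CharP.cast_eq_zero_iff F p] at h3
        exact (Nat.prime_dvd_prime_iff_eq hp.out Nat.prime_two).1 h3
      subst hp2
      have hinj : Function.Injective (fun x : F => x ^ 2) := by
        intro x y hxy
        have h3 : (x - y) ^ 2 = 0 := by
          rw [sub_pow_char]
          exact sub_eq_zero.2 hxy
        exact sub_eq_zero.1 (pow_eq_zero_iff (two_ne_zero) |>.1 h3)
      obtain ⟨y, rfl⟩ := Finite.surjective_of_injective hinj c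
      exact hsq y
    · have e : c * w = ((c + 1) / 2) ^ 2 * w + (-(((c - 1) / 2) ^ 2 * w)) := by
        field_simp
        ring
      rw [e, ← upT_mul, ← upT_inv]
      exact V.mul_mem (hsq _) (V.inv_mem (hsq _))
  apply le_antisymm hVU
  rintro _ ⟨b, rfl⟩
  have := hall (b / w)
  rwa [div_mul_cancel₀ _ hw] at this

/-- A `p`-subgroup of order `|F|` has the uniqueness property. -/
theorem uniq_of_card [Fintype F] {p : ℕ} [hp : Fact p.Prime] [CharP F p] (T : Subgroup (SpecialLinearGroup (Fin 2) F))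
    (hT : IsPGroup p T) (hc : Nat.card T = Fintype.card F) : UniqP p T := by
  obtain ⟨g, hg⟩ := exists_conj_all T hT hc
  have h1 : (U0 F).map (MulAut.conj g).toMonoidHom ≤ T := by
    rintro _ ⟨_, ⟨s, rfl⟩, rfl⟩
    exact hg s
  have h2 : (U0 F).map (MulAut.conj g).toMonoidHom = T := by
    apply Subgroup.eq_of_le_of_card_ge h1
    rw [hc, Subgroup.card_map_of_injective (MulAut.conj g).injective, card_U0]
  rw [← h2]
  exact uniq_U0.map_equiv (MulAut.conj g)

end sl2

section sz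

open Cfsg.Agent.SzT Cfsg.Agent.S3391

variable {F : Type*} [Field F] [Fintype F] {s : ℕ} [h : SzF F s]

/-- The central involutions of the unipotent group. -/
def ZZ (s : ℕ) (F : Type*) [Field F] [Fintype F] [SzF F s] : Subgroup (GG s F) where
  carrier := {g | ∃ b : F, g = uG s 0 b}
  mul_mem' := by
    rintro _ _ ⟨b, rfl⟩ ⟨c, rfl⟩
    refine ⟨b + c + 0 ^ s * 0, ?_⟩
    have := uG_mul (s := s) (0 : F) b 0 c
    rw [add_zero] at this
    exact this
  one_mem' := ⟨0, uG_zero.symm⟩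
  inv_mem' := by
    rintro _ ⟨b, rfl⟩
    exact ⟨_, uG_inv 0 b⟩

theorem card_ZZ : Nat.card (ZZ s F) = Fintype.card F := by
  rw [← Nat.card_eq_fintype_card]
  symm
  apply Nat.card_congr
  refine Equiv.ofBijective (fun b => (⟨uG s 0 b, b, rfl⟩ : ZZ s F)) ⟨?_, ?_⟩
  · intro a b e
    exact (uG_inj (congrArg Subtype.val e)).2
  · rintro ⟨_, b, rfl⟩
    exact ⟨b, rfl⟩

theorem conj_ZZ {x : GG s F} (hx : x ∈ Bor s F) {z : GG s F} (hz : z ∈ ZZ s F) : x * z * x⁻¹ ∈ ZZ s F := by
  obtain ⟨a, b, l, rfl⟩ := stab1G (mem_Bor.mp hx)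
  obtain ⟨c, rfl⟩ := hz
  have e : uG s a b * dG s l * uG s 0 c * (uG s a b * dG s l)⁻¹ =
      uG s a b * (dG s l * uG s 0 c * (dG s l)⁻¹) * (uG s a b)⁻¹ := by group
  rw [e, dG_conj_uG, mul_zero]
  have e2 : ∀ d : F, uG s a b * uG s 0 d = uG s 0 d * uG s a b := by
    intro d
    rw [uG_mul, uG_mul, add_zero, zero_add, mul_zero, add_zero]
    have h0 : (0 : F) ^ s = 0 := s_zero (s := s)
    rw [h0, zero_mul, add_zero, add_comm]
  rw [e2]
  refine ⟨(l : F) ^ s * l * l * c, ?_⟩
  group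

theorem normalizer_ZZ : normalizer ((ZZ s F : Subgroup (GG s F)) : Set (GG s F)) = Bor s F := by
  apply le_antisymm
  · intro x hx
    rw [mem_normalizer_iff] at hx
    have hu : x * uG s (0 : F) 1 * x⁻¹ ∈ ZZ s F := (hx _).mp ⟨1, rfl⟩
    obtain ⟨c, hc⟩ := hu
    have hfix : (x * uG s (0 : F) 1 * x⁻¹) • pI F = pI F := by
      rw [hc]
      exact uG_smul_pI _ _
    have hfix' : uG s (0 : F) 1 • (x⁻¹ • pI F) = x⁻¹ • pI F := by
      have e0 : uG s (0 : F) 1 • (x⁻¹ • pI F) = x⁻¹ • ((x * uG s (0 : F) 1 * x⁻¹) • pI F) := by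
        simp only [mul_smul, inv_smul_smul]
      rw [e0, hfix]
    have hmem : x⁻¹ • pI F ∈ Ov s F := smul_mem_Ov' _ pI_mem
    rcases hmem with he | ⟨X, Y, he⟩
    · rw [mem_Bor]
      rw [inv_smul_eq_iff] at he
      exact he.symm
    · rw [he] at hfix'
      have := (uG_fix hfix').2
      exact absurd this one_ne_zero
  · intro x hx
    rw [mem_normalizer_iff]
    intro u
    constructor
    · exact conj_ZZ hx
    · intro hu
      have := conj_ZZ (inv_mem hx) hu
      have e : x⁻¹ * (x * u * x⁻¹) * x⁻¹⁻¹ = u := by group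
      rwa [e] at this

theorem uniq_ZZ : UniqP 2 (ZZ s F) := by
  classical
  intro V hV hN hexp hne
  rw [normalizer_ZZ] at hV hN
  have hVU : V ≤ ZZ s F := by
    intro v hv
    obtain ⟨a, b, l, rfl⟩ := stab1G (mem_Bor.mp (hV hv))
    have h2 := hexp _ hv
    have e : (uG s a b * dG s l) ^ 2 = uG s a b * (dG s l * uG s a b * (dG s l)⁻¹) * dG s (l * l) := by
      rw [← dG_mul, pow_two]
      group
    rw [e, dG_conj_uG, uG_mul] at h2
    have h3 : l * l = 1 := uG_dG_eq_one h2
    have h4 : l = 1 := by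
      have h5 : (l : F) ^ 2 = 1 ^ 2 := by
        rw [pow_two, ← Units.val_mul, h3]
        simp
      have h6 := sq_inj (s := s) h5
      exact Units.ext h6
    subst h4
    have h7 := hexp _ hv
    rw [dG_one, mul_one, pow_two, uG_sq, ← uG_zero (s := s) (F := F)] at h7
    have h8 := (uG_inj h7).2
    have ha : a = 0 := by
      rcases mul_eq_zero.mp h8 with h6 | h6
      · exact pow_eq_zero_iff (s_ne_zero (F := F) (s := s)) |>.1 h6
      · exact h6
    subst ha
    rw [dG_one, mul_one]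
    exact ⟨b, rfl⟩
  obtain ⟨v, hv, hv1⟩ := (Subgroup.ne_bot_iff_exists_ne_one.1 hne) |> fun ⟨⟨v, hv⟩, h⟩ => (⟨v, hv, fun e => h (Subtype.ext e)⟩ : ∃ v, v ∈ V ∧ v ≠ 1)
  obtain ⟨w, rfl⟩ := hVU hv
  have hw : w ≠ 0 := by
    rintro rfl
    exact hv1 uG_zero
  have hall : ∀ c : F, uG s 0 (c * w) ∈ V := by
    intro c
    by_cases hc : c = 0
    · subst hc
      rw [zero_mul, uG_zero]
      exact one_mem _
    · obtain ⟨l, hl⟩ := SzBound.exists_fix_pow (s := s) (Units.mk0 c hc)
      have h1 : dG s l ∈ Bor s F := dG_mem_Bor l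
      have h2 := (mem_normalizer_iff.1 (hN h1) _).1 hv
      rw [dG_conj_uG, mul_zero, hl, Units.val_mk0] at h2
      exact h2
  apply le_antisymm hVU
  rintro _ ⟨b, rfl⟩
  have := hall (b / w)
  rwa [div_mul_cancel₀ _ hw] at this

theorem uniq_Sz (T : Subgroup (GG s F)) (hT : ∀ x ∈ T, x ^ 2 = 1) (hc : Nat.card T = Fintype.card F) : UniqP 2 T := by
  classical
  haveI : Fact (Nat.Prime 2) := ⟨Nat.prime_two⟩
  have hp : IsPGroup 2 T := by
    rintro ⟨x, hx⟩
    refine ⟨1, Subtype.ext ?_⟩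
    simpa using hT x hx
  obtain ⟨P, hP⟩ := hp.exists_le_sylow
  obtain ⟨g, hg⟩ := MulAction.exists_smul_eq (GG s F) P (UniS s F)
  have h1 : T.map (MulAut.conj g).toMonoidHom ≤ ZZ s F := by
    rintro _ ⟨t, ht, rfl⟩
    have h3 : g * t * g⁻¹ ∈ Uni s F := by
      rw [← UniS_coe, ← hg]
      show _ ∈ ((g • P : Sylow 2 (GG s F)) : Subgroup (GG s F))
      rw [Sylow.coe_subgroup_smul]
      exact (Subgroup.mem_smul_pointwise_iff_exists _ _ _).mpr ⟨t, hP ht, rfl⟩
    obtain ⟨a, b, hab⟩ := h3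
    have h4 : uG s a b * uG s a b = 1 := by
      rw [← hab]
      calc g * t * g⁻¹ * (g * t * g⁻¹) = g * (t ^ 2) * g⁻¹ := by rw [pow_two]; group
        _ = 1 := by rw [hT t ht]; group
    rw [uG_sq, ← uG_zero (s := s) (F := F)] at h4
    have h8 := (uG_inj h4).2
    have ha : a = 0 := by
      rcases mul_eq_zero.mp h8 with h6 | h6
      · exact pow_eq_zero_iff (s_ne_zero (F := F) (s := s)) |>.1 h6
      · exact h6
    subst ha
    exact ⟨b, hab⟩
  have h2 : T.map (MulAut.conj g).toMonoidHom = ZZ s F := by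
    apply Subgroup.eq_of_le_of_card_ge h1
    rw [card_ZZ, Subgroup.card_map_of_injective (MulAut.conj g).injective, hc]
  have h3 : (ZZ s F).map (MulAut.conj g⁻¹).toMonoidHom = T := by
    rw [← h2]
    ext x
    constructor
    · rintro ⟨_, ⟨t, ht, rfl⟩, rfl⟩
      have e : (MulAut.conj g⁻¹).toMonoidHom ((MulAut.conj g).toMonoidHom t) = t := by
        show g⁻¹ * (g * t * g⁻¹) * g⁻¹⁻¹ = t
        group
      rw [e]
      exact ht
    · intro hx
      exact ⟨g * x * g⁻¹, ⟨x, hx, rfl⟩, by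
        show g⁻¹ * (g * x * g⁻¹) * g⁻¹⁻¹ = x
        group⟩
  rw [← h3]
  exact uniq_ZZ.map_equiv (MulAut.conj g⁻¹)

end sz

section dihedral

/-- The dihedral case. -/
theorem uniq_dihedral {r : ℕ} (hr : r.Prime) (hr2 : r ≠ 2) (T : Subgroup (DihedralGroup r))
    [Fact (Nat.Prime 2)] (hT : IsPGroup 2 T) (hne : T ≠ ⊥) : UniqP 2 T := by
  classical
  haveI : Fact r.Prime := ⟨hr⟩
  have h20 : (2 : ZMod r) ≠ 0 := by
    intro h
    have h1 : ((2 : ℕ) : ZMod r) = 0 := by exact_mod_cast h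
    rw [ZMod.natCast_eq_zero_iff] at h1
    exact hr2 ((Nat.prime_dvd_prime_iff_eq hr Nat.prime_two).1 h1)
  -- every rotation in `T` is trivial
  have hrot : ∀ i, DihedralGroup.r i ∈ T → i = 0 := by
    intro i hi
    obtain ⟨k, hk'⟩ := IsPGroup.pow_eq_one hT hi
    have hpow : ∀ n : ℕ, (DihedralGroup.r i : DihedralGroup r) ^ n = DihedralGroup.r ((n : ZMod r) * i) := by
      intro n
      induction n with
      | zero => simp
      | succ n ih =>
        rw [pow_succ, ih, DihedralGroup.r_mul_r]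
        congr 1
        push_cast
        ring
    rw [hpow, ← DihedralGroup.r_zero, DihedralGroup.r.injEq] at hk'
    rcases mul_eq_zero.1 hk' with h1 | h1
    · push_cast at h1
      exact absurd (eq_zero_of_pow_eq_zero h1) h20
    · exact h1
  obtain ⟨t, ht, ht1⟩ := (Subgroup.ne_bot_iff_exists_ne_one.1 hne) |> fun ⟨⟨v, hv⟩, h⟩ => (⟨v, hv, fun e => h (Subtype.ext e)⟩ : ∃ v, v ∈ T ∧ v ≠ 1)
  have hrefl : ∃ i, t = DihedralGroup.sr i := by
    rcases t with i | i
    · exfalso
      apply ht1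
      rw [hrot i ht, DihedralGroup.r_zero]
    · exact ⟨i, rfl⟩
  obtain ⟨i, rfl⟩ := hrefl
  -- the elements of `T`
  have hT2 : ∀ x ∈ T, x = 1 ∨ x = DihedralGroup.sr i := by
    rintro (j | j) hx
    · left
      rw [hrot j hx, DihedralGroup.r_zero]
    · right
      have h1 := T.mul_mem ht hx
      rw [DihedralGroup.sr_mul_sr] at h1
      have h2 := hrot _ h1
      rw [sub_eq_zero.1 h2]
  have hNT : normalizer (T : Set (DihedralGroup r)) ≤ T := by
    intro x hx
    have h1 := (mem_normalizer_iff.1 hx _).1 ht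
    rcases hT2 _ h1 with h2 | h2
    · exfalso
      have : DihedralGroup.sr i = x⁻¹ * (x * DihedralGroup.sr i * x⁻¹) * x := by group
      rw [h2] at this
      simp at this
      exact ht1 this
    · rcases x with j | j
      · rw [DihedralGroup.r_mul_sr, DihedralGroup.inv_r, DihedralGroup.sr_mul_r, DihedralGroup.sr.injEq] at h2
        have h3 : (2 : ZMod r) * j = 0 := by linear_combination -h2
        have h4 : j = 0 := (mul_eq_zero.1 h3).resolve_left h20
        rw [h4, DihedralGroup.r_zero]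
        exact one_mem _
      · rw [DihedralGroup.sr_mul_sr, DihedralGroup.inv_sr, DihedralGroup.r_mul_sr, DihedralGroup.sr.injEq] at h2
        have h3 : (2 : ZMod r) * (j - i) = 0 := by linear_combination h2
        have h4 : j - i = 0 := (mul_eq_zero.1 h3).resolve_left h20
        rw [sub_eq_zero.1 h4]
        exact ht
  intro V hV _ _ hVne
  have hVT : V ≤ T := hV.trans hNT
  apply le_antisymm hVT
  obtain ⟨v, hv, hv1⟩ := (Subgroup.ne_bot_iff_exists_ne_one.1 hVne) |> fun ⟨⟨v, hv⟩, h⟩ => (⟨v, hv, fun e => h (Subtype.ext e)⟩ : ∃ v, v ∈ V ∧ v ≠ 1)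
  have hvi : v = DihedralGroup.sr i := (hT2 v (hVT hv)).resolve_left hv1
  intro x hx
  rcases hT2 x hx with h1 | h1
  · rw [h1]
    exact one_mem _
  · rw [h1, ← hvi]
    exact hv

end dihedral

section conv

open Cfsg.Agent.SzT

theorem UniqP.of_map_equiv {p : ℕ} {Q Q' : Type*} [Group Q] [Group Q'] {T : Subgroup Q} (f : Q ≃* Q')
    (h : UniqP p (T.map f.toMonoidHom)) : UniqP p T := by
  have h1 := h.map_equiv f.symm
  have e : (T.map f.toMonoidHom).map f.symm.toMonoidHom = T := by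
    ext x
    constructor
    · rintro ⟨_, ⟨t, ht, rfl⟩, rfl⟩
      simpa using ht
    · intro hx
      exact ⟨f x, ⟨x, hx, rfl⟩, by simp⟩
  rwa [e] at h1

variable {G : Type*} [Group G] {Y L : Subgroup G}

theorem mem_normalizer_subgroupOf (hYL : Y ≤ L) (x : ↥L) :
    x ∈ normalizer ((Y.subgroupOf L : Subgroup ↥L) : Set ↥L) ↔ (x : G) ∈ normalizer (Y : Set G) := by
  rw [mem_normalizer_iff, mem_normalizer_iff]
  constructor
  · intro h y
    by_cases hy : y ∈ L
    · have h2 := h ⟨y, hy⟩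
      simpa [Subgroup.mem_subgroupOf] using h2
    · constructor
      · intro h3
        exact absurd (hYL h3) hy
      · intro h3
        exfalso
        apply hy
        have h5 : (x : G) * y * (x : G)⁻¹ ∈ L := hYL h3
        have : y = (x : G)⁻¹ * ((x : G) * y * (x : G)⁻¹) * x := by group
        rw [this]
        exact L.mul_mem (L.mul_mem (L.inv_mem x.2) h5) x.2
  · intro h y
    have h2 := h (y : G)
    simpa [Subgroup.mem_subgroupOf] using h2

variable [Finite G] {p : ℕ} [hp : Fact p.Prime] {M : Subgroup G}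

theorem normalizer_ne_top (hL : IsInFrakL p M L) :
    normalizer (((largestPReducedOf p M).subgroupOf L : Subgroup ↥L) : Set ↥L) ≠ ⊤ := by
  intro e
  apply hL.2.2.2.2.2.1.1.ne
  apply le_antisymm inf_le_left
  apply le_inf le_rfl
  intro x hx
  have h1 : (⟨x, hx⟩ : ↥L) ∈ normalizer (((largestPReducedOf p M).subgroupOf L : Subgroup ↥L) : Set ↥L) := by
    rw [e]; trivial
  exact (mem_normalizer_subgroupOf hL.1 _).1 h1

theorem not_le_of_frakL (hL : IsInFrakL p M L) : ¬ (largestPReducedOf p M).subgroupOf L ≤ pCore p ↥L :=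
  (LD_of_frakL hL).not_le (normalizer_ne_top hL)

/-- An image of `Y` with normalizer the image of `N(Y)`. -/
theorem exists_of_mem_normalizer {L' Q : Type*} [Group L'] [Finite L'] [Group Q] {Y A : Subgroup L'} (D : LD p Y A)
    (hN : normalizer (Y : Set L') ≠ ⊤) {π : L' →* Q} (hπ : Function.Surjective π) (hker : π.ker = A) {t : Q}
    (ht : t ∈ normalizer ((Y.map π : Subgroup Q) : Set Q)) : ∃ l ∈ normalizer (Y : Set L'), π l = t := by
  obtain ⟨l, rfl⟩ := hπ t
  refine ⟨l, ?_, rfl⟩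
  let X : Subgroup L' := (normalizer ((Y.map π : Subgroup Q) : Set Q)).comap π
  have hYX : Y ≤ X := fun y hy => Subgroup.le_normalizer (⟨y, hy, rfl⟩ : π y ∈ Y.map π)
  have hXT : X ≠ ⊤ := by
    intro e
    have hn : (Y.map π).Normal := by
      rw [← normalizer_eq_top_iff, eq_top_iff]
      intro x _
      obtain ⟨z, rfl⟩ := hπ x
      have : z ∈ X := by rw [e]; trivial
      exact this
    have h1 := D.cl _ (hn.comap π) (Subgroup.le_comap_map π Y)
    apply hN
    rw [eq_top_iff]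
    intro z _
    have h2 : z ∈ (Y.map π).comap π := by rw [h1]; trivial
    obtain ⟨y, hy, e2⟩ := h2
    have h3 : y⁻¹ * z ∈ A := by
      rw [← hker, MonoidHom.mem_ker, map_mul, map_inv, ← e2]
      simp
    have e3 : z = y * (y⁻¹ * z) := by group
    rw [e3]
    exact Subgroup.mul_mem _ (Subgroup.le_normalizer hy) (D.AY h3)
  exact D.max X hYX hXT ht

theorem uniq_of_frakL (hL : IsInFrakL p M L) :
    UniqP p (((largestPReducedOf p M).subgroupOf L).map (QuotientGroup.mk' (pCore p ↥L))) := by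
  classical
  have D := LD_of_frakL hL
  have hrel := relIndex_eq hL
  have hYnot := not_le_of_frakL hL
  set Y' := (largestPReducedOf p M).subgroupOf L with hY'
  set T := Y'.map (QuotientGroup.mk' (pCore p ↥L)) with hT
  have hker : (QuotientGroup.mk' (pCore p ↥L)).ker = pCore p ↥L := QuotientGroup.ker_mk' _
  have hTc : Nat.card T = (pCore p ↥L).relIndex Y' := card_map_eq_relIndex hker Y'
  have hTne : T ≠ ⊥ := by
    intro e
    apply hYnot
    intro y hy
    have h1 : QuotientGroup.mk' (pCore p ↥L) y ∈ T := ⟨y, hy, rfl⟩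
    rw [e] at h1
    rw [← hker]
    exact h1
  have hTexp : ∀ x ∈ T, x ^ p = 1 := by
    rintro _ ⟨y, hy, rfl⟩
    rw [← map_pow]
    have h1 : (y : G) ^ p = 1 := reducedOf_pow hy
    have h2 : y ^ p = 1 := Subtype.ext (by simpa using h1)
    rw [h2, map_one]
  have hTp : IsPGroup p T := D.pg.map _
  obtain ⟨-, -, -, -, -, -, hcase⟩ := hL
  rcases hcase with ⟨F, _, _, hcard, ⟨e⟩⟩ | ⟨rfl, F, _, _, m, hF, hcard, ⟨e⟩⟩ | ⟨rfl, r, hr, hr2, ⟨e⟩⟩
  · apply UniqP.of_map_equiv e
    have hp' : IsPGroup p (T.map e.toMonoidHom) := hTp.map _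
    have hc' : Nat.card (T.map e.toMonoidHom) = Fintype.card F := by
      rw [Subgroup.card_map_of_injective e.injective, hTc, hcard, hrel]
    haveI hchar : CharP F p := by
      obtain ⟨c, hc⟩ := CharP.exists F
      have hcp : c.Prime := CharP.char_is_prime F c
      obtain ⟨n, -, hn⟩ := FiniteField.card F c
      obtain ⟨m, hm⟩ := IsPGroup.iff_card.1 hp'
      have h1 : c ^ (n : ℕ) = p ^ m := by
        rw [← hn, ← hc', hm]
      have h2 : c ∣ p ^ m := by
        rw [← h1]
        exact dvd_pow_self c n.ne_zero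
      have h3 : c = p := (Nat.prime_dvd_prime_iff_eq hcp hp.out).1 (hcp.dvd_of_dvd_pow h2)
      rw [← h3]
      exact hc
    exact uniq_of_card _ hp' hc'
  · by_cases hm : m = 0
    · subst hm
      exfalso
      have hF2 : Fintype.card F = 2 := by simpa using hF
      have hQ : Nat.card (Lie.Sz F (2 ^ (0 + 1))) = 20 := Sz2Card.card_Sz2 hF2
      refine false_of_card20 hQ (T.map e.toMonoidHom) ?_ ?_
      · rw [Subgroup.card_map_of_injective e.injective, hTc, hrel, ← hcard, hF2]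
      · intro N hN hVN
        have h1 := D.cl (N.comap (e.toMonoidHom.comp (QuotientGroup.mk' (pCore 2 ↥L)))) (hN.comap _) (by
          intro y hy
          exact hVN ⟨_, ⟨y, hy, rfl⟩, rfl⟩)
        rw [eq_top_iff]
        intro x _
        obtain ⟨y, rfl⟩ := (e.surjective.comp (QuotientGroup.mk'_surjective (pCore 2 ↥L))) x
        have : y ∈ N.comap (e.toMonoidHom.comp (QuotientGroup.mk' (pCore 2 ↥L))) := by rw [h1]; trivial
        exact this
    · haveI : SzF F (2 ^ (m + 1)) := szF_of_card (Nat.pos_of_ne_zero hm) hF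
      apply UniqP.of_map_equiv (e.trans (szEquiv (2 ^ (m + 1)) F).symm)
      apply uniq_Sz
      · rintro _ ⟨x, hx, rfl⟩
        rw [← map_pow, hTexp x hx, map_one]
      · rw [Subgroup.card_map_of_injective (e.trans (szEquiv (2 ^ (m + 1)) F).symm).injective, hTc, hrel, ← hcard]
  · apply UniqP.of_map_equiv e
    apply uniq_dihedral hr hr2 _ (hTp.map _)
    rwa [Ne, Subgroup.map_eq_bot_iff_of_injective _ e.injective]

end conv

end Cfsg.Agent.Lib.Amalgam.LUniq
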