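import Cfsg.Agent.Lib.Amalgam.NatSL2
import Cfsg.Agent.Lib.Amalgam.Asym

/-!
# More on coordinates on a natural `SL₂(F)`-module
-/

set_option autoImplicit false

namespace Cfsg.Agent.Lib.Amalgam

open Cfsg Matrix Matrix.SpecialLinearGroup Cfsg.Agent.Lib.Classical
open scoped MatrixGroups commutatorElement Pointwise

variable {G : Type*} [Group G] {F : Type*} [Field F]

/-- An upper triangular matrix normalizes the unitriangular group. -/
theorem tr_conj (A : SpecialLinearGroup (Fin 2) F) (hA : A.1 1 0 = 0) (c : F) :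
    A * transvection (zero_ne_one) c * A⁻¹ = transvection (zero_ne_one) (A.1 0 0 * c * A.1 0 0) := by
  have hdet : A.1 0 0 * A.1 1 1 = 1 := by
    have := A.2
    rw [Matrix.det_fin_two, hA] at this
    simpa using this
  rw [mul_inv_eq_iff_eq_mul]
  apply Subtype.ext
  show A.1 * (transvection (zero_ne_one) c : SpecialLinearGroup (Fin 2) F).1 =
    (transvection (zero_ne_one) (A.1 0 0 * c * A.1 0 0) : SpecialLinearGroup (Fin 2) F).1 * A.1
  have ht : ∀ e : F, (transvection (zero_ne_one) e : SpecialLinearGroup (Fin 2) F).1 = !![1, e; 0, 1] := by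
    intro e
    rw [show (transvection (zero_ne_one) e : SpecialLinearGroup (Fin 2) F).1 = 1 + Matrix.single 0 1 e from transvection_coe _ _]
    ext i j
    fin_cases i <;> fin_cases j <;> simp
  rw [ht, ht]
  ext i j
  fin_cases i <;> fin_cases j <;> simp [Matrix.mul_apply, Fin.sum_univ_two, hA]
  · have : A.1 0 0 * c * A.1 0 0 * A.1 1 1 = A.1 0 0 * c * (A.1 0 0 * A.1 1 1) := by ring
    rw [this, hdet]
    ring

/-- A matrix in `SL₂` fixing a nonzero vector is a `p`-element. -/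
theorem pow_eq_one_of_fixed {p : ℕ} [CharP F p] (A : SpecialLinearGroup (Fin 2) F) (w : Fin 2 → F)
    (hw : w ≠ 0) (hA : A.1.mulVec w = w) : A ^ p = 1 := by
  have hdet : A.1 0 0 * A.1 1 1 - A.1 0 1 * A.1 1 0 = 1 := by
    have := A.2
    rwa [Matrix.det_fin_two] at this
  have h0 : A.1 0 0 * w 0 + A.1 0 1 * w 1 = w 0 := by
    have := congrFun hA 0
    simpa [Matrix.mulVec, dotProduct, Fin.sum_univ_two] using this
  have h1 : A.1 1 0 * w 0 + A.1 1 1 * w 1 = w 1 := by
    have := congrFun hA 1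
    simpa [Matrix.mulVec, dotProduct, Fin.sum_univ_two] using this
  have htr : A.1 0 0 + A.1 1 1 = 2 := by
    set a := A.1 0 0
    set b := A.1 0 1
    set c := A.1 1 0
    set d := A.1 1 1
    have e0 : ((a - 1) * (d - 1) - b * c) * w 0 = 0 := by
      have h2 : (a - 1) * w 0 + b * w 1 = 0 := by linear_combination h0
      have h3 : c * w 0 + (d - 1) * w 1 = 0 := by linear_combination h1
      linear_combination (d - 1) * h2 - b * h3
    have e1 : ((a - 1) * (d - 1) - b * c) * w 1 = 0 := by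
      have h2 : (a - 1) * w 0 + b * w 1 = 0 := by linear_combination h0
      have h3 : c * w 0 + (d - 1) * w 1 = 0 := by linear_combination h1
      linear_combination (a - 1) * h3 - c * h2
    have hne : (a - 1) * (d - 1) - b * c = 0 := by
      by_contra hne
      apply hw
      ext i
      fin_cases i
      · exact (mul_eq_zero.mp e0).resolve_left hne
      · exact (mul_eq_zero.mp e1).resolve_left hne
    linear_combination hdet - hne
  have hN : (A.1 - 1) * (A.1 - 1) = 0 := by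
    have hA' : A.1 = !![A.1 0 0, A.1 0 1; A.1 1 0, A.1 1 1] := by
      ext i j
      fin_cases i <;> fin_cases j <;> rfl
    set a := A.1 0 0
    set b := A.1 0 1
    set c := A.1 1 0
    set d := A.1 1 1
    rw [hA']
    ext i j
    fin_cases i <;> fin_cases j <;> simp [Matrix.mul_apply, Fin.sum_univ_two, Matrix.one_apply]
    · linear_combination a * htr - hdet
    · linear_combination b * htr
    · linear_combination c * htr
    · linear_combination d * htr - hdet
  have hpow : ∀ k : ℕ, A.1 ^ k = 1 + (k : F) • (A.1 - 1) := by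
    intro k
    induction k with
    | zero => simp
    | succ k ih =>
      rw [pow_succ, ih]
      have e : A.1 = 1 + (A.1 - 1) := by abel
      calc (1 + (k : F) • (A.1 - 1)) * A.1 = (1 + (k : F) • (A.1 - 1)) * (1 + (A.1 - 1)) := by rw [← e]
        _ = 1 + (A.1 - 1) + (k : F) • (A.1 - 1) + (k : F) • ((A.1 - 1) * (A.1 - 1)) := by
            rw [mul_add, add_mul, add_mul, one_mul, one_mul, mul_one, Matrix.smul_mul]
            abel
        _ = 1 + ((k + 1 : ℕ) : F) • (A.1 - 1) := by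
            rw [hN, smul_zero, add_zero]
            push_cast
            rw [add_smul, one_smul]
            abel
  apply Subtype.ext
  show (A ^ p).1 = 1
  have e : (A ^ p).1 = A.1 ^ p := Matrix.SpecialLinearGroup.coe_pow A p
  rw [e, hpow, CharP.cast_eq_zero F p, zero_smul, add_zero]

namespace NatCoord

variable {V L T : Subgroup G} (D : NatCoord F V L T)

/-- Upper triangular elements normalize `T`. -/
theorem mem_normalizer_of_upper [Finite G] (l : L) (hl : (D.ρ l).1 1 0 = 0) :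
    (l : G) ∈ Subgroup.normalizer (T : Set G) := by
  apply mem_normalizer_of_map_conj_le
  rintro _ ⟨t, ht, rfl⟩
  obtain ⟨c, hc⟩ := (D.memT ⟨t, D.hTL ht⟩).mp ht
  have hm : (l : G) * t * (l : G)⁻¹ ∈ L := L.mul_mem (L.mul_mem l.2 (D.hTL ht)) (L.inv_mem l.2)
  show (l : G) * t * (l : G)⁻¹ ∈ T
  refine (D.memT ⟨_, hm⟩).mpr ⟨(D.ρ l).1 0 0 * c * (D.ρ l).1 0 0, ?_⟩
  have e : (⟨(l : G) * t * (l : G)⁻¹, hm⟩ : L) = l * ⟨t, D.hTL ht⟩ * l⁻¹ := rfl
  rw [e, map_mul, map_mul, map_inv, hc, tr_conj _ hl]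

/-- Diagonal elements. -/
theorem exists_diag (d : F) (hd : d ≠ 0) : ∃ l : L, (D.ρ l).1 = !![d, 0; 0, d⁻¹] := by
  let A : SpecialLinearGroup (Fin 2) F := ⟨!![d, 0; 0, d⁻¹], by
    rw [Matrix.det_fin_two_of]
    field_simp
    ring⟩
  obtain ⟨l, hl⟩ := D.bij.2 A
  exact ⟨l, by rw [hl]⟩

theorem coord_conj_diag {l : L} {d : F} (hl : (D.ρ l).1 = !![d, 0; 0, d⁻¹]) (v : V) :
    D.coord ⟨(l : G) * v * (l : G)⁻¹, D.conj_mem l v⟩ = ![d * D.coord v 0, d⁻¹ * D.coord v 1] := by
  rw [coord_conj]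
  have : ((D.ρ l : SpecialLinearGroup (Fin 2) F) : Matrix (Fin 2) (Fin 2) F) = !![d, 0; 0, d⁻¹] := hl
  rw [this]
  ext i
  fin_cases i <;> simp [Matrix.mulVec, dotProduct, Fin.sum_univ_two]

theorem comm_V (D : NatCoord F V L T) (a b : V) : a * b = b * a := by
  apply D.coord_injective
  rw [coord_mul, coord_mul, add_comm]

/-- `p'`-elements act without fixed points. -/
theorem inf_centralizer_of_coprime (D : NatCoord F V L T) [Finite G] {p : ℕ} [Fact p.Prime] [CharP F p] {x : G} (hxL : x ∈ L) (hx1 : x ≠ 1)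
    (hcop : (orderOf x).Coprime p) : V ⊓ Subgroup.centralizer ({x} : Set G) = ⊥ := by
  rw [eq_bot_iff]
  rintro v ⟨hv, hvC⟩
  rw [Subgroup.mem_bot]
  by_contra hv1
  have hxv : x * v = v * x := Subgroup.mem_centralizer_iff.mp hvC x rfl
  have h1 : (⟨x * v * x⁻¹, D.conj_mem ⟨x, hxL⟩ ⟨v, hv⟩⟩ : V) = ⟨v, hv⟩ := by
    apply Subtype.ext
    show x * v * x⁻¹ = v
    rw [hxv]
    group
  have h2 := D.coord_conj ⟨x, hxL⟩ ⟨v, hv⟩
  have h3 : ((D.ρ ⟨x, hxL⟩ : SpecialLinearGroup (Fin 2) F) : Matrix (Fin 2) (Fin 2) F).mulVec (D.coord ⟨v, hv⟩) = D.coord ⟨v, hv⟩ := by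
    rw [← h2]
    exact congrArg D.coord h1
  have hw : D.coord ⟨v, hv⟩ ≠ 0 := by
    intro h
    have := D.coord_eq_zero h
    exact hv1 (congrArg Subtype.val this)
  have h4 := pow_eq_one_of_fixed (p := p) _ _ hw h3
  rw [← map_pow] at h4
  have h5 : (⟨x, hxL⟩ : L) ^ p = 1 := by
    apply D.bij.1
    rw [h4, map_one]
  have h6 : x ^ p = 1 := congrArg Subtype.val h5
  have h7 : orderOf x ∣ p := orderOf_dvd_of_pow_eq_one h6
  have h8 : orderOf x = 1 := Nat.Coprime.eq_one_of_dvd hcop h7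
  exact hx1 (orderOf_eq_one_iff.mp h8)

/-- Second coordinate of the conjugate by the inverse. -/
theorem coord_conj_inv (l : L) (v : V) :
    D.coord ⟨(l : G)⁻¹ * v * (l : G), by
      have := D.conj_mem l⁻¹ v
      simpa using this⟩ 1 =
      - (D.ρ l).1 1 0 * D.coord v 0 + (D.ρ l).1 0 0 * D.coord v 1 := by
  have h := D.coord_conj l⁻¹ v
  have e : (⟨((l⁻¹ : L) : G) * v * ((l⁻¹ : L) : G)⁻¹, D.conj_mem l⁻¹ v⟩ : V) =
      ⟨(l : G)⁻¹ * v * (l : G), by
      have := D.conj_mem l⁻¹ v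
      simpa using this⟩ := by
    apply Subtype.ext
    simp
  rw [e] at h
  rw [h, map_inv]
  have e2 : (((D.ρ l)⁻¹ : SpecialLinearGroup (Fin 2) F) : Matrix (Fin 2) (Fin 2) F) = Matrix.adjugate (D.ρ l).1 :=
    Matrix.SpecialLinearGroup.coe_inv _
  rw [e2, Matrix.adjugate_fin_two]
  simp [Matrix.mulVec, dotProduct, Fin.sum_univ_two]

/-- Fixed points of the conjugate of `T`. -/
theorem inf_centralizer_conj [Finite G] (l : L) (v : G) (hv : v ∈ V) :
    v ∈ Subgroup.centralizer ((T.map (MulAut.conj (l : G)).toMonoidHom : Subgroup G) : Set G) ↔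
      - (D.ρ l).1 1 0 * D.coord ⟨v, hv⟩ 0 + (D.ρ l).1 0 0 * D.coord ⟨v, hv⟩ 1 = 0 := by
  rw [← D.coord_conj_inv l ⟨v, hv⟩]
  have hm : (l : G)⁻¹ * v * (l : G) ∈ V := by
    have := D.conj_mem l⁻¹ ⟨v, hv⟩
    simpa using this
  rw [← D.mem_V₁' ⟨_, hm⟩, ← D.inf_centralizer_T]
  constructor
  · intro h
    refine ⟨hm, Subgroup.mem_centralizer_iff.mpr ?_⟩
    intro t ht
    have h1 := Subgroup.mem_centralizer_iff.mp h _ ⟨t, ht, rfl⟩
    have h2 : (l : G) * t * (l : G)⁻¹ * v = v * ((l : G) * t * (l : G)⁻¹) := h1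
    calc t * ((l : G)⁻¹ * v * l) = (l : G)⁻¹ * ((l : G) * t * (l : G)⁻¹ * v) * l := by group
      _ = (l : G)⁻¹ * (v * ((l : G) * t * (l : G)⁻¹)) * l := by rw [h2]
      _ = (l : G)⁻¹ * v * l * t := by group
  · rintro ⟨-, h⟩
    refine Subgroup.mem_centralizer_iff.mpr ?_
    rintro _ ⟨t, ht, rfl⟩
    have h1 : t * ((l : G)⁻¹ * v * l) = (l : G)⁻¹ * v * l * t := Subgroup.mem_centralizer_iff.mp h t ht
    show (l : G) * t * (l : G)⁻¹ * v = v * ((l : G) * t * (l : G)⁻¹)
    calc (l : G) * t * (l : G)⁻¹ * v = (l : G) * (t * ((l : G)⁻¹ * v * l)) * (l : G)⁻¹ := by group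
      _ = (l : G) * ((l : G)⁻¹ * v * l * t) * (l : G)⁻¹ := by rw [h1]
      _ = v * ((l : G) * t * (l : G)⁻¹) := by group

end NatCoord

end Cfsg.Agent.Lib.Amalgam
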