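import Mathlib
import Cfsg.Agent.Lib.FF.SylowIn
import Cfsg.Agent.Lib.Char.Product

/-!
# The trace on the fixed points of an abelian subgroup.  Owner: helper17.

For `X` normalizing an abelian subgroup `V` of a finite group `H`, and `S ≤ X`, the map
`a ↦ ∏_{q ∈ X/S} q a q⁻¹` of `V` to itself.  Two applications of the Gaschütz type:

* `gaschutz_core`: an element `t` of `V` normalizing `X` and commuting with a Sylow subgroup `S` of `X`
  is, modulo `C(X)`, an element of `Ω₁Z(S)`;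
* `trace_core`: if all fixed points of a `p`-group `T₂` on `V` are centralized by `X`, then so are all
  the fixed points of `S` on `V`.
-/

set_option autoImplicit false
set_option linter.unusedSectionVars false

namespace Cfsg.Agent.Lib.Amalgam.TraceV

open Subgroup

variable {H : Type*} [Group H]

/-- The commutative group structure on a subgroup with commuting elements. -/
@[reducible] def commOf (V : Subgroup H) (hV : ∀ a ∈ V, ∀ b ∈ V, a * b = b * a) : CommGroup V :=
  { (inferInstance : Group V) with mul_comm := fun a b => Subtype.ext (hV a a.2 b b.2) }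

/-- Conjugation on `V` by an element normalizing it. -/
def cv (V : Subgroup H) {y : H} (hy : y ∈ normalizer (V : Set H)) : V →* V where
  toFun a := ⟨y * a * y⁻¹, (mem_normalizer_iff.mp hy a).mp a.2⟩
  map_one' := by ext; simp
  map_mul' a b := by ext; simp [mul_assoc]

@[simp] theorem coe_cv (V : Subgroup H) {y : H} (hy : y ∈ normalizer (V : Set H)) (a : V) :
    ((cv V hy a : V) : H) = y * a * y⁻¹ := rfl

variable [Finite H] (V X S : Subgroup H) (hV : ∀ a ∈ V, ∀ b ∈ V, a * b = b * a)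
  (hXV : X ≤ normalizer (V : Set H))

/-- The trace. -/
noncomputable def trV : V →* V :=
  letI := commOf V hV
  letI : Fintype (X ⧸ S.subgroupOf X) := Fintype.ofFinite _
  { toFun := fun a => ∏ q : X ⧸ S.subgroupOf X, cv V (hXV (q.out).2) a
    map_one' := by simp
    map_mul' := fun a b => by simp [Finset.prod_mul_distrib] }

variable {V X S hV hXV}

/-- A function on `X` compatible with cosets of `S` induces a permutation of the cosets. -/
theorem bij_of_compat {F : X → X}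
    (hF : ∀ g g' : X, (F g)⁻¹ * F g' ∈ S.subgroupOf X → g⁻¹ * g' ∈ S.subgroupOf X) :
    Function.Bijective (fun q : X ⧸ S.subgroupOf X => (QuotientGroup.mk (F q.out) : X ⧸ S.subgroupOf X)) := by
  apply Finite.injective_iff_bijective.mp
  intro q q' h
  have h1 := QuotientGroup.eq.mp h
  have h2 := hF _ _ h1
  rw [← q.out_eq', ← q'.out_eq']
  exact QuotientGroup.eq.mpr h2

/-- The conjugates of `a` depend only on the coset. -/
theorem conj_out_eq {a : H} (ha : ∀ s ∈ S, a * s = s * a) (g : X) :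
    (((QuotientGroup.mk g : X ⧸ S.subgroupOf X).out : X) : H) * a *
      (((QuotientGroup.mk g : X ⧸ S.subgroupOf X).out : X) : H)⁻¹ = (g : H) * a * (g : H)⁻¹ := by
  have h1 : (g⁻¹ * (QuotientGroup.mk g : X ⧸ S.subgroupOf X).out) ∈ S.subgroupOf X :=
    QuotientGroup.eq.mp (QuotientGroup.out_eq' _).symm
  rw [mem_subgroupOf] at h1
  set s : H := ((g⁻¹ * (QuotientGroup.mk g : X ⧸ S.subgroupOf X).out : X) : H) with hs
  have h2 : (((QuotientGroup.mk g : X ⧸ S.subgroupOf X).out : X) : H) = g * s := by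
    rw [hs]; simp
  rw [h2]
  have h3 := ha s h1
  calc (g : H) * s * a * ((g : H) * s)⁻¹ = (g : H) * (s * a) * s⁻¹ * (g : H)⁻¹ := by group
    _ = (g : H) * (a * s) * s⁻¹ * (g : H)⁻¹ := by rw [h3]
    _ = (g : H) * a * (g : H)⁻¹ := by group

/-- Equivariance of the trace, general form. -/
theorem cv_trV_of_compat {y : H} (hy : y ∈ normalizer (V : Set H)) (a a' : V)
    (ha' : ∀ s ∈ S, (a' : H) * s = s * a') {F : X → X}
    (hF : ∀ g g' : X, (F g)⁻¹ * F g' ∈ S.subgroupOf X → g⁻¹ * g' ∈ S.subgroupOf X)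
    (hya : ∀ g : X, y * ((g : H) * a * (g : H)⁻¹) * y⁻¹ = (F g : H) * a' * (F g : H)⁻¹) :
    cv V hy (trV V X S hV hXV a) = trV V X S hV hXV a' := by
  letI := commOf V hV
  letI : Fintype (X ⧸ S.subgroupOf X) := Fintype.ofFinite _
  show cv V hy (∏ q : X ⧸ S.subgroupOf X, cv V (hXV (q.out).2) a) =
    ∏ q : X ⧸ S.subgroupOf X, cv V (hXV (q.out).2) a'
  rw [map_prod]
  rw [← (bij_of_compat hF).prod_comp (fun q => cv V (hXV (q.out).2) a')]
  apply Finset.prod_congr rfl
  intro q _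
  apply Subtype.ext
  show y * (((q.out : X) : H) * a * ((q.out : X) : H)⁻¹) * y⁻¹ = _
  rw [hya q.out]
  exact (conj_out_eq ha' _).symm

/-- The trace is fixed by `X`. -/
theorem trV_fixed {x : H} (hx : x ∈ X) (a : V) (ha : ∀ s ∈ S, (a : H) * s = s * a) :
    x * (trV V X S hV hXV a : V) * x⁻¹ = (trV V X S hV hXV a : V) := by
  have := cv_trV_of_compat (V := V) (X := X) (S := S) (hV := hV) (hXV := hXV) (hXV hx) a a ha
    (F := fun g => ⟨x, hx⟩ * g) (by
      intro g g' h
      have : ((⟨x, hx⟩ : X) * g)⁻¹ * ((⟨x, hx⟩ : X) * g') = g⁻¹ * g' := by group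
      rwa [this] at h) (by
      intro g
      simp [mul_assoc])
  exact congrArg Subtype.val this

/-- The trace commutes with elements of `X`. -/
theorem trV_comm {x : H} (hx : x ∈ X) (a : V) (ha : ∀ s ∈ S, (a : H) * s = s * a) :
    x * (trV V X S hV hXV a : V) = (trV V X S hV hXV a : V) * x := by
  have := trV_fixed (hV := hV) (hXV := hXV) hx a ha
  calc x * (trV V X S hV hXV a : V) = x * (trV V X S hV hXV a : V) * x⁻¹ * x := by group
    _ = _ := by rw [this]

/-- Equivariance of the trace under elements normalizing `X` and `S`. -/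
theorem trV_conj {y : H} (hy : y ∈ normalizer (V : Set H)) (hyX : y ∈ normalizer (X : Set H))
    (hyS : y ∈ normalizer (S : Set H)) (a : V) (ha : ∀ s ∈ S, (a : H) * s = s * a) :
    cv V hy (trV V X S hV hXV a) = trV V X S hV hXV (cv V hy a) := by
  apply cv_trV_of_compat hy a (cv V hy a)
    (F := fun g => ⟨y * g * y⁻¹, (mem_normalizer_iff.mp hyX g).mp g.2⟩)
  · intro s hs
    have h1 : y⁻¹ * s * y ∈ S := by
      have := (mem_normalizer_iff.mp hyS (y⁻¹ * s * y)).mpr (by
        have : y * (y⁻¹ * s * y) * y⁻¹ = s := by group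
        rwa [this])
      exact this
    have h2 := ha _ h1
    show y * a * y⁻¹ * s = s * (y * a * y⁻¹)
    calc y * a * y⁻¹ * s = y * ((a : H) * (y⁻¹ * s * y)) * y⁻¹ := by group
      _ = y * ((y⁻¹ * s * y) * a) * y⁻¹ := by rw [h2]
      _ = s * (y * a * y⁻¹) := by group
  · intro g g' h
    rw [mem_subgroupOf] at h ⊢
    have h1 : y * ((g⁻¹ * g' : X) : H) * y⁻¹ ∈ S := by
      have : (((⟨y * g * y⁻¹, (mem_normalizer_iff.mp hyX g).mp g.2⟩ : X)⁻¹ *
          (⟨y * g' * y⁻¹, (mem_normalizer_iff.mp hyX g').mp g'.2⟩ : X) : X) : H) =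
          y * ((g⁻¹ * g' : X) : H) * y⁻¹ := by
        simp; group
      rwa [this] at h
    exact (mem_normalizer_iff.mp hyS _).mpr h1
  · intro g
    show y * ((g : H) * a * (g : H)⁻¹) * y⁻¹ = y * g * y⁻¹ * (y * a * y⁻¹) * (y * g * y⁻¹)⁻¹
    group

/-- On elements centralized by `X`, the trace is the power. -/
theorem trV_of_fixed (a : V) (ha : ∀ x ∈ X, x * (a : H) = a * x) :
    trV V X S hV hXV a = a ^ (S.relIndex X) := by
  letI := commOf V hV
  letI : Fintype (X ⧸ S.subgroupOf X) := Fintype.ofFinite _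
  show (∏ q : X ⧸ S.subgroupOf X, cv V (hXV (q.out).2) a) = _
  have h1 : ∀ q : X ⧸ S.subgroupOf X, cv V (hXV (q.out).2) a = a := by
    intro q
    apply Subtype.ext
    show ((q.out : X) : H) * a * ((q.out : X) : H)⁻¹ = a
    rw [ha _ (q.out).2]
    group
  rw [Finset.prod_congr rfl (fun q _ => h1 q), Finset.prod_const, Finset.card_univ,
    ← Nat.card_eq_fintype_card]
  rfl

/-- `tr(a) a^{-m}` lies in `X` when `a` normalizes `X`. -/
theorem trV_mul_pow_mem (a : V) (haX : (a : H) ∈ normalizer (X : Set H)) :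
    ((trV V X S hV hXV a : V) : H) * ((a : H) ^ (S.relIndex X))⁻¹ ∈ X := by
  letI := commOf V hV
  letI : Fintype (X ⧸ S.subgroupOf X) := Fintype.ofFinite _
  let D : Subgroup V := X.subgroupOf V
  have h1 : (∏ q : X ⧸ S.subgroupOf X, (cv V (hXV (q.out).2) a * a⁻¹)) ∈ D := by
    apply Subgroup.prod_mem
    intro q _
    show _ ∈ X
    show ((q.out : X) : H) * a * ((q.out : X) : H)⁻¹ * (a : H)⁻¹ ∈ X
    have : ((q.out : X) : H) * a * ((q.out : X) : H)⁻¹ * (a : H)⁻¹ =
        ((q.out : X) : H) * ((a : H) * ((q.out : X) : H)⁻¹ * (a : H)⁻¹) := by group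
    rw [this]
    exact X.mul_mem (q.out).2 ((mem_normalizer_iff.mp haX _).mp (X.inv_mem (q.out).2))
  rw [Finset.prod_mul_distrib, Finset.prod_const, Finset.card_univ, ← Nat.card_eq_fintype_card] at h1
  have h2 : Nat.card (X ⧸ S.subgroupOf X) = S.relIndex X := rfl
  rw [h2] at h1
  have h3 : ((trV V X S hV hXV a : V) * (a⁻¹) ^ (S.relIndex X)) ∈ D := h1
  have h4 : (((trV V X S hV hXV a : V) * (a⁻¹) ^ (S.relIndex X) : V) : H) ∈ X := h3
  simpa using h4

section core

variable {p : ℕ} [hp : Fact p.Prime]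

/-- A power of `t` with exponent prime to `p` generates, when `t ^ p = 1`. -/
theorem exists_pow_pow_eq {t : H} (ht : t ^ p = 1) {m : ℕ} (hm : ¬ p ∣ m) : ∃ n : ℕ, (t ^ m) ^ n = t := by
  have hc : Nat.Coprime m p := ((Nat.Prime.coprime_iff_not_dvd hp.out).2 hm).symm
  obtain ⟨n, hn⟩ := Nat.exists_mul_mod_eq_one_of_coprime hc hp.out.one_lt
  refine ⟨n, ?_⟩
  rw [← pow_mul, pow_eq_pow_mod (m * n) ht, hn.2, pow_one]

variable (hV hXV)
include hV hXV

/-- Gaschütz: `t` is an element of `Ω₁Z(S)` modulo `C(X)`. -/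
theorem gaschutz_core (hS : Cfsg.Agent.Lib.FF.IsSylowIn p S X) (hVp : ∀ v ∈ V, v ^ p = 1) {t : H} (ht : t ∈ V)
    (htX : t ∈ normalizer (X : Set H)) (htS : ∀ s ∈ S, t * s = s * t) :
    ∃ z ∈ S, (∀ s ∈ S, z * s = s * z) ∧ z ^ p = 1 ∧ ∀ x ∈ X, x * z = z * x → x * t = t * x := by
  set a : V := ⟨t, ht⟩ with ha
  set u : V := trV V X S hV hXV a with hu
  set m := S.relIndex X with hm
  set z : H := (u : H) * (t ^ m)⁻¹ with hz
  have hzX : z ∈ X := trV_mul_pow_mem (hV := hV) (hXV := hXV) a htX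
  have hzV : z ∈ V := V.mul_mem u.2 (V.inv_mem (V.pow_mem ht m))
  have huc : ∀ x ∈ X, x * (u : H) = u * x := fun x hx => trV_comm (hV := hV) (hXV := hXV) hx a htS
  have hzS : z ∈ S := by
    have hD : ((V ⊓ X).subgroupOf X).Normal := by
      constructor
      intro n hn g
      rw [mem_subgroupOf] at hn ⊢
      refine ⟨(mem_normalizer_iff.mp (hXV g.2) _).mp hn.1, ?_⟩
      exact X.mul_mem (X.mul_mem g.2 hn.2) (X.inv_mem g.2)
    have hDp : IsPGroup p ((V ⊓ X).subgroupOf X) := by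
      intro g
      refine ⟨1, Subtype.ext (Subtype.ext ?_)⟩
      have h1 : ((g : X) : H) ∈ V ⊓ X := g.2
      simpa using hVp _ h1.1
    have h1 := IsPGroup.le_sylow_of_normal hDp hS.toSylow
    have h2 : (⟨z, hzX⟩ : X) ∈ (V ⊓ X).subgroupOf X := by
      rw [mem_subgroupOf]; exact ⟨hzV, hzX⟩
    have h3 := h1 h2
    simpa [mem_subgroupOf] using h3
  refine ⟨z, hzS, ?_, hVp z hzV, ?_⟩
  · intro s hs
    have h1 := huc s (hS.le hs)
    have h2 : t ^ m * s = s * t ^ m := ((Commute.pow_left (show Commute t s from htS s hs) m)).eq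
    have h3 : (t ^ m)⁻¹ * s = s * (t ^ m)⁻¹ := by
      calc (t ^ m)⁻¹ * s = (t ^ m)⁻¹ * (s * t ^ m) * (t ^ m)⁻¹ := by group
        _ = (t ^ m)⁻¹ * (t ^ m * s) * (t ^ m)⁻¹ := by rw [h2]
        _ = s * (t ^ m)⁻¹ := by group
    rw [hz]
    calc (u : H) * (t ^ m)⁻¹ * s = (u : H) * (s * (t ^ m)⁻¹) := by rw [mul_assoc, h3]
      _ = s * u * (t ^ m)⁻¹ := by rw [← mul_assoc, h1]
      _ = s * ((u : H) * (t ^ m)⁻¹) := by group
  · intro x hx hxz
    have h0 : x ∈ X := hx
    have h1 : t ^ m = z⁻¹ * u := by rw [hz]; group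
    have h2 : Commute x (t ^ m) := by
      rw [h1]
      exact Commute.mul_right (Commute.inv_right hxz) (huc x hx)
    obtain ⟨n, hn⟩ := exists_pow_pow_eq (p := p) (hVp t ht) hS.not_dvd
    have h3 : Commute x ((t ^ m) ^ n) := h2.pow_right n
    rw [hn] at h3
    exact h3

/-- Fixed points of `S` on `V` are centralized by `K` if those of `T₂` are. -/
theorem trace_core (hS : Cfsg.Agent.Lib.FF.IsSylowIn p S X) {T₂ : Subgroup H} (hT₂ : IsPGroup p T₂)
    (hVp : ∀ v ∈ V, v ^ p = 1) (hVT : V ≤ T₂) (hT2V : T₂ ≤ normalizer (V : Set H))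
    (hT2K : T₂ ≤ normalizer (X : Set H)) (hT2S : T₂ ≤ normalizer (S : Set H))
    (hfix : ∀ v ∈ V, (∀ t ∈ T₂, v * t = t * v) → ∀ k ∈ X, k * v = v * k)
    {a : H} (haV : a ∈ V) (ha : ∀ s ∈ S, a * s = s * a) : ∀ k ∈ X, k * a = a * k := by
  have hm := hS.not_dvd
  set m := S.relIndex X with hmdef
  set tr := trV V X S hV hXV with htr
  let D : Subgroup H :=
    { carrier := {d | ∃ hd : d ∈ V, (∀ s ∈ S, d * s = s * d) ∧ tr ⟨d, hd⟩ = 1}
      mul_mem' := by
        rintro x y ⟨hx, hx1, hx2⟩ ⟨hy, hy1, hy2⟩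
        refine ⟨V.mul_mem hx hy, ?_, ?_⟩
        · intro s hs
          exact Commute.mul_left (show Commute x s from hx1 s hs) (show Commute y s from hy1 s hs)
        · have : (⟨x * y, V.mul_mem hx hy⟩ : V) = ⟨x, hx⟩ * ⟨y, hy⟩ := rfl
          rw [this, map_mul, hx2, hy2, one_mul]
      one_mem' := ⟨V.one_mem, by simp, by
        have : (⟨1, V.one_mem⟩ : V) = 1 := rfl
        rw [this, map_one]⟩
      inv_mem' := by
        rintro x ⟨hx, hx1, hx2⟩
        refine ⟨V.inv_mem hx, ?_, ?_⟩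
        · intro s hs
          exact (Commute.inv_left (show Commute x s from hx1 s hs))
        · have : (⟨x⁻¹, V.inv_mem hx⟩ : V) = (⟨x, hx⟩ : V)⁻¹ := rfl
          rw [this, map_inv, hx2, inv_one] }
  have hDbot : D = ⊥ := by
    by_contra hne
    obtain ⟨d, hd, hd1⟩ := (Subgroup.ne_bot_iff_exists_ne_one.mp hne |>.imp fun d h => h) |> fun ⟨d, h⟩ => (⟨d.1, d.2, fun h' => h (Subtype.ext h')⟩ : ∃ d : H, d ∈ D ∧ d ≠ 1)
    have hN : (D.subgroupOf T₂).Normal := by
      constructor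
      intro n hn g
      rw [mem_subgroupOf] at hn ⊢
      obtain ⟨hn1, hn2, hn3⟩ := hn
      have hgV := hT2V g.2
      have hgS := hT2S g.2
      refine ⟨(mem_normalizer_iff.mp hgV _).mp hn1, ?_, ?_⟩
      · intro s hs
        have h1 : (g : H)⁻¹ * s * g ∈ S := by
          have h2 := (mem_normalizer_iff.mp hgS ((g : H)⁻¹ * s * g)).mpr (by
            have : (g : H) * ((g : H)⁻¹ * s * g) * (g : H)⁻¹ = s := by group
            rwa [this])
          exact h2
        have h2 := hn2 _ h1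
        show (g : H) * n * (g : H)⁻¹ * s = s * ((g : H) * n * (g : H)⁻¹)
        calc (g : H) * n * (g : H)⁻¹ * s = (g : H) * ((n : H) * ((g : H)⁻¹ * s * g)) * (g : H)⁻¹ := by group
          _ = (g : H) * (((g : H)⁻¹ * s * g) * n) * (g : H)⁻¹ := by rw [h2]
          _ = _ := by group
      · have h1 := trV_conj (V := V) (X := X) (S := S) (hV := hV) (hXV := hXV) hgV (hT2K g.2) hgS
          ⟨n, hn1⟩ hn2
        have h2 : cv V hgV ⟨n, hn1⟩ = ⟨(g : H) * n * (g : H)⁻¹, (mem_normalizer_iff.mp hgV _).mp hn1⟩ := rfl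
        rw [h2] at h1
        show tr ⟨(g : H) * n * (g : H)⁻¹, _⟩ = 1
        rw [htr, ← h1]
        have h3 : trV V X S hV hXV ⟨n, hn1⟩ = 1 := hn3
        rw [h3, map_one]
    have hdT : d ∈ T₂ := hVT hd.1
    have hne' : D.subgroupOf T₂ ≠ ⊥ := by
      intro h
      have h1 : (⟨d, hdT⟩ : T₂) ∈ D.subgroupOf T₂ := by rwa [mem_subgroupOf]
      rw [h, Subgroup.mem_bot] at h1
      exact hd1 (congrArg Subtype.val h1)
    obtain ⟨z, hzN, hzc, hz1⟩ := Cfsg.Agent.Lib.Char.exists_mem_center_of_normal hT₂ _ hN hne'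
    rw [mem_subgroupOf] at hzN
    obtain ⟨hz2, hz3, hz4⟩ := hzN
    have hk := hfix z hz2 (fun t ht => by
      have := (Subgroup.mem_center_iff.mp hzc) ⟨t, ht⟩
      exact (congrArg Subtype.val this).symm)
    have h1 := trV_of_fixed (S := S) (hV := hV) (hXV := hXV) ⟨z, hz2⟩ hk
    have h2 : tr ⟨z, hz2⟩ = 1 := hz4
    rw [htr] at h2
    rw [h2] at h1
    have h3 : (z : H) ^ m = 1 := (congrArg Subtype.val h1).symm
    obtain ⟨n, hn⟩ := exists_pow_pow_eq (p := p) (hVp z hz2) hm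
    rw [h3, one_pow] at hn
    exact hz1 (Subtype.ext hn.symm)
  set a' : V := ⟨a, haV⟩ with ha'
  set u : V := tr a' with hu
  have huc : ∀ x ∈ X, x * (u : H) = u * x := fun x hx => trV_comm (hV := hV) (hXV := hXV) hx a' ha
  have hdmem : ((a' ^ m * u⁻¹ : V) : H) ∈ D := by
    refine ⟨(a' ^ m * u⁻¹).2, ?_, ?_⟩
    · intro s hs
      have h1 : Commute (a : H) s := ha s hs
      have h2 : Commute (u : H) s := (huc s (hS.le hs)).symm
      have h3 : ((a' ^ m * u⁻¹ : V) : H) = a ^ m * (u : H)⁻¹ := by simp [ha']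
      rw [h3]
      exact Commute.mul_left (h1.pow_left m) (h2.inv_left)
    · have h1 : tr u = u ^ m := trV_of_fixed (S := S) (hV := hV) (hXV := hXV) u huc
      show tr (a' ^ m * u⁻¹) = 1
      rw [map_mul, map_inv, map_pow, h1, ← hu]
      simp
  rw [hDbot, Subgroup.mem_bot] at hdmem
  have h2 : a' ^ m * u⁻¹ = 1 := Subtype.ext hdmem
  have h3 : a' ^ m = u := by
    calc a' ^ m = a' ^ m * u⁻¹ * u := by group
      _ = u := by rw [h2, one_mul]
  have h4 : a ^ m = (u : H) := by rw [← h3]; simp [ha']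
  intro k hk
  obtain ⟨n, hn⟩ := exists_pow_pow_eq (p := p) (hVp a haV) hm
  have h5 : Commute k (a ^ m) := by rw [h4]; exact huc k hk
  have h6 := h5.pow_right n
  rw [hn] at h6
  exact h6

end core

end Cfsg.Agent.Lib.Amalgam.TraceV
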