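import Mathlib
import Cfsg.Prelude.Def_LocalEven
import Cfsg.Agent.Lib.Amalgam.TraceV
import Cfsg.Agent.Lib.Amalgam.Kieler
import Cfsg.Agent.Lib.FF.SubnormalSylow
import Cfsg.Agent.Lib.FF.CharP
import Cfsg.Agent.Lib.FStar.PComponent
import Cfsg.Agent.Lib.Subnormal.Join

/-!
# Point stabilizers of subnormal subgroups.  Owner: helper17.

In a group `H` of local characteristic `p` with Sylow subgroup `T`: for `A` subnormal in `L` subnormal in `H`, a
`p`-element of `A` centralizes `Ω₁Z(T ∩ A)` if and only if it centralizes `Ω₁Z(T ∩ L)` (`iff_of_SN`).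
-/

set_option autoImplicit false
set_option linter.unusedSectionVars false

universe u

namespace Cfsg.Agent.Lib.Amalgam.PointStab

open Subgroup Cfsg Cfsg.Agent.Lib.Subnormal Cfsg.Agent.Lib.FF Cfsg.Agent.Lib.Amalgam.TraceV

section om

variable {H : Type*} [Group H] {p : ℕ}

/-- `Ω₁(Z(R))`, as a subgroup with explicit membership. -/
def Om (p : ℕ) (R : Subgroup H) : Subgroup H where
  carrier := {v | v ∈ R ∧ (∀ r ∈ R, v * r = r * v) ∧ v ^ p = 1}
  mul_mem' := by
    rintro x y ⟨hx, hx1, hx2⟩ ⟨hy, hy1, hy2⟩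
    refine ⟨R.mul_mem hx hy, ?_, ?_⟩
    · intro r hr
      exact Commute.mul_left (show Commute x r from hx1 r hr) (show Commute y r from hy1 r hr)
    · have : Commute x y := hx1 y hy
      rw [this.mul_pow, hx2, hy2, one_mul]
  one_mem' := ⟨R.one_mem, by simp, by simp⟩
  inv_mem' := by
    rintro x ⟨hx, hx1, hx2⟩
    refine ⟨R.inv_mem hx, ?_, ?_⟩
    · intro r hr
      exact (Commute.inv_left (show Commute x r from hx1 r hr))
    · rw [inv_pow, hx2, inv_one]

theorem omegaOne_eq (R : Subgroup H) : omegaOne p (R ⊓ centralizer (R : Set H)) = Om p R :=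
  le_antisymm
    (closure_le _ |>.2 (fun _ hx => ⟨hx.1.1, fun r hr => (mem_centralizer_iff.mp hx.1.2 r hr).symm, hx.2⟩))
    (fun _ hx => subset_closure ⟨⟨hx.1, mem_centralizer_iff.mpr (fun r hr => (hx.2.1 r hr).symm)⟩, hx.2.2⟩)

theorem Om_le (R : Subgroup H) : Om p R ≤ R := fun _ hx => hx.1

theorem Om_comm (R : Subgroup H) : ∀ a ∈ Om p R, ∀ b ∈ Om p R, a * b = b * a :=
  fun _ ha _ hb => ha.2.1 _ hb.1

theorem Om_pow (R : Subgroup H) : ∀ a ∈ Om p R, a ^ p = 1 := fun _ ha => ha.2.2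

theorem le_normalizer_Om {T S : Subgroup H} (h : T ≤ normalizer (S : Set H)) :
    T ≤ normalizer (Om p S : Set H) := by
  have := Cfsg.Agent.Lib.Amalgam.le_normalizer_omegaOne_center (p := p) h
  rwa [omegaOne_eq] at this

theorem mem_normalizer_inf' {A B : Subgroup H} {y : H} (hA : y ∈ normalizer (A : Set H))
    (hB : y ∈ normalizer (B : Set H)) : y ∈ normalizer ((A ⊓ B : Subgroup H) : Set H) := by
  rw [mem_normalizer_iff]
  intro x
  rw [mem_inf, mem_inf, ← mem_normalizer_iff.mp hA x, ← mem_normalizer_iff.mp hB x]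

theorem mem_normalizer_of_centralizer {R : Subgroup H} {y : H} (hy : y ∈ centralizer (R : Set H)) :
    y ∈ normalizer (R : Set H) := by
  rw [mem_normalizer_iff]
  intro x
  constructor
  · intro hx
    have := mem_centralizer_iff.mp hy x hx
    rw [← this]
    simpa using hx
  · intro hx
    have hx' : x = y⁻¹ * (y * x * y⁻¹) * y := by group
    have h1 := mem_centralizer_iff.mp (inv_mem hy) _ hx
    rw [hx', ← h1]
    simpa using hx

theorem mem_normalizer_closure {G : Set H} {y : H} (h1 : ∀ s ∈ G, y * s * y⁻¹ ∈ G)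
    (h2 : ∀ s ∈ G, y⁻¹ * s * y ∈ G) : y ∈ normalizer ((closure G : Subgroup H) : Set H) := by
  have key : ∀ z : H, (∀ s ∈ G, z * s * z⁻¹ ∈ G) → ∀ x ∈ closure G, z * x * z⁻¹ ∈ closure G := by
    intro z hz x hx
    induction hx using closure_induction with
    | mem x hx => exact subset_closure (hz x hx)
    | one => simp
    | mul a b _ _ ha hb =>
      have : z * (a * b) * z⁻¹ = (z * a * z⁻¹) * (z * b * z⁻¹) := by group
      rw [this]; exact mul_mem ha hb
    | inv a _ ha =>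
      have : z * a⁻¹ * z⁻¹ = (z * a * z⁻¹)⁻¹ := by group
      rw [this]; exact inv_mem ha
  rw [mem_normalizer_iff]
  intro x
  refine ⟨key y h1 x, fun hx => ?_⟩
  have := key y⁻¹ (by simpa using h2) _ hx
  have e : y⁻¹ * (y * x * y⁻¹) * y⁻¹⁻¹ = x := by group
  rwa [e] at this

/-- The subgroup generated by the `p`-elements of `A` centralizing `R`. -/
def Kg (p : ℕ) (A R : Subgroup H) : Subgroup H :=
  closure {x | x ∈ A ∧ x ∈ centralizer (R : Set H) ∧ ∃ k : ℕ, orderOf x = p ^ k}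

theorem Kg_le (A R : Subgroup H) : Kg p A R ≤ A ⊓ centralizer (R : Set H) :=
  (closure_le _).2 (fun _ hx => ⟨hx.1, hx.2.1⟩)

theorem orderOf_conj' (y s : H) : orderOf (y * s * y⁻¹) = orderOf s :=
  orderOf_injective (MulAut.conj y).toMonoidHom (MulAut.conj y).injective s

theorem Kg_norm {A R : Subgroup H} {y : H} (h1 : y ∈ normalizer (A : Set H))
    (h2 : y ∈ normalizer (centralizer (R : Set H) : Set H)) : y ∈ normalizer (Kg p A R : Set H) := by
  apply mem_normalizer_closure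
  · rintro s ⟨hs1, hs2, hs3⟩
    refine ⟨(mem_normalizer_iff.mp h1 s).mp hs1, (mem_normalizer_iff.mp h2 s).mp hs2, ?_⟩
    rwa [orderOf_conj']
  · rintro s ⟨hs1, hs2, hs3⟩
    refine ⟨by simpa using (mem_normalizer_iff.mp (inv_mem h1) s).mp hs1,
      by simpa using (mem_normalizer_iff.mp (inv_mem h2) s).mp hs2, ?_⟩
    have := orderOf_conj' y⁻¹ s
    simp only [inv_inv] at this
    rwa [this]

end om

section loc

variable {H : Type*} [Group H] [Finite H] {p : ℕ} [hp : Fact p.Prime]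

theorem charP_of_SN (hH : IsOfLocalCharacteristic p H) {R K : Subgroup H} (hRp : IsPGroup p R) (hR : R ≠ ⊥)
    (hK : SN (normalizer (R : Set H)) K) : centralizer (pCore p K : Set K) ≤ pCore p K := by
  have h0 := hH.2 R hRp hR
  have h1 := charP_of_isSubnormal h0 (K.subgroupOf _) hK.subgroupOf
  exact charP_of_mulEquiv (subgroupOfEquivOfLe hK.le) h1

theorem pCoreOf_le_of_sylowIn {S K : Subgroup H} (hS : IsSylowIn p S K) : pCoreOf p K ≤ S := by
  rintro _ ⟨y, hy, rfl⟩
  have h1 := Cfsg.Agent.Lib.Core.pCore_le_sylow hS.toSylow hy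
  have h2 : y ∈ S.subgroupOf K := h1
  simpa [mem_subgroupOf] using h2

theorem mem_core_of_central {S K : Subgroup H} (hK : centralizer (pCore p K : Set K) ≤ pCore p K)
    (hS : IsSylowIn p S K) {y : H} (hy : y ∈ S) (hyc : ∀ s ∈ S, y * s = s * y) : y ∈ pCoreOf p K := by
  have h1 : (⟨y, hS.le hy⟩ : K) ∈ centralizer (pCore p K : Set K) := by
    rw [mem_centralizer_iff]
    intro q hq
    have h2 : (q : H) ∈ S := pCoreOf_le_of_sylowIn hS ⟨q, hq, rfl⟩
    exact Subtype.ext (hyc _ h2).symm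
  exact ⟨_, hK h1, rfl⟩

theorem Om_ne_bot {R : Subgroup H} (hRp : IsPGroup p R) (hR : R ≠ ⊥) : Om p R ≠ ⊥ := by
  have htop : (⊤ : Subgroup R) ≠ ⊥ := by
    intro h
    apply hR
    rw [eq_bot_iff]
    intro x hx
    have h1 : (⟨x, hx⟩ : R) ∈ (⊤ : Subgroup R) := mem_top _
    rw [h, mem_bot] at h1
    simpa using congrArg Subtype.val h1
  obtain ⟨z, -, hzc, hz1⟩ := Cfsg.Agent.Lib.Char.exists_mem_center_of_normal hRp ⊤ inferInstance htop
  obtain ⟨k, hk⟩ := hRp z
  have hzH : (z : H) ^ p ^ k = 1 := by simpa using congrArg Subtype.val hk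
  obtain ⟨j, -, hj⟩ := (Nat.dvd_prime_pow hp.out).mp (orderOf_dvd_of_pow_eq_one hzH)
  have hz1' : (z : H) ≠ 1 := fun h => hz1 (Subtype.ext h)
  have hj0 : j ≠ 0 := by
    rintro rfl
    rw [pow_zero, orderOf_eq_one_iff] at hj
    exact hz1' hj
  obtain ⟨i, rfl⟩ := Nat.exists_eq_succ_of_ne_zero hj0
  intro hbot
  have hmem : (z : H) ^ p ^ i ∈ Om p R := by
    refine ⟨R.pow_mem z.2 _, ?_, ?_⟩
    · intro r hr
      have h1 : (z : H) * r = r * z := by
        have := (Subgroup.mem_center_iff.mp hzc) ⟨r, hr⟩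
        exact (congrArg Subtype.val this).symm
      exact (Commute.pow_left (show Commute (z : H) r from h1) _).eq
    · rw [← pow_mul, ← pow_succ, ← hj, pow_orderOf_eq_one]
  rw [hbot, mem_bot] at hmem
  have hlt : p ^ i < orderOf (z : H) := by
    rw [hj]
    exact Nat.pow_lt_pow_right hp.out.one_lt (Nat.lt_succ_self i)
  exact pow_ne_one_of_lt_orderOf (Nat.pos_of_ne_zero (pow_ne_zero _ hp.out.ne_zero)).ne' hlt hmem

theorem eq_one_of_sylow_bot {S A : Subgroup H} (hS : IsSylowIn p S A) (h0 : S = ⊥) {x : H} (hx : x ∈ A)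
    (hxp : ∃ k : ℕ, orderOf x = p ^ k) : x = 1 := by
  obtain ⟨k, hk⟩ := hxp
  have hd := hS.not_dvd
  rw [h0, relIndex_bot_left] at hd
  have h1 := Subgroup.orderOf_dvd_natCard A hx
  rw [hk] at h1
  rcases k with _ | k
  · simpa using hk
  · exact absurd ((dvd_pow_self p (Nat.succ_ne_zero k)).trans h1) hd

theorem inf_normalizes {T A B : Subgroup H} (hBA : B ≤ normalizer (A : Set H)) :
    T ⊓ B ≤ normalizer ((T ⊓ A : Subgroup H) : Set H) := fun _ hy =>
  mem_normalizer_inf' (le_normalizer hy.1) (hBA hy.2)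

/-- Forward step. -/
theorem step_forward (hH : IsOfLocalCharacteristic p H) {T : Subgroup H} (hT : IsSylowIn p T ⊤)
    {A B : Subgroup H} (hAB : A ≤ B) (hBA : B ≤ normalizer (A : Set H)) (hB : SN ⊤ B) {x : H} (hxA : x ∈ A)
    (hxp : ∃ k : ℕ, orderOf x = p ^ k) (hx : x ∈ centralizer (Om p (T ⊓ A) : Set H)) :
    x ∈ centralizer (Om p (T ⊓ B) : Set H) := by
  have hAs : SN ⊤ A := hB.step hAB hBA
  have hSA : IsSylowIn p (T ⊓ A) A := isSylowIn_inf_subnormal hT (isSubnormal_of_sn_top hAs)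
  have hSB : IsSylowIn p (T ⊓ B) B := isSylowIn_inf_subnormal hT (isSubnormal_of_sn_top hB)
  by_cases h0 : T ⊓ A = ⊥
  · rw [eq_one_of_sylow_bot hSA h0 hxA hxp]
    exact one_mem _
  set R := Om p (T ⊓ A) with hRdef
  have hRp : IsPGroup p R := hSA.isPGroup.to_le (Om_le _)
  have hR : R ≠ ⊥ := Om_ne_bot hSA.isPGroup h0
  have hN : normalizer (R : Set H) ≤ ⊤ := le_top
  have hMs : SN (normalizer (R : Set H)) (B ⊓ normalizer (R : Set H)) := hB.inf hN
  have hMc := charP_of_SN hH hRp hR hMs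
  have hT2N : T ⊓ B ≤ normalizer (R : Set H) := le_normalizer_Om (inf_normalizes hBA)
  have hSM : IsSylowIn p (T ⊓ B) (B ⊓ normalizer (R : Set H)) :=
    Cfsg.Agent.Lib.Amalgam.isSylowIn_mono hSB (le_inf inf_le_right hT2N) inf_le_left
  set M := B ⊓ normalizer (R : Set H) with hMdef
  set Q := pCoreOf p M with hQdef
  have hQS : Q ≤ T ⊓ B := pCoreOf_le_of_sylowIn hSM
  have hMV : M ≤ normalizer (Om p Q : Set H) := le_normalizer_Om (Cfsg.Agent.Lib.Amalgam.le_normalizer_pCoreOf M)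
  rw [mem_centralizer_iff]
  intro t ht
  have htQ : t ∈ Q := mem_core_of_central hMc hSM ht.1 ht.2.1
  have htV : t ∈ Om p Q := ⟨htQ, fun r hr => ht.2.1 r (hQS hr), ht.2.2⟩
  have hXM : A ⊓ normalizer (R : Set H) ≤ M := le_inf (inf_le_left.trans hAB) inf_le_right
  have hSX : IsSylowIn p (T ⊓ A) (A ⊓ normalizer (R : Set H)) :=
    Cfsg.Agent.Lib.Amalgam.isSylowIn_mono hSA
      (le_inf inf_le_right ((inf_le_inf_left T hAB).trans hT2N)) inf_le_left
  have htX : t ∈ normalizer ((A ⊓ normalizer (R : Set H) : Subgroup H) : Set H) :=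
    mem_normalizer_inf' (hBA ht.1.2) (le_normalizer (hT2N ht.1))
  have htS : ∀ s ∈ T ⊓ A, t * s = s * t := fun s hs => ht.2.1 s (inf_le_inf_left T hAB hs)
  obtain ⟨z, hzS, hzc, hzp, hz⟩ := gaschutz_core (V := Om p Q) (X := A ⊓ normalizer (R : Set H)) (S := T ⊓ A) (Om_comm Q)
    (hXM.trans hMV) hSX (Om_pow Q) htV htX htS
  have hzR : z ∈ R := ⟨hzS, hzc, hzp⟩
  have hxX : x ∈ A ⊓ normalizer (R : Set H) := ⟨hxA, mem_normalizer_of_centralizer hx⟩
  exact (hz x hxX (mem_centralizer_iff.mp hx z hzR).symm).symm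

/-- Backward step. -/
theorem step_backward (hH : IsOfLocalCharacteristic p H) {T : Subgroup H} (hT : IsSylowIn p T ⊤)
    {A B : Subgroup H} (hAB : A ≤ B) (hBA : B ≤ normalizer (A : Set H)) (hB : SN ⊤ B) {x : H} (hxA : x ∈ A)
    (hxp : ∃ k : ℕ, orderOf x = p ^ k) (hx : x ∈ centralizer (Om p (T ⊓ B) : Set H)) :
    x ∈ centralizer (Om p (T ⊓ A) : Set H) := by
  have hAs : SN ⊤ A := hB.step hAB hBA
  have hSA : IsSylowIn p (T ⊓ A) A := isSylowIn_inf_subnormal hT (isSubnormal_of_sn_top hAs)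
  have hSB : IsSylowIn p (T ⊓ B) B := isSylowIn_inf_subnormal hT (isSubnormal_of_sn_top hB)
  by_cases h0 : T ⊓ B = ⊥
  · rw [mem_centralizer_iff]
    intro a ha
    have h1 : a ∈ T ⊓ B := inf_le_inf_left T hAB (Om_le _ ha)
    rw [h0, mem_bot] at h1
    simp [h1]
  set R := Om p (T ⊓ B) with hRdef
  have hRp : IsPGroup p R := hSB.isPGroup.to_le (Om_le _)
  have hR : R ≠ ⊥ := Om_ne_bot hSB.isPGroup h0
  have hCN : centralizer (R : Set H) ≤ normalizer (R : Set H) := fun _ hy => mem_normalizer_of_centralizer hy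
  have hT2R : T ⊓ B ≤ normalizer (R : Set H) := le_normalizer_Om le_normalizer
  have hNC := Cfsg.Agent.Lib.Amalgam.normalizer_le_normalizer_centralizer R
  set K := Kg p A R with hKdef
  have hKle : K ≤ A ⊓ centralizer (R : Set H) := Kg_le A R
  have hN : normalizer (R : Set H) ≤ ⊤ := le_top
  have hKs : SN (normalizer (R : Set H)) K := by
    have h1 : SN (normalizer (R : Set H)) (B ⊓ normalizer (R : Set H)) := hB.inf hN
    have h2 : SN (normalizer (R : Set H)) (A ⊓ centralizer (R : Set H)) := by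
      refine h1.step (inf_le_inf hAB hCN) ?_
      intro y hy
      exact mem_normalizer_inf' (hBA hy.1) (hNC hy.2)
    refine h2.step hKle ?_
    intro y hy
    exact Kg_norm (le_normalizer hy.1) (hNC (hCN hy.2))
  have hKc := charP_of_SN hH hRp hR hKs
  have hSK : T ⊓ A ≤ K := by
    intro s hs
    apply Subgroup.subset_closure
    refine ⟨hs.2, ?_, ?_⟩
    · rw [mem_centralizer_iff]
      intro r hr
      exact hr.2.1 s (inf_le_inf_left T hAB hs)
    · obtain ⟨k, hk⟩ := (hT.isPGroup.to_le (inf_le_left : T ⊓ A ≤ T)) ⟨s, hs⟩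
      have h1 : s ^ p ^ k = 1 := by simpa using congrArg Subtype.val hk
      obtain ⟨j, -, hj⟩ := (Nat.dvd_prime_pow hp.out).mp (orderOf_dvd_of_pow_eq_one h1)
      exact ⟨j, hj⟩
  have hSKs : IsSylowIn p (T ⊓ A) K :=
    Cfsg.Agent.Lib.Amalgam.isSylowIn_mono hSA hSK (hKle.trans inf_le_left)
  set Q := pCoreOf p K with hQdef
  have hQS : Q ≤ T ⊓ A := pCoreOf_le_of_sylowIn hSKs
  have hT2K : T ⊓ B ≤ normalizer (K : Set H) := fun y hy => Kg_norm (hBA hy.2) (hNC (hT2R hy))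
  have hfix : ∀ v ∈ Om p Q, (∀ t ∈ T ⊓ B, v * t = t * v) → ∀ k ∈ K, k * v = v * k := by
    intro v hv hvc k hk
    have hvS : v ∈ T ⊓ B := inf_le_inf_left T hAB (hQS hv.1)
    have hvR : v ∈ R := ⟨hvS, hvc, hv.2.2⟩
    have := mem_centralizer_iff.mp (hKle hk).2 v hvR
    exact this.symm
  rw [mem_centralizer_iff]
  intro a ha
  have haQ : a ∈ Q := mem_core_of_central hKc hSKs ha.1 ha.2.1
  have haV : a ∈ Om p Q := ⟨haQ, fun r hr => ha.2.1 r (hQS hr), ha.2.2⟩
  have hxK : x ∈ K := subset_closure ⟨hxA, hx, hxp⟩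
  exact (trace_core (V := Om p Q) (X := K) (S := T ⊓ A) (Om_comm Q)
    (le_normalizer_Om (Cfsg.Agent.Lib.Amalgam.le_normalizer_pCoreOf K)) hSKs
    (hSB.isPGroup) (Om_pow Q) ((Om_le Q).trans (hQS.trans (inf_le_inf_left T hAB)))
    (le_normalizer_Om (hT2K.trans (Cfsg.Agent.Lib.Amalgam.normalizer_le_normalizer_pCoreOf K)))
    hT2K (inf_normalizes hBA) hfix haV ha.2.1 x hxK).symm

/-- The main lemma: along a subnormal chain, the two centralizer conditions agree on `p`-elements. -/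
theorem iff_of_SN (hH : IsOfLocalCharacteristic p H) {T : Subgroup H} (hT : IsSylowIn p T ⊤)
    {L A : Subgroup H} (hA : SN L A) (hL : SN ⊤ L) {x : H} (hxA : x ∈ A)
    (hxp : ∃ k : ℕ, orderOf x = p ^ k) :
    x ∈ centralizer (Om p (T ⊓ A) : Set H) ↔ x ∈ centralizer (Om p (T ⊓ L) : Set H) := by
  induction hA with
  | refl => exact Iff.rfl
  | @step A' K' hK' hle hn ih =>
    have hKs : SN ⊤ K' := hL.trans hK'
    rw [← ih (hle hxA)]
    exact ⟨step_forward hH hT hle hn hKs hxA hxp, step_backward hH hT hle hn hKs hxA hxp⟩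

end loc

section main

variable {H : Type u} [Group H] [Finite H] {p : ℕ} [hp : Fact p.Prime]

theorem pointStabilizer_eq (X R : Subgroup H) : pointStabilizer p X R = Kg p X (Om p R) := by
  unfold pointStabilizer Kg
  rw [omegaOne_eq]
  congr 1
  ext x
  simp only [Set.mem_setOf_eq, mem_inf, and_assoc]

theorem main (hH : IsOfLocalCharacteristic p H) (T : Sylow p H) (L₁ L₂ : Subgroup H)
    (h₁ : L₁.IsSubnormal) (h₂ : L₂.IsSubnormal) :
    pointStabilizer p (L₁ ⊔ L₂) ((T : Subgroup H) ⊓ (L₁ ⊔ L₂)) =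
      pointStabilizer p L₁ ((T : Subgroup H) ⊓ L₁) ⊔ pointStabilizer p L₂ ((T : Subgroup H) ⊓ L₂) := by
  set T' : Subgroup H := (T : Subgroup H) with hT'
  have hT : IsSylowIn p T' ⊤ := isSylowIn_of_sylow_le T le_top
  set L := L₁ ⊔ L₂ with hL
  have hLn : L.IsSubnormal := sup_isSubnormal h₁ h₂
  have hLs : SN ⊤ L := sn_top_of_isSubnormal hLn
  have hSL : IsSylowIn p (T' ⊓ L) L := isSylowIn_inf_subnormal hT hLn
  have hs₁ : SN L L₁ := (sn_top_of_isSubnormal h₁).of_le le_sup_left le_top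
  have hs₂ : SN L L₂ := (sn_top_of_isSubnormal h₂).of_le le_sup_right le_top
  set R := Om p (T' ⊓ L) with hR
  -- the point stabilizers of the factors are the `Kg`'s for `R`
  have key : ∀ A : Subgroup H, SN L A → Kg p A (Om p (T' ⊓ A)) = Kg p A R := by
    intro A hA
    unfold Kg
    congr 1
    ext x
    constructor
    · rintro ⟨h1, h2, h3⟩
      exact ⟨h1, (iff_of_SN hH hT hA hLs h1 h3).mp h2, h3⟩
    · rintro ⟨h1, h2, h3⟩
      exact ⟨h1, (iff_of_SN hH hT hA hLs h1 h3).mpr h2, h3⟩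
  rw [pointStabilizer_eq, pointStabilizer_eq, pointStabilizer_eq, key L₁ hs₁, key L₂ hs₂]
  apply le_antisymm
  · -- the hard inclusion
    set C := L ⊓ centralizer (R : Set H) with hC
    have hNC := Cfsg.Agent.Lib.Amalgam.normalizer_le_normalizer_centralizer R
    have hKsn : ∀ A : Subgroup H, SN L A → SN C (Kg p A R) := by
      intro A hA
      have h1 : SN C (A ⊓ C) := hA.inf inf_le_left
      have h2 : A ⊓ C ≤ A ⊓ centralizer (R : Set H) := inf_le_inf_left A inf_le_right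
      refine h1.step ?_ ?_
      · exact le_inf (Kg_le A R |>.trans inf_le_left)
          (le_inf ((Kg_le A R |>.trans inf_le_left).trans hA.le) (Kg_le A R |>.trans inf_le_right))
      · intro y hy
        exact Kg_norm (le_normalizer hy.1) (hNC (mem_normalizer_of_centralizer (h2 hy).2))
    have hP : SN C (Kg p L₁ R ⊔ Kg p L₂ R) := sn_sup (hKsn _ hs₁) (hKsn _ hs₂)
    have hTin : ∀ A : Subgroup H, A ≤ L → A ⊓ T' ≤ Kg p A R := by
      intro A hAL s hs
      apply Subgroup.subset_closure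
      refine ⟨hs.1, ?_, ?_⟩
      · rw [mem_centralizer_iff]
        intro r hr
        exact hr.2.1 s ⟨hs.2, hAL hs.1⟩
      · obtain ⟨k, hk⟩ := hT.isPGroup ⟨s, hs.2⟩
        have h1 : s ^ p ^ k = 1 := by simpa using congrArg Subtype.val hk
        obtain ⟨j, -, hj⟩ := (Nat.dvd_prime_pow hp.out).mp (orderOf_dvd_of_pow_eq_one h1)
        exact ⟨j, hj⟩
    have hTP : T' ⊓ L ≤ Kg p L₁ R ⊔ Kg p L₂ R := by
      rw [inf_comm, hL, sylow_inf_join hT h₁ h₂]
      exact sup_le_sup (hTin _ le_sup_left) (hTin _ le_sup_right)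
    have hidx : ¬ p ∣ (Kg p L₁ R ⊔ Kg p L₂ R).relIndex C := by
      intro hd
      have hPC : Kg p L₁ R ⊔ Kg p L₂ R ≤ C := hP.le
      have h1 : ¬ p ∣ (T' ⊓ L).relIndex C :=
        (Cfsg.Agent.Lib.Amalgam.isSylowIn_mono hSL
          (hTP.trans hPC) inf_le_left).not_dvd
      apply h1
      rw [← Subgroup.relIndex_mul_relIndex _ _ _ hTP hPC]
      exact Dvd.dvd.mul_left hd _
    have hcop : ((Kg p L₁ R ⊔ Kg p L₂ R).subgroupOf C).index.Coprime p :=
      ((Nat.Prime.coprime_iff_not_dvd hp.out).2 hidx).symm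
    apply (closure_le _).2
    rintro x ⟨hx1, hx2, k, hk⟩
    have hxC : x ∈ C := ⟨hx1, hx2⟩
    have h3 := Cfsg.Agent.Lib.FStar.pelt_mem_of_subnormal p hP.subgroupOf hcop (x := ⟨x, hxC⟩)
      ⟨k, Subtype.ext (by simp [← hk, pow_orderOf_eq_one])⟩
    simpa [mem_subgroupOf] using h3
  · have hmono : ∀ A : Subgroup H, A ≤ L → Kg p A R ≤ Kg p L R := fun A hA =>
      closure_mono (fun _ hx => ⟨hA hx.1, hx.2⟩)
    exact sup_le (hmono _ le_sup_left) (hmono _ le_sup_right)

end main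

end Cfsg.Agent.Lib.Amalgam.PointStab
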