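import Cfsg.Agent.Lib.Amalgam.Asym
import Cfsg.Agent.Lib.FF.SylowIn
import Cfsg.Agent.Lib.FF.Basic
import Cfsg.Agent.Lib.Core.Basic
import Cfsg.Prelude.Def_LocalEven

/-!
# A strongly closed abelian subgroup controls strong fusion
-/

set_option autoImplicit false

namespace Cfsg.Agent.Lib.Amalgam

namespace StrongClosed

open Cfsg Cfsg.Agent.Lib.FF

section general

variable {p : ℕ} [hp : Fact p.Prime]

/-- A normal subgroup `D` which is a `p`-group modulo `K` lies in `K T`. -/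
theorem le_sup_of_mod {N : Type*} [Group N] [Finite N] (K D : Subgroup N) [K.Normal] [hD : D.Normal]
    (hDp : ∀ z ∈ D, ∃ j : ℕ, z ^ p ^ j ∈ K) (T : Sylow p N) :
    ∀ z ∈ D, ∃ t ∈ (T : Subgroup N), ∃ k ∈ K, z = t * k := by
  let π := QuotientGroup.mk' K
  have hπ : Function.Surjective π := QuotientGroup.mk'_surjective K
  haveI hDn : (D.map π).Normal := hD.map π hπ
  have hDbar : IsPGroup p (D.map π) := by
    rintro ⟨_, z, hz, rfl⟩
    obtain ⟨j, hj⟩ := hDp z hz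
    refine ⟨j, ?_⟩
    apply Subtype.ext
    show π z ^ p ^ j = 1
    rw [← map_pow]
    exact (QuotientGroup.eq_one_iff _).mpr hj
  have h1 : D.map π ≤ Cfsg.pCore p (N ⧸ K) := Cfsg.Agent.Lib.Core.le_pCore hDn hDbar
  have h2 := Cfsg.Agent.Lib.Core.pCore_le_sylow (T.mapSurjective hπ)
  intro z hz
  have h3 : π z ∈ ((T.mapSurjective hπ : Sylow p (N ⧸ K)) : Subgroup (N ⧸ K)) :=
    h2 (h1 ⟨z, hz, rfl⟩)
  rw [Sylow.coe_mapSurjective] at h3
  obtain ⟨t, ht, hte⟩ := h3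
  refine ⟨t, ht, t⁻¹ * z, ?_, by group⟩
  exact QuotientGroup.eq.mp hte

variable {G : Type*} [Group G] [Finite G]

/-- The normalizer grows in a `p`-group. -/
theorem exists_mem_normalizer {S U : Subgroup G} (hS : IsPGroup p S) (hU : U ≤ S) (hne : U ≠ S) :
    ∃ s ∈ S, s ∉ U ∧ s ∈ Subgroup.normalizer (U : Set G) := by
  haveI : Group.IsNilpotent S := hS.isNilpotent
  have hnc := Group.normalizerCondition_of_isNilpotent (G := S)
  have hlt : U.subgroupOf S < ⊤ := by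
    refine lt_top_iff_ne_top.mpr ?_
    intro ht
    apply hne
    apply le_antisymm hU
    intro x hx
    have : (⟨x, hx⟩ : S) ∈ U.subgroupOf S := by rw [ht]; trivial
    exact this
  have h1 := hnc _ hlt
  obtain ⟨s, hs, hs2⟩ := SetLike.exists_of_lt h1
  refine ⟨s, s.2, hs2, ?_⟩
  rw [Subgroup.mem_normalizer_iff]
  intro x
  rw [Subgroup.mem_normalizer_iff] at hs
  constructor
  · intro hx
    have hxS := hU hx
    have := (hs ⟨x, hxS⟩).mp hx
    exact this
  · intro hx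
    have hxS : x ∈ S := by
      have h3 := hU hx
      have := S.mul_mem (S.mul_mem (S.inv_mem s.2) h3) s.2
      simpa [mul_assoc] using this
    exact (hs ⟨x, hxS⟩).mpr hx

end general

section main

variable {G : Type*} [Group G] [Finite G] {p : ℕ} [hp : Fact p.Prime]
  {A S W : Subgroup G}

/-- The group of automorphisms stabilizing the chain `W ≥ A ∩ W ≥ 1`. -/
def chainStab (hsc : IsStronglyClosed A S) (hW : W ≤ S) : Subgroup G where
  carrier := {z | z ∈ Subgroup.normalizer (W : Set G) ∧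
    (∀ w ∈ W, z * w * z⁻¹ * w⁻¹ ∈ A) ∧ ∀ a ∈ A ⊓ W, z * a * z⁻¹ = a}
  one_mem' := by
    refine ⟨one_mem _, ?_, ?_⟩
    · intro w _
      simp [one_mem]
    · intro a _
      simp
  mul_mem' := by
    rintro z₁ z₂ ⟨h1, h2, h3⟩ ⟨h4, h5, h6⟩
    refine ⟨mul_mem h1 h4, ?_, ?_⟩
    · intro w hw
      have hz₂w : z₂ * w * z₂⁻¹ ∈ W := (Subgroup.mem_normalizer_iff.mp h4 w).mp hw
      have ha₂ : z₂ * w * z₂⁻¹ * w⁻¹ ∈ A ⊓ W := Subgroup.mem_inf.mpr ⟨h5 w hw, W.mul_mem hz₂w (W.inv_mem hw)⟩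
      have e : z₁ * z₂ * w * (z₁ * z₂)⁻¹ * w⁻¹ =
          (z₁ * (z₂ * w * z₂⁻¹ * w⁻¹) * z₁⁻¹) * (z₁ * w * z₁⁻¹ * w⁻¹) := by group
      rw [e, h3 _ ha₂]
      exact mul_mem ha₂.1 (h2 w hw)
    · intro a ha
      have e : z₁ * z₂ * a * (z₁ * z₂)⁻¹ = z₁ * (z₂ * a * z₂⁻¹) * z₁⁻¹ := by group
      rw [e, h6 a ha, h3 a ha]
  inv_mem' := by
    rintro z ⟨h1, h2, h3⟩
    refine ⟨inv_mem h1, ?_, ?_⟩
    · intro w hw
      have hw' : z⁻¹ * w * z ∈ W := by
        have := (Subgroup.mem_normalizer_iff.mp (inv_mem h1) w).mp hw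
        simpa using this
      have h4 := h2 _ hw'
      have e : z⁻¹ * w * z⁻¹⁻¹ * w⁻¹ = (z * (z⁻¹ * w * z) * z⁻¹ * (z⁻¹ * w * z)⁻¹)⁻¹ := by group
      rw [e]
      exact inv_mem h4
    · intro a ha
      have h4 := h3 a ha
      calc z⁻¹ * a * z⁻¹⁻¹ = z⁻¹ * (z * a * z⁻¹) * z := by rw [h4]; group
        _ = a := by group

theorem conj_mem_inf (hsc : IsStronglyClosed A S) (hW : W ≤ S) {m a : G}
    (hm : m ∈ Subgroup.normalizer (W : Set G)) (ha : a ∈ A ⊓ W) : m * a * m⁻¹ ∈ A ⊓ W := by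
  have h1 : m * a * m⁻¹ ∈ W := (Subgroup.mem_normalizer_iff.mp hm a).mp ha.2
  exact ⟨hsc.2 a ha.1 m (hW h1), h1⟩

theorem chainStab_normal (hsc : IsStronglyClosed A S) (hW : W ≤ S) {m z : G}
    (hm : m ∈ Subgroup.normalizer (W : Set G)) (hz : z ∈ chainStab hsc hW) :
    m * z * m⁻¹ ∈ chainStab hsc hW := by
  obtain ⟨h1, h2, h3⟩ := hz
  refine ⟨mul_mem (mul_mem hm h1) (inv_mem hm), ?_, ?_⟩
  · intro w hw
    have hw' : m⁻¹ * w * m ∈ W := by
      have := (Subgroup.mem_normalizer_iff.mp (inv_mem hm) w).mp hw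
      simpa using this
    have h4 : z * (m⁻¹ * w * m) * z⁻¹ ∈ W := (Subgroup.mem_normalizer_iff.mp h1 _).mp hw'
    have h5 : z * (m⁻¹ * w * m) * z⁻¹ * (m⁻¹ * w * m)⁻¹ ∈ A ⊓ W :=
      Subgroup.mem_inf.mpr ⟨h2 _ hw', W.mul_mem h4 (W.inv_mem hw')⟩
    have h6 := conj_mem_inf hsc hW hm h5
    have e : m * z * m⁻¹ * w * (m * z * m⁻¹)⁻¹ * w⁻¹ =
        m * (z * (m⁻¹ * w * m) * z⁻¹ * (m⁻¹ * w * m)⁻¹) * m⁻¹ := by group
    rw [e]
    exact h6.1
  · intro a ha
    have h4 : m⁻¹ * a * m ∈ A ⊓ W := by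
      have := conj_mem_inf hsc hW (inv_mem hm) ha
      simpa using this
    have h5 := h3 _ h4
    calc m * z * m⁻¹ * a * (m * z * m⁻¹)⁻¹ = m * (z * (m⁻¹ * a * m) * z⁻¹) * m⁻¹ := by group
      _ = a := by rw [h5]; group

theorem chainStab_pow (hsc : IsStronglyClosed A S) (hW : W ≤ S) (hWp : IsPGroup p W) {z : G}
    (hz : z ∈ chainStab hsc hW) :
    ∃ j : ℕ, z ^ p ^ j ∈ Subgroup.normalizer (W : Set G) ⊓ Subgroup.centralizer (W : Set G) := by
  obtain ⟨j, hj⟩ := IsPGroup.iff_card.mp hWp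
  refine ⟨j, pow_mem hz.1 _, ?_⟩
  obtain ⟨h1, h2, h3⟩ := hz
  refine Subgroup.mem_centralizer_iff.mpr ?_
  intro w hw
  have hw' : w ∈ W := hw
  have ha : z * w * z⁻¹ * w⁻¹ ∈ A ⊓ W :=
    Subgroup.mem_inf.mpr ⟨h2 w hw', W.mul_mem ((Subgroup.mem_normalizer_iff.mp h1 w).mp hw') (W.inv_mem hw')⟩
  set a := z * w * z⁻¹ * w⁻¹ with hadef
  have h4 : ∀ k : ℕ, z ^ k * w * (z ^ k)⁻¹ = a ^ k * w := by
    intro k
    induction k with
    | zero => simp
    | succ k ih =>
      have e1 : z ^ (k + 1) * w * (z ^ (k + 1))⁻¹ = z * (z ^ k * w * (z ^ k)⁻¹) * z⁻¹ := by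
        rw [pow_succ']
        group
      have h5 : z * a ^ k * z⁻¹ = a ^ k := by
        rw [← conj_pow, h3 a ha]
      have e2 : z * w * z⁻¹ = a * w := by
        rw [hadef, inv_mul_cancel_right]
      rw [e1, ih]
      calc z * (a ^ k * w) * z⁻¹ = (z * a ^ k * z⁻¹) * (z * w * z⁻¹) := by group
        _ = a ^ k * (a * w) := by rw [h5, e2]
        _ = a ^ (k + 1) * w := by rw [pow_succ, mul_assoc (a ^ k) a w]
  have h5 := h4 (p ^ j)
  have h6 : a ^ (p ^ j) = 1 := by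
    have h7 : (⟨a, ha.2⟩ : W) ^ Nat.card W = 1 := pow_card_eq_one'
    rw [hj] at h7
    exact congrArg Subtype.val h7
  rw [h6, one_mul] at h5
  exact (mul_inv_eq_iff_eq_mul.mp h5).symm

/-- Conjugation in `N(W)`: every element acts on `W` like an element normalizing `A ∩ N_S(W)`. -/
theorem exists_normalizer_action (hA : ∀ a ∈ A, ∀ b ∈ A, a * b = b * a)
    (hsc : IsStronglyClosed A S) (hS : IsPGroup p S) (hW : W ≤ S)
    (hT : IsSylowIn p (S ⊓ Subgroup.normalizer (W : Set G)) (Subgroup.normalizer (W : Set G)))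
    {n : G} (hn : n ∈ Subgroup.normalizer (W : Set G)) :
    ∃ h ∈ Subgroup.normalizer (W : Set G),
      h ∈ Subgroup.normalizer ((A ⊓ (S ⊓ Subgroup.normalizer (W : Set G)) : Subgroup G) : Set G) ∧
      ∀ w ∈ W, h * w * h⁻¹ = n * w * n⁻¹ := by
  set N := Subgroup.normalizer (W : Set G) with hN
  set T := S ⊓ N with hTdef
  set B := A ⊓ T with hB
  set K := N ⊓ Subgroup.centralizer (W : Set G) with hK
  set D := chainStab hsc hW with hD
  have hWp : IsPGroup p W := hS.to_le hW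
  have hDN : D ≤ N := fun z hz => hz.1
  have hKN : K ≤ N := inf_le_left
  have hKD : K ≤ D := by
    rintro z ⟨h1, h2⟩
    refine ⟨h1, ?_, ?_⟩
    · intro w hw
      have : z * w * z⁻¹ = w := by
        rw [(Subgroup.mem_centralizer_iff.mp h2 w hw).symm]
        group
      rw [this, mul_inv_cancel]
      exact one_mem _
    · intro a ha
      rw [(Subgroup.mem_centralizer_iff.mp h2 a ha.2).symm]
      group
  have hBD : B ≤ D := by
    rintro b ⟨hbA, hbS, hbN⟩
    refine ⟨hbN, ?_, ?_⟩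
    · intro w hw
      have h1 : w * b⁻¹ * w⁻¹ ∈ A :=
        hsc.2 _ (A.inv_mem hbA) w (S.mul_mem (S.mul_mem (hW hw) (S.inv_mem hbS)) (S.inv_mem (hW hw)))
      have e : b * w * b⁻¹ * w⁻¹ = b * (w * b⁻¹ * w⁻¹) := by group
      rw [e]
      exact A.mul_mem hbA h1
    · intro a ha
      rw [hA b hbA a ha.1]
      group
  -- the normal subgroups of `N`
  haveI hKn : (K.subgroupOf N).Normal := by
    constructor
    rintro ⟨z, hzN⟩ hz ⟨m, hmN⟩
    rw [Subgroup.mem_subgroupOf] at hz ⊢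
    obtain ⟨h1, h2⟩ := hz
    refine ⟨N.mul_mem (N.mul_mem hmN h1) (N.inv_mem hmN), Subgroup.mem_centralizer_iff.mpr ?_⟩
    intro w hw
    have hw' : m⁻¹ * w * m ∈ W := by
      have := (Subgroup.mem_normalizer_iff.mp (N.inv_mem hmN) w).mp hw
      simpa using this
    have h3 := Subgroup.mem_centralizer_iff.mp h2 _ hw'
    show w * (m * z * m⁻¹) = m * z * m⁻¹ * w
    calc w * (m * z * m⁻¹) = m * ((m⁻¹ * w * m) * z) * m⁻¹ := by group
      _ = m * (z * (m⁻¹ * w * m)) * m⁻¹ := by rw [h3]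
      _ = m * z * m⁻¹ * w := by group
  haveI hDn : (D.subgroupOf N).Normal := by
    constructor
    rintro ⟨z, hzN⟩ hz ⟨m, hmN⟩
    rw [Subgroup.mem_subgroupOf] at hz ⊢
    exact chainStab_normal hsc hW hmN hz
  have hfac := le_sup_of_mod (p := p) (K.subgroupOf N) (D.subgroupOf N) (by
    rintro ⟨z, hzN⟩ hz
    obtain ⟨j, hj⟩ := chainStab_pow hsc hW hWp (Subgroup.mem_subgroupOf.mp hz)
    exact ⟨j, Subgroup.mem_subgroupOf.mpr hj⟩) hT.toSylow
  -- `D ≤ T K`
  have hDTK : ∀ z ∈ D, ∃ t ∈ T, ∃ k ∈ K, z = t * k := by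
    intro z hz
    obtain ⟨t, ht, k, hk, hzk⟩ := hfac ⟨z, hDN hz⟩ (Subgroup.mem_subgroupOf.mpr hz)
    refine ⟨t, Subgroup.mem_subgroupOf.mp ht, k, Subgroup.mem_subgroupOf.mp hk, ?_⟩
    exact congrArg Subtype.val hzk
  -- the conjugate of `B`
  set B' := B.map (MulAut.conj n).toMonoidHom with hB'
  have hB'D : B' ≤ D := by
    rintro _ ⟨b, hb, rfl⟩
    exact chainStab_normal hsc hW hn (hBD hb)
  have hTKN : T ⊔ K ≤ N := sup_le hT.le hKN
  have hB'TK : B' ≤ T ⊔ K := by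
    intro z hz
    obtain ⟨t, ht, k, hk, rfl⟩ := hDTK z (hB'D hz)
    exact Subgroup.mul_mem_sup ht hk
  have hB'p : IsPGroup p B' := by
    have hBp : IsPGroup p B := hS.to_le (inf_le_right.trans inf_le_left)
    exact hBp.map _
  have hTsyl : IsSylowIn p T (T ⊔ K) := by
    refine ⟨le_sup_left, hT.isPGroup, fun hd => hT.not_dvd ?_⟩
    rw [← Subgroup.relIndex_mul_relIndex T (T ⊔ K) N le_sup_left hTKN]
    exact hd.trans (Dvd.intro _ rfl)
  obtain ⟨S', hS', hS'syl⟩ := exists_isSylowIn_of_le hB'p hB'TK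
  obtain ⟨y, hy, hyT⟩ := hS'syl.exists_conj hTsyl
  have hKT : T ≤ Subgroup.normalizer (K : Set G) := by
    intro t ht
    rw [Subgroup.mem_normalizer_iff]
    intro z
    have htN : t ∈ N := hT.le ht
    constructor
    · intro hz
      have := hKn.conj_mem ⟨z, hKN hz⟩ (Subgroup.mem_subgroupOf.mpr hz) ⟨t, htN⟩
      exact Subgroup.mem_subgroupOf.mp this
    · intro hz
      have hzN : z ∈ N := by
        have := N.mul_mem (N.mul_mem (N.inv_mem htN) (hKN hz)) htN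
        simpa [mul_assoc] using this
      have := hKn.conj_mem ⟨t * z * t⁻¹, hKN hz⟩ (Subgroup.mem_subgroupOf.mpr hz) ⟨t⁻¹, N.inv_mem htN⟩
      have h2 := Subgroup.mem_subgroupOf.mp this
      simpa [mul_assoc] using h2
  have hyinv : y⁻¹ ∈ K ⊔ T := by
    rw [sup_comm]
    exact inv_mem hy
  obtain ⟨k', hk', t', ht', hyk⟩ := exists_mul_of_mem_sup hKT hyinv
  have hye : y = t'⁻¹ * k'⁻¹ := by
    have : y = (y⁻¹)⁻¹ := by group
    rw [this, hyk]
    group
  set k := k'⁻¹ with hkdef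
  have hkK : k ∈ K := K.inv_mem hk'
  set t := t'⁻¹ with htdef
  have htT : t ∈ T := T.inv_mem ht'
  have hmemT : ∀ b ∈ B, (k * n) * b * (k * n)⁻¹ ∈ T := by
    intro b hb
    have h1 : n * b * n⁻¹ ∈ S' := hS' ⟨b, hb, rfl⟩
    have h2 : y * (n * b * n⁻¹) * y⁻¹ ∈ T := by
      rw [← hyT]
      exact ⟨_, h1, rfl⟩
    rw [hye] at h2
    have e : (k * n) * b * (k * n)⁻¹ = t⁻¹ * (t * k * (n * b * n⁻¹) * (t * k)⁻¹) * t := by group
    rw [e]
    exact T.mul_mem (T.mul_mem (T.inv_mem htT) h2) htT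
  refine ⟨k * n, N.mul_mem (hKN hkK) hn, ?_, ?_⟩
  · apply mem_normalizer_of_map_conj_le
    rintro _ ⟨b, hb, rfl⟩
    have h1 := hmemT b hb
    refine ⟨hsc.2 b hb.1 (k * n) h1.1, h1⟩
  · intro w hw
    have h1 : n * w * n⁻¹ ∈ W := (Subgroup.mem_normalizer_iff.mp hn w).mp hw
    have h2 := Subgroup.mem_centralizer_iff.mp hkK.2 _ h1
    calc k * n * w * (k * n)⁻¹ = (k * (n * w * n⁻¹)) * k⁻¹ := by group
      _ = (n * w * n⁻¹ * k) * k⁻¹ := by rw [h2]
      _ = n * w * n⁻¹ := by group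

omit hp in
theorem card_lt_of_lt' {H K : Subgroup G} (h : H < K) : Nat.card H < Nat.card K := by
  by_contra hc
  exact h.ne (Subgroup.eq_of_le_of_card_ge h.le (not_lt.mp hc))

theorem exists_fully_normalized (S : Sylow p G) {U : Subgroup G} (hU : U ≤ S) :
    ∃ (W : Subgroup G) (c : G), W ≤ S ∧ U.map (MulAut.conj c).toMonoidHom = W ∧
      IsSylowIn p ((S : Subgroup G) ⊓ Subgroup.normalizer (W : Set G))
        (Subgroup.normalizer (W : Set G)) := by
  classical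
  set 𝒞 : Set (Subgroup G) := {W | W ≤ S ∧ ∃ c : G, U.map (MulAut.conj c).toMonoidHom = W} with h𝒞
  have hne : 𝒞.Nonempty := ⟨U, hU, 1, map_conj_one U⟩
  obtain ⟨W, ⟨hWS, c, hc⟩, hmax⟩ := Set.exists_max_image 𝒞
    (fun W => Nat.card ↥((S : Subgroup G) ⊓ Subgroup.normalizer (W : Set G)))
    (Set.toFinite _) hne
  refine ⟨W, c, hWS, hc, ?_⟩
  set T := (S : Subgroup G) ⊓ Subgroup.normalizer (W : Set G) with hT
  have hTp : IsPGroup p T := S.isPGroup'.to_le inf_le_left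
  obtain ⟨R, hTR, hR⟩ := exists_isSylowIn_of_le hTp (inf_le_right : T ≤ _)
  obtain ⟨P, hRP⟩ := hR.isPGroup.exists_le_sylow
  obtain ⟨y, hy⟩ := MulAction.exists_smul_eq G P S
  have hRy : R.map (MulAut.conj y).toMonoidHom ≤ S := by
    rw [← hy, coe_smul_sylow]
    exact Subgroup.map_mono hRP
  have hWT : W ≤ T := le_inf hWS Subgroup.le_normalizer
  have hW' : W.map (MulAut.conj y).toMonoidHom ∈ 𝒞 := by
    refine ⟨(Subgroup.map_mono (hWT.trans hTR)).trans hRy, y * c, ?_⟩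
    rw [← map_conj_conj, hc]
  have h1 : R.map (MulAut.conj y).toMonoidHom ≤
      (S : Subgroup G) ⊓ Subgroup.normalizer ((W.map (MulAut.conj y).toMonoidHom : Subgroup G) : Set G) := by
    refine le_inf hRy ?_
    rw [← map_conj_normalizer]
    exact Subgroup.map_mono hR.le
  have h2 := hmax _ hW'
  have h3 : Nat.card R ≤ Nat.card T := by
    calc Nat.card R = Nat.card (R.map (MulAut.conj y).toMonoidHom) := (card_map_conj R y).symm
      _ ≤ _ := Subgroup.card_le_of_le h1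
      _ ≤ _ := h2
  have h4 : T = R := Subgroup.eq_of_le_of_card_ge hTR h3
  rw [h4]
  exact hR

theorem exists_transport {S W U' : Subgroup G} (hT : IsSylowIn p (S ⊓ Subgroup.normalizer (W : Set G))
    (Subgroup.normalizer (W : Set G))) (hSp : IsPGroup p S) {u₀ : G}
    (hu₀ : U'.map (MulAut.conj u₀).toMonoidHom = W) :
    ∃ x : G, U'.map (MulAut.conj x).toMonoidHom = W ∧
      (S ⊓ Subgroup.normalizer (U' : Set G)).map (MulAut.conj x).toMonoidHom ≤ S := by
  set P := S ⊓ Subgroup.normalizer (U' : Set G) with hP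
  have hPp : IsPGroup p (P.map (MulAut.conj u₀).toMonoidHom) := (hSp.to_le inf_le_left).map _
  have hPN : P.map (MulAut.conj u₀).toMonoidHom ≤ Subgroup.normalizer (W : Set G) := by
    rw [← hu₀, ← map_conj_normalizer]
    exact Subgroup.map_mono inf_le_right
  obtain ⟨S', hS', hS'syl⟩ := exists_isSylowIn_of_le hPp hPN
  obtain ⟨l, hl, hlT⟩ := hS'syl.exists_conj hT
  refine ⟨l * u₀, ?_, ?_⟩
  · rw [← map_conj_conj, hu₀]
    exact mem_normalizer_iff_conj.mp hl
  · rw [← map_conj_conj]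
    refine (Subgroup.map_mono hS').trans ?_
    rw [hlT]
    exact inf_le_left

theorem exists_mem_inf_not_mem (hA : IsStronglyClosed A S) (hSp : IsPGroup p S) (hW : W ≤ S)
    (hAW : ¬ A ≤ W) :
    ∃ a ∈ A ⊓ (S ⊓ Subgroup.normalizer (W : Set G)), a ∉ W := by
  have hAS := hA.1
  have hAn : S ≤ Subgroup.normalizer (A : Set G) := by
    intro s hs
    apply mem_normalizer_of_map_conj_le
    rintro _ ⟨a, ha, rfl⟩
    exact hA.2 a ha s (S.mul_mem (S.mul_mem hs (hAS ha)) (S.inv_mem hs))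
  have hle : A ⊔ W ≤ S := sup_le hAS hW
  have hWne : W ≠ A ⊔ W := by
    intro he
    apply hAW
    rw [he]
    exact le_sup_left
  obtain ⟨s, hs, hsW, hsN⟩ := exists_mem_normalizer (hSp.to_le hle) le_sup_right hWne
  obtain ⟨a, ha, w, hw, rfl⟩ := exists_mul_of_mem_sup (hW.trans hAn) hs
  have haW : a ∉ W := fun h => hsW (W.mul_mem h hw)
  have haN : a ∈ Subgroup.normalizer (W : Set G) := by
    have := Subgroup.mul_mem _ hsN (Subgroup.inv_mem _ (Subgroup.le_normalizer hw))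
    simpa using this
  exact ⟨a, ⟨ha, hAS ha, haN⟩, haW⟩

/-- **The induction**. -/
theorem good_main (S : Sylow p G) (hA : ∀ a ∈ A, ∀ b ∈ A, a * b = b * a)
    (hsc : IsStronglyClosed A (S : Subgroup G)) (n : ℕ) :
    ∀ U : Subgroup G, U ≤ S → Nat.card S - Nat.card U ≤ n → ∀ g : G,
      U.map (MulAut.conj g).toMonoidHom ≤ S →
      ∃ x ∈ Subgroup.normalizer (A : Set G), ∀ u ∈ U, g * u * g⁻¹ = x * u * x⁻¹ := by
  have hSp : IsPGroup p (S : Subgroup G) := S.isPGroup'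
  have htop : ∀ g : G, (S : Subgroup G).map (MulAut.conj g).toMonoidHom ≤ S →
      g ∈ Subgroup.normalizer (A : Set G) := by
    intro g hg
    apply mem_normalizer_of_map_conj_le
    rintro _ ⟨a, ha, rfl⟩
    exact hsc.2 a ha g (hg ⟨a, hsc.1 ha, rfl⟩)
  induction n with
  | zero =>
    intro U hU hn g hg
    have hUS : U = S := Subgroup.eq_of_le_of_card_ge hU (by omega)
    subst hUS
    exact ⟨g, htop g hg, fun _ _ => rfl⟩
  | succ n ih =>
    intro U hU hn g hg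
    by_cases hUS : U = S
    · subst hUS
      exact ⟨g, htop g hg, fun _ _ => rfl⟩
    have hcardle : ∀ U' : Subgroup G, U' ≤ S → Nat.card U' ≤ Nat.card S := fun U' h =>
      Subgroup.card_le_of_le h
    have IH : ∀ U' : Subgroup G, U' ≤ S → Nat.card U < Nat.card U' → ∀ g' : G,
        U'.map (MulAut.conj g').toMonoidHom ≤ S →
        ∃ x ∈ Subgroup.normalizer (A : Set G), ∀ u ∈ U', g' * u * g'⁻¹ = x * u * x⁻¹ := by
      intro U' hU' hlt g' hg'
      exact ih U' hU' (by have := hcardle U' hU'; omega) g' hg'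
    have hlt_norm : ∀ U' : Subgroup G, U' ≤ S → U' ≠ S → Nat.card U' = Nat.card U →
        Nat.card U < Nat.card ↥((S : Subgroup G) ⊓ Subgroup.normalizer (U' : Set G)) := by
      intro U' hU' hne hc
      obtain ⟨s, hs, hsU, hsN⟩ := exists_mem_normalizer hSp hU' hne
      rw [← hc]
      apply card_lt_of_lt'
      refine lt_of_le_of_ne (le_inf hU' Subgroup.le_normalizer) ?_
      intro he
      apply hsU
      rw [he]
      exact ⟨hs, hsN⟩
    set V := U.map (MulAut.conj g).toMonoidHom with hV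
    have hVc : Nat.card V = Nat.card U := card_map_conj U g
    have hVne : V ≠ S := by
      intro he
      have h1 := hVc
      rw [he] at h1
      exact hUS (Subgroup.eq_of_le_of_card_ge hU h1.le)
    obtain ⟨W, c, hWS, hWc, hT⟩ := exists_fully_normalized S hU
    have hWcard : Nat.card W = Nat.card U := by rw [← hWc, card_map_conj]
    obtain ⟨x, hxW, hxP⟩ := exists_transport hT hSp hWc
    obtain ⟨x₁, hx₁A, hx₁⟩ := IH _ inf_le_left (hlt_norm U hU hUS rfl) x hxP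
    have hVW : V.map (MulAut.conj (c * g⁻¹)).toMonoidHom = W := by
      rw [hV, map_conj_conj]
      simpa using hWc
    obtain ⟨y, hyW, hyP⟩ := exists_transport hT hSp hVW
    obtain ⟨y₁, hy₁A, hy₁⟩ := IH _ inf_le_left (hlt_norm V hg hVne hVc) y hyP
    set n₀ := y * g * x⁻¹ with hn₀
    have hn₀N : n₀ ∈ Subgroup.normalizer (W : Set G) := by
      apply mem_normalizer_iff_conj.mpr
      have e2 : n₀ * x = y * g := by rw [hn₀]; group
      calc W.map (MulAut.conj n₀).toMonoidHom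
          = (U.map (MulAut.conj x).toMonoidHom).map (MulAut.conj n₀).toMonoidHom := by rw [hxW]
        _ = U.map (MulAut.conj (n₀ * x)).toMonoidHom := map_conj_conj _ _ _
        _ = U.map (MulAut.conj (y * g)).toMonoidHom := by rw [e2]
        _ = (U.map (MulAut.conj g).toMonoidHom).map (MulAut.conj y).toMonoidHom :=
            (map_conj_conj _ _ _).symm
        _ = W := hyW
    -- elements of `N(A)` acting as `n₀` on `W`
    obtain ⟨n₁, hn₁A, hn₁⟩ : ∃ n₁ ∈ Subgroup.normalizer (A : Set G),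
        ∀ w ∈ W, n₀ * w * n₀⁻¹ = n₁ * w * n₁⁻¹ := by
      by_cases hAW : A ≤ W
      · refine ⟨n₀, ?_, fun _ _ => rfl⟩
        apply mem_normalizer_of_map_conj_le
        rintro _ ⟨a, ha, rfl⟩
        exact hsc.2 a ha n₀ (hWS ((Subgroup.mem_normalizer_iff.mp hn₀N a).mp (hAW ha)))
      · obtain ⟨h, hhN, hhB, hhw⟩ := exists_normalizer_action hA hsc hSp hWS hT hn₀N
        obtain ⟨a, haB, haW⟩ := exists_mem_inf_not_mem hsc hSp hWS hAW
        set B := A ⊓ ((S : Subgroup G) ⊓ Subgroup.normalizer (W : Set G)) with hB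
        have hW'S : W ⊔ B ≤ S := sup_le hWS (inf_le_right.trans inf_le_left)
        have hlt : Nat.card U < Nat.card ↥(W ⊔ B) := by
          rw [← hWcard]
          apply card_lt_of_lt'
          refine lt_of_le_of_ne le_sup_left ?_
          intro he
          apply haW
          rw [he]
          exact (le_sup_right : B ≤ W ⊔ B) haB
        have hhW' : h ∈ Subgroup.normalizer ((W ⊔ B : Subgroup G) : Set G) := by
          apply mem_normalizer_iff_conj.mpr
          rw [Subgroup.map_sup, mem_normalizer_iff_conj.mp hhN, mem_normalizer_iff_conj.mp hhB]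
        obtain ⟨n₁, hn₁A, hn₁⟩ := IH _ hW'S hlt h (by
          rw [mem_normalizer_iff_conj.mp hhW']
          exact hW'S)
        refine ⟨n₁, hn₁A, fun w hw => ?_⟩
        rw [← hhw w hw]
        exact hn₁ w ((le_sup_left : W ≤ W ⊔ B) hw)
    refine ⟨y₁⁻¹ * n₁ * x₁, mul_mem (mul_mem (inv_mem hy₁A) hn₁A) hx₁A, fun u hu => ?_⟩
    have hP : u ∈ (S : Subgroup G) ⊓ Subgroup.normalizer (U : Set G) :=
      ⟨hU hu, Subgroup.le_normalizer hu⟩
    have h1 := hx₁ u hP
    have hw : x * u * x⁻¹ ∈ W := by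
      rw [← hxW]
      exact ⟨u, hu, rfl⟩
    have h2 := hn₁ _ hw
    have hv : g * u * g⁻¹ ∈ (S : Subgroup G) ⊓ Subgroup.normalizer (V : Set G) :=
      ⟨hg ⟨u, hu, rfl⟩, Subgroup.le_normalizer ⟨u, hu, rfl⟩⟩
    have h3 := hy₁ _ hv
    have h4 : n₀ * (x * u * x⁻¹) * n₀⁻¹ = y * (g * u * g⁻¹) * y⁻¹ := by
      rw [hn₀]; group
    rw [h4, h3, h1] at h2
    have h5 : g * u * g⁻¹ = y₁⁻¹ * (y₁ * (g * u * g⁻¹) * y₁⁻¹) * y₁ := by group
    rw [h5, h2]
    group

/-- **S2791 engine**. -/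
theorem controlsStrongFusion (S : Sylow p G) (hA : IsMulCommutative ↥A)
    (hsc : IsStronglyClosed A (S : Subgroup G)) : ControlsStrongFusion p A := by
  have hcomm : ∀ a ∈ A, ∀ b ∈ A, a * b = b * a := by
    intro a ha b hb
    have := mul_comm' (⟨a, ha⟩ : A) ⟨b, hb⟩
    exact congrArg Subtype.val this
  refine ⟨S, hsc.1, fun X hX => ⟨hX, fun g hg => ?_⟩⟩
  have hU : Subgroup.closure X ≤ S := (Subgroup.closure_le _).mpr hX
  have hgU : (Subgroup.closure X).map (MulAut.conj g).toMonoidHom ≤ S := by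
    rw [MonoidHom.map_closure, Subgroup.closure_le]
    rintro _ ⟨a, ha, rfl⟩
    exact hg ⟨a, ha, rfl⟩
  obtain ⟨x, hx, hxu⟩ := good_main S hcomm hsc _ (Subgroup.closure X) hU le_rfl g hgU
  exact ⟨x, hx, fun a ha => hxu a (Subgroup.subset_closure ha)⟩

end main

end StrongClosed

end Cfsg.Agent.Lib.Amalgam
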