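import Cfsg.Agent.Lib.Amalgam.Large
import Cfsg.Agent.Lib.Amalgam.ResOf
import Cfsg.Agent.Lib.Amalgam.NormMap
import Cfsg.Agent.Lib.Amalgam.Asym
import Cfsg.Agent.Lib.Amalgam.ParaChar
import Cfsg.Agent.Lib.Transfer.Basic

/-!
# Weak closure in a product of two normal subgroups
-/

set_option autoImplicit false
set_option linter.unusedSectionVars false

namespace Cfsg.Agent.Lib.Amalgam

open Cfsg Subgroup
open scoped commutatorElement

variable {G : Type*} [Group G] [Finite G] {p : ℕ} [hp : Fact p.Prime]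

/-- `O^p(X)` in the ambient group. -/
abbrev rsP (p : ℕ) (X : Subgroup G) : Subgroup G := (pResidual p X).map X.subtype

theorem rsP_le_of_pow_mem {E N : Subgroup G} (h : ∀ e ∈ E, ∃ k : ℕ, e ^ (p ^ k) ∈ N) : rsP p E ≤ N := by
  unfold rsP
  rw [map_pResidual_eq_closure, Subgroup.closure_le]
  rintro g ⟨hg, hc⟩
  obtain ⟨k, hk⟩ := h g hg
  exact mem_of_pow_coprime (hc.pow_right k) hk

theorem pow_mem_of_le_sup {R Q E : Subgroup G} (hQ : IsPGroup p Q)
    (hQR : Q ≤ normalizer (R : Set G)) (hE : E ≤ R ⊔ Q) : ∀ e ∈ E, ∃ k : ℕ, e ^ (p ^ k) ∈ R := by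
  intro e he
  obtain ⟨r, hr, q, hq, rfl⟩ := Cfsg.Agent.Lib.FF.exists_mul_of_mem_sup hQR (hE he)
  obtain ⟨k, hk⟩ := hQ ⟨q, hq⟩
  refine ⟨k, ?_⟩
  have hk' : q ^ (p ^ k) = 1 := by simpa using congrArg Subtype.val hk
  have key : ∀ n : ℕ, (r * q) ^ n * (q ^ n)⁻¹ ∈ R := by
    intro n
    induction n with
    | zero => simp
    | succ n ih =>
      have e1 : (r * q) ^ (n + 1) * (q ^ (n + 1))⁻¹ =
          ((r * q) ^ n * (q ^ n)⁻¹) * (q ^ n * r * (q ^ n)⁻¹) := by
        rw [pow_succ, pow_succ]; group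
      rw [e1]
      exact R.mul_mem ih ((mem_normalizer_iff.mp (Subgroup.pow_mem _ (hQR hq) n) r).mp hr)
  have := key (p ^ k)
  rwa [hk', inv_one, mul_one] at this

theorem pow_mem_rsP {E : Subgroup G} : ∀ e ∈ E, ∃ k : ℕ, e ^ (p ^ k) ∈ rsP p E := by
  intro e he
  haveI := Cfsg.Agent.Lib.Techniques.pResidual_normal (↥E) p
  obtain ⟨k, hk⟩ := (Cfsg.Agent.Lib.Transfer.isPGroup_quotient_pResidual (G := ↥E) (p := p))
    (QuotientGroup.mk' _ (⟨e, he⟩ : E))
  refine ⟨k, ⟨⟨e, he⟩ ^ (p ^ k), ?_, by simp⟩⟩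
  rw [← map_pow] at hk
  exact (QuotientGroup.eq_one_iff _).mp hk

theorem rsP_rsP {E : Subgroup G} : rsP p (rsP p E) = rsP p E := by
  apply le_antisymm map_pResidual_le
  show (pResidual p E).map E.subtype ≤ _
  rw [map_pResidual_eq_closure, Subgroup.closure_le]
  rintro g ⟨hg, hc⟩
  exact mem_map_pResidual_of_coprime (mem_map_pResidual_of_coprime hg hc) hc

theorem le_normalizer_rsP (E : Subgroup G) : E ≤ normalizer ((rsP p E : Subgroup G) : Set G) :=
  Subgroup.le_normalizer.trans le_normalizer_map_pResidual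

theorem le_normalizer_rsP_of {X E : Subgroup G} (h : X ≤ normalizer (E : Set G)) :
    X ≤ normalizer ((rsP p E : Subgroup G) : Set G) :=
  h.trans le_normalizer_map_pResidual

/-- A subgroup whose normal closure modulo `K` is everything generates modulo the `p`-quotient. -/
theorem le_sup_of_normal_gen {E K Q : Subgroup G} (hQE : Q ≤ E) (hKE : K ≤ E)
    (hEK : E ≤ normalizer (K : Set G)) (hp' : ∀ e ∈ E, ∃ k : ℕ, e ^ (p ^ k) ∈ K)
    (hgen : ∀ M : Subgroup G, K ≤ M → Q ≤ M → M ≤ E → E ≤ normalizer (M : Set G) → E ≤ M) :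
    E ≤ K ⊔ Q := by
  haveI hN : (K.subgroupOf E).Normal := subgroupOf_normal_of_le_normalizer hEK
  have hP : IsPGroup p (↥E ⧸ K.subgroupOf E) := by
    intro x
    obtain ⟨e, rfl⟩ := QuotientGroup.mk'_surjective _ x
    obtain ⟨k, hk⟩ := hp' e e.2
    refine ⟨k, ?_⟩
    rw [← map_pow]
    exact (QuotientGroup.eq_one_iff _).mpr (by rw [mem_subgroupOf]; simpa using hk)
  haveI : Group.IsNilpotent (↥E ⧸ K.subgroupOf E) := hP.isNilpotent
  set R := (Q.subgroupOf E).map (QuotientGroup.mk' (K.subgroupOf E)) with hR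
  have hRtop : R = ⊤ := by
    by_contra hne
    obtain ⟨M, hM, hRM⟩ := (eq_top_or_exists_le_coatom R).resolve_left hne
    have hMn : M.Normal := (normalizerCondition_of_isNilpotent).normal_of_coatom M hM
    have h1 : E ≤ (M.comap (QuotientGroup.mk' (K.subgroupOf E))).map E.subtype := by
      apply hgen
      · intro k hk
        refine ⟨⟨k, hKE hk⟩, ?_, rfl⟩
        show QuotientGroup.mk' (K.subgroupOf E) ⟨k, hKE hk⟩ ∈ M
        have : QuotientGroup.mk' (K.subgroupOf E) ⟨k, hKE hk⟩ = 1 :=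
          (QuotientGroup.eq_one_iff _).mpr (by rw [mem_subgroupOf]; exact hk)
        rw [this]
        exact M.one_mem
      · intro q hq
        refine ⟨⟨q, hQE hq⟩, ?_, rfl⟩
        show QuotientGroup.mk' (K.subgroupOf E) ⟨q, hQE hq⟩ ∈ M
        exact hRM ⟨⟨q, hQE hq⟩, mem_subgroupOf.mpr hq, rfl⟩
      · exact Subgroup.map_subtype_le _
      · intro e he
        rw [mem_normalizer_iff]
        intro x
        have hMc := hMn.comap (QuotientGroup.mk' (K.subgroupOf E))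
        constructor
        · rintro ⟨y, hy, rfl⟩
          exact ⟨(⟨e, he⟩ : E) * y * (⟨e, he⟩ : E)⁻¹, hMc.conj_mem y hy _, rfl⟩
        · rintro ⟨y, hy, hyx⟩
          refine ⟨(⟨e, he⟩ : E)⁻¹ * y * (⟨e, he⟩ : E)⁻¹⁻¹, hMc.conj_mem y hy _, ?_⟩
          have hyx' : (y : G) = e * x * e⁻¹ := hyx
          show e⁻¹ * (y : G) * e⁻¹⁻¹ = x
          rw [hyx']
          group
    apply hM.1
    rw [eq_top_iff]
    intro x _
    obtain ⟨e, rfl⟩ := QuotientGroup.mk'_surjective _ x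
    obtain ⟨e', he', heq⟩ := h1 e.2
    have : e' = e := Subtype.ext heq
    rw [← this]
    exact he'
  intro e he
  have hm : QuotientGroup.mk' (K.subgroupOf E) ⟨e, he⟩ ∈ R := by rw [hRtop]; trivial
  obtain ⟨q, hq, hqe⟩ := hm
  have h2 : q⁻¹ * ⟨e, he⟩ ∈ K.subgroupOf E := by
    rw [← QuotientGroup.eq_one_iff (N := K.subgroupOf E)]
    have h3 : ((q⁻¹ * ⟨e, he⟩ : E) : ↥E ⧸ K.subgroupOf E) =
        QuotientGroup.mk' (K.subgroupOf E) (q⁻¹ * ⟨e, he⟩) := rfl
    rw [h3, map_mul, map_inv, ← hqe, inv_mul_cancel]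
  rw [mem_subgroupOf] at h2
  have h4 : e = (q : G) * ((q⁻¹ * ⟨e, he⟩ : E) : G) := by simp
  rw [h4, sup_comm]
  exact Subgroup.mul_mem_sup hq h2

/-- `A` normalizes `[A, B]`. -/
theorem le_normalizer_commutator_self (A B : Subgroup G) : A ≤ normalizer ((⁅A, B⁆ : Subgroup G) : Set G) := by
  intro x hx
  apply mem_normalizer_of_map_conj_le
  rw [Subgroup.map_le_iff_le_comap, Subgroup.commutator_le]
  intro a ha b hb
  show x * ⁅a, b⁆ * x⁻¹ ∈ ⁅A, B⁆
  have e : x * ⁅a, b⁆ * x⁻¹ = ⁅x * a, b⁆ * ⁅x, b⁆⁻¹ := by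
    simp only [commutatorElement_def]; group
  rw [e]
  exact Subgroup.mul_mem _ (Subgroup.commutator_mem_commutator (A.mul_mem hx ha) hb)
    (Subgroup.inv_mem _ (Subgroup.commutator_mem_commutator hx hb))

section Weak

variable {Q : Subgroup G} (hQ : IsPGroup p Q) (hwc : IsWeaklyClosedSubgroup p Q)

include hQ hwc in
theorem wc_le_of_normalized {X M : Subgroup G} (hQX : Q ≤ X) (hQM : Q ≤ M)
    (hM : weakClosure Q X ≤ normalizer (M : Set G)) : weakClosure Q X ≤ M := by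
  apply iSup_le
  rintro ⟨g, hg⟩
  have hE := conj_le_weakClosure hg
  obtain ⟨e, he, hee⟩ := wc_exists_conj hQ hwc (self_le_weakClosure hQX) hE
  show Q.map (MulAut.conj g).toMonoidHom ≤ M
  rw [hee]
  rintro _ ⟨q, hq, rfl⟩
  exact (mem_normalizer_iff.mp (hM he) q).mp (hQM hq)

theorem le_normalizer_weakClosure (Q X : Subgroup G) : X ≤ normalizer ((weakClosure Q X : Subgroup G) : Set G) := by
  intro x hx
  apply mem_normalizer_of_map_conj_le
  unfold weakClosure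
  rw [Subgroup.map_iSup]
  apply iSup_le
  rintro ⟨g, hg⟩
  show (Q.map (MulAut.conj g).toMonoidHom).map (MulAut.conj x).toMonoidHom ≤ _
  rw [map_conj_conj]
  refine conj_le_weakClosure (L := X) ?_
  rw [← map_conj_conj, ← map_conj_self hx]
  exact map_conj_mono x hg

include hQ hwc in
/-- `E = O^p(E) Q`. -/
theorem wc_le_rsP_sup {X : Subgroup G} (hQX : Q ≤ X) :
    weakClosure Q X ≤ rsP p (weakClosure Q X) ⊔ Q := by
  apply le_sup_of_normal_gen (p := p) (self_le_weakClosure hQX) map_pResidual_le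
    (le_normalizer_rsP _) pow_mem_rsP
  intro M _ hQM _ hM
  exact wc_le_of_normalized hQ hwc hQX hQM hM

include hQ hwc in
/-- `[O^p(E), Q] = O^p(E)`. -/
theorem wc_commutator_eq {X : Subgroup G} (hQX : Q ≤ X) :
    ⁅rsP p (weakClosure Q X), Q⁆ = rsP p (weakClosure Q X) := by
  set E := weakClosure Q X with hE
  set K := rsP p E with hK
  have hQE : Q ≤ E := self_le_weakClosure hQX
  have hKE : K ≤ E := map_pResidual_le
  have hEK : E ≤ normalizer (K : Set G) := le_normalizer_rsP _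
  have hQK : Q ≤ normalizer (K : Set G) := hQE.trans hEK
  set R := ⁅K, Q⁆ with hR
  have hRK : R ≤ K := commutator_le_left_of_normalizer hQK
  apply le_antisymm hRK
  have hKR : K ≤ normalizer (R : Set G) := le_normalizer_commutator_self K Q
  have hQR : Q ≤ normalizer (R : Set G) := le_normalizer_commutator hQK Subgroup.le_normalizer
  have hEN : E ≤ normalizer ((R ⊔ Q : Subgroup G) : Set G) := by
    refine (wc_le_rsP_sup hQ hwc hQX).trans (sup_le ?_ ?_)
    · intro k hk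
      apply mem_normalizer_of_map_conj_le
      rw [Subgroup.map_sup]
      apply sup_le
      · have h1 : R.map (MulAut.conj k).toMonoidHom = R := Cfsg.Agent.Lib.FF.mem_normalizer_iff_conj.mp (hKR hk)
        rw [h1]
        exact le_sup_left
      · rintro _ ⟨q, hq, rfl⟩
        show k * q * k⁻¹ ∈ R ⊔ Q
        have e : k * q * k⁻¹ = ⁅k, q⁆ * q := by
          simp only [commutatorElement_def]; group
        rw [e]
        exact Subgroup.mul_mem_sup (Subgroup.commutator_mem_commutator hk hq) hq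
    · exact le_normalizer_sup hQR Subgroup.le_normalizer
  have hEle : E ≤ R ⊔ Q := wc_le_of_normalized hQ hwc hQX le_sup_right hEN
  exact rsP_le_of_pow_mem (pow_mem_of_le_sup hQ hQR hEle)

include hQ in
theorem wc_rsP_le {H : Subgroup G} (hQH : Q ≤ normalizer (H : Set G)) :
    rsP p (weakClosure Q (H ⊔ Q)) ≤ H :=
  rsP_le_of_pow_mem (pow_mem_of_le_sup hQ hQH (weakClosure_le_self _ _))

include hQ hwc in
/-- `[O^p(E), H] = O^p(E)`. -/
theorem wc_commutator_H {Hc H H' : Subgroup G} (hQHc : Q ≤ Hc) (hH : Hc ≤ normalizer (H : Set G))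
    (hH' : Hc ≤ normalizer (H' : Set G)) (hHc : H ≤ Hc) (hH'c : H' ≤ Hc) (hprod : H ⊔ H' = Hc)
    (hcomm : ⁅H, H'⁆ ≤ normalizer (Q : Set G)) :
    ⁅rsP p (weakClosure Q (H ⊔ Q)), H⁆ = rsP p (weakClosure Q (H ⊔ Q)) := by
  have hQX : Q ≤ H ⊔ Q := le_sup_right
  have hQH : Q ≤ normalizer (H : Set G) := hQHc.trans hH
  have hKcomm := wc_commutator_eq hQ hwc hQX
  have hKH := wc_rsP_le (p := p) hQ hQH
  have hXK : H ⊔ Q ≤ normalizer ((rsP p (weakClosure Q (H ⊔ Q)) : Subgroup G) : Set G) :=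
    le_normalizer_rsP_of (le_normalizer_weakClosure Q _)
  have hEK := wc_le_rsP_sup hQ hwc hQX
  set E := weakClosure Q (H ⊔ Q) with hE
  set K := rsP p E with hK
  have hHN : H ≤ normalizer (K : Set G) := le_sup_left.trans hXK
  have hQK : Q ≤ normalizer (K : Set G) := le_sup_right.trans hXK
  set R := ⁅K, H⁆ with hR
  have hRK : R ≤ K := commutator_le_left_of_normalizer hHN
  apply le_antisymm hRK
  have hHR : H ≤ normalizer (R : Set G) := le_normalizer_commutator hHN Subgroup.le_normalizer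
  have hQR : Q ≤ normalizer (R : Set G) := le_normalizer_commutator hQK hQH
  have hKR : K ≤ normalizer (R : Set G) := hKH.trans hHR
  have hHcC : Hc ≤ normalizer ((⁅H, H'⁆ : Subgroup G) : Set G) := le_normalizer_commutator hH hH'
  have hKT : K ≤ R ⊔ (K ⊓ normalizer (Q : Set G)) := by
    refine hKcomm.ge.trans ?_
    rw [Subgroup.commutator_le]
    intro k hk q hq
    have hq' : q ∈ H ⊔ H' := by rw [hprod]; exact hQHc hq
    obtain ⟨h₁, hh₁, h₂, hh₂, rfl⟩ := Cfsg.Agent.Lib.FF.exists_mul_of_mem_sup (hH'c.trans hH) hq'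
    have e : ⁅k, h₁ * h₂⁆ = ⁅k, h₁⁆ * (h₁ * ⁅k, h₂⁆ * h₁⁻¹) := by
      simp only [commutatorElement_def]; group
    have hr : ⁅k, h₁⁆ ∈ R := Subgroup.commutator_mem_commutator hk hh₁
    have hc1 : h₁ * ⁅k, h₂⁆ * h₁⁻¹ ∈ ⁅H, H'⁆ :=
      (mem_normalizer_iff.mp (hHcC (hHc hh₁)) _).mp (Subgroup.commutator_mem_commutator (hKH hk) hh₂)
    have hc2 : h₁ * ⁅k, h₂⁆ * h₁⁻¹ ∈ K := by
      have h3 : ⁅k, h₁ * h₂⁆ ∈ K := by
        have h4 : ⁅k, h₁ * h₂⁆ ∈ ⁅K, Q⁆ := Subgroup.commutator_mem_commutator hk hq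
        rwa [hKcomm] at h4
      have h5 : h₁ * ⁅k, h₂⁆ * h₁⁻¹ = ⁅k, h₁⁆⁻¹ * ⁅k, h₁ * h₂⁆ := by
        rw [e]; group
      rw [h5]
      exact K.mul_mem (K.inv_mem (hRK hr)) h3
    rw [e]
    exact Subgroup.mul_mem_sup hr (Subgroup.mem_inf.mpr ⟨hc2, hcomm hc1⟩)
  have hRN : R ≤ normalizer ((R ⊔ Q : Subgroup G) : Set G) := by
    intro r hr
    apply mem_normalizer_of_map_conj_le
    rw [Subgroup.map_sup]
    apply sup_le
    · rw [map_conj_self hr]
      exact le_sup_left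
    · rintro _ ⟨q, hq, rfl⟩
      show r * q * r⁻¹ ∈ R ⊔ Q
      have e : r * q * r⁻¹ = ⁅r, q⁆ * q := by
        simp only [commutatorElement_def]; group
      rw [e]
      exact Subgroup.mul_mem_sup (commutator_le_left_of_normalizer hQR
        (Subgroup.commutator_mem_commutator hr hq)) hq
  have hEN : E ≤ normalizer ((R ⊔ Q : Subgroup G) : Set G) := by
    refine hEK.trans (sup_le (hKT.trans (sup_le hRN ?_)) ?_)
    · exact le_normalizer_sup (inf_le_left.trans hKR) inf_le_right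
    · exact le_normalizer_sup hQR Subgroup.le_normalizer
  have hEle : E ≤ R ⊔ Q := wc_le_of_normalized hQ hwc hQX le_sup_right hEN
  exact rsP_le_of_pow_mem (pow_mem_of_le_sup hQ hQR hEle)

end Weak

/-- Three subgroups modulo a normal subgroup. -/
theorem three_mod {Hc U V W A : Subgroup G} (hU : U ≤ Hc) (hV : V ≤ Hc) (hW : W ≤ Hc) (hA : A ≤ Hc)
    (hAn : Hc ≤ normalizer (A : Set G)) (h1 : ⁅⁅V, W⁆, U⁆ ≤ A) (h2 : ⁅⁅W, U⁆, V⁆ ≤ A) :
    ⁅⁅U, V⁆, W⁆ ≤ A := by
  haveI hN : (A.subgroupOf Hc).Normal := subgroupOf_normal_of_le_normalizer hAn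
  have key : ∀ X Y Z : Subgroup G, X ≤ Hc → Y ≤ Hc → Z ≤ Hc →
      (⁅⁅X.subgroupOf Hc, Y.subgroupOf Hc⁆, Z.subgroupOf Hc⁆).map Hc.subtype = ⁅⁅X, Y⁆, Z⁆ := by
    intro X Y Z hX hY hZ
    rw [Subgroup.map_commutator, Subgroup.map_commutator, Subgroup.map_subgroupOf_eq_of_le hX,
      Subgroup.map_subgroupOf_eq_of_le hY, Subgroup.map_subgroupOf_eq_of_le hZ]
  have key2 : ∀ X Y Z : Subgroup G, X ≤ Hc → Y ≤ Hc → Z ≤ Hc → ⁅⁅X, Y⁆, Z⁆ ≤ A →
      ⁅⁅(X.subgroupOf Hc).map (QuotientGroup.mk' (A.subgroupOf Hc)),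
        (Y.subgroupOf Hc).map (QuotientGroup.mk' (A.subgroupOf Hc))⁆,
        (Z.subgroupOf Hc).map (QuotientGroup.mk' (A.subgroupOf Hc))⁆ = ⊥ := by
    intro X Y Z hX hY hZ h
    rw [← Subgroup.map_commutator, ← Subgroup.map_commutator, Subgroup.map_eq_bot_iff,
      QuotientGroup.ker_mk']
    intro x hx
    rw [mem_subgroupOf]
    apply h
    rw [← key X Y Z hX hY hZ]
    exact ⟨x, hx, rfl⟩
  have h3 := Subgroup.commutator_commutator_eq_bot_of_rotate (key2 V W U hV hW hU h1) (key2 W U V hW hU hV h2)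
  rw [← Subgroup.map_commutator, ← Subgroup.map_commutator, Subgroup.map_eq_bot_iff,
    QuotientGroup.ker_mk'] at h3
  rw [← key U V W hU hV hW]
  rintro _ ⟨x, hx, rfl⟩
  exact h3 hx

section Prod

variable {Q : Subgroup G} (hQ : IsPGroup p Q) (hwc : IsWeaklyClosedSubgroup p Q)

/-- Properties of `O_p([H₁, H₂])` inside the normal closure of `Q`. -/
theorem commutator_le_pCoreOf_sq {H H' : Subgroup G}
    (hQ : IsPGroup p Q) (hwc : IsWeaklyClosedSubgroup p Q)
    (hH : weakClosure Q ⊤ ≤ normalizer (H : Set G)) (hH' : weakClosure Q ⊤ ≤ normalizer (H' : Set G))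
    (hHc : H ≤ weakClosure Q ⊤) (hH'c : H' ≤ weakClosure Q ⊤)
    (hcomm : ⁅H, H'⁆ ≤ normalizer (Q : Set G)) :
    ⁅⁅H, H⁆, H'⁆ ≤ pCoreOf p ⁅H, H'⁆ := by
  set Hc := weakClosure Q ⊤ with hHcdef
  set C := ⁅H, H'⁆ with hC
  have hQHc : Q ≤ Hc := self_le_weakClosure le_top
  have hHcC : Hc ≤ normalizer (C : Set G) := le_normalizer_commutator hH hH'
  have hCHc : C ≤ Hc := (commutator_le_left_of_normalizer (hH'c.trans hH)).trans hHc
  have hAn : Hc ≤ normalizer ((pCoreOf p C : Subgroup G) : Set G) :=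
    hHcC.trans (normalizer_le_normalizer_pCoreOf C)
  have hAle : pCoreOf p C ≤ Hc := (pCoreOf_le_self C).trans hCHc
  have hCg : ∀ g : G, C ≤ normalizer ((Q.map (MulAut.conj g).toMonoidHom : Subgroup G) : Set G) := by
    intro g
    obtain ⟨h, hh, hg⟩ := wc_exists_conj hQ hwc hQHc (conj_le_weakClosure (L := ⊤) (g := g) le_top)
    rw [hg, ← map_conj_normalizer, ← Cfsg.Agent.Lib.FF.mem_normalizer_iff_conj.mp (hHcC hh)]
    exact map_conj_mono h hcomm
  have hCA : ∀ g : G, ⁅C, Q.map (MulAut.conj g).toMonoidHom⁆ ≤ pCoreOf p C := by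
    intro g
    have h1 : ⁅C, Q.map (MulAut.conj g).toMonoidHom⁆ ≤ C ⊓ Q.map (MulAut.conj g).toMonoidHom :=
      commutator_le_inf_of_mutual (hCg g) ((conj_le_weakClosure (L := ⊤) (g := g) le_top).trans hHcC)
    refine h1.trans ?_
    apply le_pCoreOf_of_normal ((hQ.map _).to_le inf_le_right) inf_le_left
    exact le_normalizer_inf Subgroup.le_normalizer (hCg g)
  have hCHcA : ⁅C, Hc⁆ ≤ pCoreOf p C := by
    have h1 : Hc ≤ commStab C (pCoreOf p C) := by
      apply iSup_le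
      rintro ⟨g, hg⟩
      intro l hl
      refine ⟨hAn (conj_le_weakClosure (L := ⊤) (g := g) le_top hl), fun z hz => ?_⟩
      exact hCA g (Subgroup.commutator_mem_commutator hz hl)
    rw [Subgroup.commutator_le]
    intro z hz l hl
    exact (h1 hl).2 z hz
  apply three_mod hHc hHc hH'c hAle hAn
  · exact (Subgroup.commutator_mono le_rfl hHc).trans hCHcA
  · rw [Subgroup.commutator_comm H' H]
    exact (Subgroup.commutator_mono le_rfl hHc).trans hCHcA

include hQ hwc in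
theorem wc_part {H H' : Subgroup G}
    (hH : weakClosure Q ⊤ ≤ normalizer (H : Set G)) (hH' : weakClosure Q ⊤ ≤ normalizer (H' : Set G))
    (hHc : H ≤ weakClosure Q ⊤) (hH'c : H' ≤ weakClosure Q ⊤) (hprod : H ⊔ H' = weakClosure Q ⊤)
    (hcomm : ⁅H, H'⁆ ≤ normalizer (Q : Set G)) :
    ⁅rsP p (weakClosure Q (H ⊔ Q)), Q⁆ = rsP p (weakClosure Q (H ⊔ Q)) ∧
    ⁅rsP p (weakClosure Q (H ⊔ Q)), H⁆ = rsP p (weakClosure Q (H ⊔ Q)) ∧
    rsP p (weakClosure Q (H ⊔ Q)) ≤ ⁅H, H⁆ ∧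
    weakClosure Q ⊤ ≤ normalizer ((rsP p (weakClosure Q (H ⊔ Q)) : Subgroup G) : Set G) := by
  have hQHc : Q ≤ weakClosure Q ⊤ := self_le_weakClosure le_top
  have hQH : Q ≤ normalizer (H : Set G) := hQHc.trans hH
  have h1 := wc_commutator_eq hQ hwc (X := H ⊔ Q) le_sup_right
  have h2 := wc_commutator_H hQ hwc hQHc hH hH' hHc hH'c hprod hcomm
  have hKH := wc_rsP_le (p := p) hQ hQH
  have h3 : rsP p (weakClosure Q (H ⊔ Q)) ≤ ⁅H, H⁆ := by
    rw [← h2]
    exact Subgroup.commutator_mono hKH le_rfl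
  refine ⟨h1, h2, h3, ?_⟩
  have hthree := commutator_le_pCoreOf_sq hQ hwc hH hH' hHc hH'c hcomm
  set K := rsP p (weakClosure Q (H ⊔ Q)) with hK
  set A := pCoreOf p ⁅H, H'⁆ with hA
  have hHK : H ≤ normalizer (K : Set G) :=
    le_sup_left.trans (le_normalizer_rsP_of (le_normalizer_weakClosure Q _))
  have hCH : ⁅H, H'⁆ ≤ H := commutator_le_left_of_normalizer (hH'c.trans hH)
  have hAH : A ≤ H := (pCoreOf_le_self _).trans hCH
  have hAK : A ≤ normalizer (K : Set G) := hAH.trans hHK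
  have hAp : IsPGroup p A := (Cfsg.Agent.Lib.Core.pCore_isPGroup p _).map _
  have hAn : weakClosure Q ⊤ ≤ normalizer (A : Set G) :=
    (le_normalizer_commutator hH hH').trans (normalizer_le_normalizer_pCoreOf _)
  have hrs : rsP p (K ⊔ A) = K := by
    apply le_antisymm
    · exact rsP_le_of_pow_mem (pow_mem_of_le_sup hAp hAK le_rfl)
    · have h4 : rsP p K ≤ rsP p (K ⊔ A) := map_pResidual_mono le_sup_left
      rwa [hK, rsP_rsP, ← hK] at h4
  have hD : weakClosure Q ⊤ ≤ normalizer ((K ⊔ A : Subgroup G) : Set G) := by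
    rw [← hprod]
    apply sup_le
    · exact le_normalizer_sup hHK (hHc.trans hAn)
    · intro h hh
      apply mem_normalizer_of_map_conj_le
      rw [Subgroup.map_sup]
      apply sup_le
      · rintro _ ⟨k, hk, rfl⟩
        show h * k * h⁻¹ ∈ K ⊔ A
        have e : h * k * h⁻¹ = k * ⁅k⁻¹, h⁆ := by
          simp only [commutatorElement_def]; group
        rw [e]
        exact Subgroup.mul_mem_sup hk (hthree (Subgroup.commutator_mem_commutator (h3 (K.inv_mem hk)) hh))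
      · rw [Cfsg.Agent.Lib.FF.mem_normalizer_iff_conj.mp (hAn (hH'c hh))]
        exact le_sup_right
  have h5 := le_normalizer_rsP_of (p := p) hD
  rwa [hrs] at h5

include hQ hwc in
/-- The main statement on the weak closure in a product. -/
theorem wc_prod_main {H₁ H₂ : Subgroup G}
    (hH₁ : weakClosure Q ⊤ ≤ normalizer (H₁ : Set G)) (hH₂ : weakClosure Q ⊤ ≤ normalizer (H₂ : Set G))
    (hc₁ : H₁ ≤ weakClosure Q ⊤) (hc₂ : H₂ ≤ weakClosure Q ⊤) (hprod : H₁ ⊔ H₂ = weakClosure Q ⊤)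
    (hcomm : ⁅H₁, H₂⁆ ≤ normalizer (Q : Set G)) :
    rsP p (weakClosure Q (H₁ ⊔ Q)) ⊔ rsP p (weakClosure Q (H₂ ⊔ Q)) = rsP p (weakClosure Q ⊤) ∧
    ⁅rsP p (weakClosure Q (H₁ ⊔ Q)), rsP p (weakClosure Q (H₂ ⊔ Q))⁆ ≤ pCoreOf p (weakClosure Q ⊤) := by
  have hQHc : Q ≤ weakClosure Q ⊤ := self_le_weakClosure le_top
  obtain ⟨-, -, h13, h14⟩ := wc_part hQ hwc hH₁ hH₂ hc₁ hc₂ hprod hcomm
  obtain ⟨-, -, -, h24⟩ := wc_part hQ hwc hH₂ hH₁ hc₂ hc₁ (by rw [sup_comm]; exact hprod)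
    (by rw [Subgroup.commutator_comm]; exact hcomm)
  have hK₂H := wc_rsP_le (p := p) hQ (hQHc.trans hH₂)
  have hE : ∀ H : Subgroup G, H ≤ weakClosure Q ⊤ → weakClosure Q (H ⊔ Q) ≤ weakClosure Q ⊤ := fun H _ =>
    weakClosure_mono Q le_top
  constructor
  · apply le_antisymm
    · exact sup_le (map_pResidual_mono (hE _ hc₁)) (map_pResidual_mono (hE _ hc₂))
    · set K₁ := rsP p (weakClosure Q (H₁ ⊔ Q)) with hK₁
      set K₂ := rsP p (weakClosure Q (H₂ ⊔ Q)) with hK₂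
      have hN : weakClosure Q ⊤ ≤ normalizer ((K₁ ⊔ K₂ : Subgroup G) : Set G) :=
        le_normalizer_sup h14 h24
      have hMove : ∀ H : Subgroup G, H ≤ weakClosure Q ⊤ → rsP p (weakClosure Q (H ⊔ Q)) ≤ K₁ ⊔ K₂ →
          H ≤ normalizer ((K₁ ⊔ K₂ ⊔ Q : Subgroup G) : Set G) := by
        intro H hH hKle h hh
        apply mem_normalizer_of_map_conj_le
        rw [Subgroup.map_sup]
        apply sup_le
        · rw [Cfsg.Agent.Lib.FF.mem_normalizer_iff_conj.mp (hN (hH hh))]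
          exact le_sup_left
        · have h1 : Q.map (MulAut.conj h).toMonoidHom ≤ H ⊔ Q := by
            rintro _ ⟨q, hq, rfl⟩
            show h * q * h⁻¹ ∈ H ⊔ Q
            have hh' : h ∈ H ⊔ Q := (le_sup_left : H ≤ H ⊔ Q) hh
            exact (H ⊔ Q).mul_mem ((H ⊔ Q).mul_mem hh' ((le_sup_right : Q ≤ H ⊔ Q) hq)) ((H ⊔ Q).inv_mem hh')
          have h2 := conj_le_weakClosure h1
          refine h2.trans ((wc_le_rsP_sup hQ hwc le_sup_right).trans ?_)
          exact sup_le_sup_right hKle Q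
      have hM : weakClosure Q ⊤ ≤ normalizer ((K₁ ⊔ K₂ ⊔ Q : Subgroup G) : Set G) := by
        rw [← hprod]
        exact sup_le (hMove H₁ hc₁ le_sup_left) (hMove H₂ hc₂ le_sup_right)
      have hle := wc_le_of_normalized hQ hwc (X := ⊤) le_top le_sup_right hM
      exact rsP_le_of_pow_mem (pow_mem_of_le_sup hQ (hQHc.trans hN) hle)
  · have hthree := commutator_le_pCoreOf_sq hQ hwc hH₁ hH₂ hc₁ hc₂ hcomm
    refine (Subgroup.commutator_mono h13 hK₂H).trans (hthree.trans ?_)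
    have hCH : ⁅H₁, H₂⁆ ≤ H₁ := commutator_le_left_of_normalizer (hc₂.trans hH₁)
    apply le_pCoreOf_of_normal ((Cfsg.Agent.Lib.Core.pCore_isPGroup p _).map _)
      ((pCoreOf_le_self _).trans (hCH.trans hc₁))
    exact (le_normalizer_commutator hH₁ hH₂).trans (normalizer_le_normalizer_pCoreOf _)

end Prod

end Cfsg.Agent.Lib.Amalgam
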