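import Cfsg.Agent.Lib.Amalgam.QuotP
import Cfsg.Agent.Lib.Amalgam.ParaChar
import Cfsg.Agent.Lib.Amalgam.WeakProd
import Cfsg.Agent.Lib.Amalgam.Kieler
import Cfsg.Agent.Lib.FF.SubnormalSylow
import Cfsg.Agent.Lib.Core.MinNormal2

/-!
# Transitive families of `p`-minimal or strongly `p`-irreducible subgroups
-/

set_option autoImplicit false
set_option linter.unusedSectionVars false

namespace Cfsg.Agent.Lib.Amalgam.TransFam

open Cfsg Subgroup Cfsg.Agent.Lib.FF Cfsg.Agent.Lib.Amalgam Cfsg.Agent.Lib.Core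
open scoped commutatorElement

variable {G : Type*} [Group G] {p : ℕ} [hp : Fact p.Prime]

/-- Conjugation of subgroups. -/
abbrev cj (g : G) (A : Subgroup G) : Subgroup G := A.map (MulAut.conj g).toMonoidHom

theorem cj_inv_cj (g : G) (A : Subgroup G) : cj g⁻¹ (cj g A) = A := by
  show (A.map _).map _ = A
  rw [conj_mul_conj, inv_mul_cancel, conj_one']

theorem cj_cj_inv (g : G) (A : Subgroup G) : cj g (cj g⁻¹ A) = A := by
  show (A.map _).map _ = A
  rw [conj_mul_conj, mul_inv_cancel, conj_one']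

theorem cj_inf (g : G) (A B : Subgroup G) : cj g (A ⊓ B) = cj g A ⊓ cj g B :=
  Subgroup.map_inf _ _ _ (MulEquiv.injective _)

/-- `M` is the largest proper subgroup of `A` containing `S`. -/
structure IsLP (S A M : Subgroup G) : Prop where
  le : M ≤ A
  ov : S ≤ M
  ne : M ≠ A
  max : ∀ Y : Subgroup G, Y ≤ A → S ≤ Y → Y ≠ A → Y ≤ M

theorem IsLP.unique {S A M M' : Subgroup G} (h : IsLP S A M) (h' : IsLP S A M') : M = M' :=
  le_antisymm (h'.max M h.le h.ov h.ne) (h.max M' h'.le h'.ov h'.ne)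

theorem IsLP.conj {S A M : Subgroup G} (h : IsLP S A M) (g : G) :
    IsLP (cj g S) (cj g A) (cj g M) where
  le := conj_mono g h.le
  ov := conj_mono g h.ov
  ne := fun e => h.ne (by rw [← cj_inv_cj g M, e, cj_inv_cj])
  max := by
    intro Y hYA hSY hne
    have h1 : cj g⁻¹ Y ≤ A := by
      have : cj g⁻¹ Y ≤ cj g⁻¹ (cj g A) := conj_mono g⁻¹ hYA
      rwa [cj_inv_cj] at this
    have h2 : S ≤ cj g⁻¹ Y := by
      have : cj g⁻¹ (cj g S) ≤ cj g⁻¹ Y := conj_mono g⁻¹ hSY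
      rwa [cj_inv_cj] at this
    have h3 : cj g⁻¹ Y ≠ A := fun e => hne (by rw [← cj_cj_inv g Y, e])
    have h4 : cj g (cj g⁻¹ Y) ≤ cj g M := conj_mono g (h.max _ h1 h2 h3)
    rwa [cj_cj_inv] at h4

section UniqueCoatom

variable [Finite G]

/-- The uniqueness statement for the maximal subgroup over a Sylow subgroup. -/
theorem unique_coatom_of_family (T : Sylow p G) (𝒜 : Set (Subgroup G)) (hne : 𝒜.Nonempty)
    (hinv : ∀ h : G, ∀ A ∈ 𝒜, cj h A ∈ 𝒜)
    (hsyl : ∀ (P : Sylow p G), ∀ A ∈ 𝒜, IsSylowIn p ((P : Subgroup G) ⊓ A) A)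
    (hLP : ∀ A ∈ 𝒜, ∃ M, IsLP ((T : Subgroup G) ⊓ A) A M)
    (hgen : ∀ X : Subgroup G, (T : Subgroup G) ≤ X → ∀ A ∈ 𝒜, A ≤ X → X = ⊤)
    (hnn : ∀ A ∈ 𝒜, ∀ M, IsLP ((T : Subgroup G) ⊓ A) A M → ¬ A ≤ normalizer (M : Set G)) :
    ∃! M : Subgroup G, IsCoatom M ∧ (T : Subgroup G) ≤ M := by
  -- the stabilizer of the family of maximal subgroups
  let J : Subgroup G :=
    { carrier := {h | ∀ A ∈ 𝒜, ∀ M, IsLP ((T : Subgroup G) ⊓ A) A M →
        IsLP ((T : Subgroup G) ⊓ cj h A) (cj h A) (cj h M)}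
      one_mem' := by
        intro A _ M hM
        show IsLP ((T : Subgroup G) ⊓ (A.map _)) (A.map _) (M.map _)
        rw [conj_one', conj_one']
        exact hM
      mul_mem' := by
        intro g h hg hh A hA M hM
        have h1 := hg _ (hinv h A hA) _ (hh A hA M hM)
        show IsLP ((T : Subgroup G) ⊓ (A.map _)) (A.map _) (M.map _)
        rw [← conj_mul_conj, ← conj_mul_conj]
        exact h1
      inv_mem' := by
        intro h hh A hA M hM
        obtain ⟨M₁, hM₁⟩ := hLP _ (hinv h⁻¹ A hA)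
        have h1 := hh _ (hinv h⁻¹ A hA) _ hM₁
        rw [cj_cj_inv] at h1
        have h2 := h1.unique hM
        rw [← h2, cj_inv_cj]
        exact hM₁ }
  have hmemJ : ∀ h, h ∈ J ↔ ∀ A ∈ 𝒜, ∀ M, IsLP ((T : Subgroup G) ⊓ A) A M →
      IsLP ((T : Subgroup G) ⊓ cj h A) (cj h A) (cj h M) := fun h => Iff.rfl
  -- the key: proper subgroups over `T` stabilize the family
  have key : ∀ X : Subgroup G, (T : Subgroup G) ≤ X → X ≠ ⊤ → X ≤ J := by
    intro X hTX hXtop x hx
    rw [hmemJ]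
    intro A hA M hM
    have hA' := hinv x A hA
    obtain ⟨M', hM'⟩ := hLP _ hA'
    have hne' : X ⊓ cj x A ≠ cj x A := by
      intro e
      exact hXtop (hgen X hTX _ hA' (inf_eq_right.mp e))
    have hXM : X ⊓ cj x A ≤ M' :=
      hM'.max _ inf_le_right (inf_le_inf_right _ hTX) hne'
    have hS₁ := hsyl T _ hA'
    have hS₂ := hsyl (x • T) _ hA'
    have hcoe : ((x • T : Sylow p G) : Subgroup G) = cj x (T : Subgroup G) := coe_smul_sylow x T
    rw [hcoe] at hS₂
    have hle₂ : cj x (T : Subgroup G) ⊓ cj x A ≤ X ⊓ cj x A := by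
      apply inf_le_inf_right
      rintro _ ⟨t, ht, rfl⟩
      exact X.mul_mem (X.mul_mem hx (hTX ht)) (X.inv_mem hx)
    have hlow : ∀ S : Subgroup G, IsSylowIn p S (cj x A) → S ≤ M' → IsSylowIn p S M' := by
      intro S hS hSM
      refine ⟨hSM, hS.isPGroup, fun hd => hS.not_dvd ?_⟩
      have := Subgroup.relIndex_mul_relIndex S M' (cj x A) hSM hM'.le
      rw [← this]
      exact hd.trans (Dvd.intro _ rfl)
    have hS₁' := hlow _ hS₁ ((inf_le_inf_right _ hTX).trans hXM)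
    have hS₂' := hlow _ hS₂ (hle₂.trans hXM)
    obtain ⟨m, hm, hmeq⟩ := hS₂'.exists_conj hS₁'
    have h1 := hM.conj x
    rw [cj_inf] at h1
    have h2 := h1.conj m
    have hmA : cj m (cj x A) = cj x A := conj_eq_of_mem (hM'.le hm)
    rw [hmA] at h2
    have hmeq' : cj m (cj x (T : Subgroup G) ⊓ cj x A) = (T : Subgroup G) ⊓ cj x A := hmeq
    rw [hmeq'] at h2
    have h3 := h2.unique hM'
    have hmM : cj m M' = M' := conj_eq_of_mem hm
    have h4 : cj x M = M' := by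
      have h5 := congrArg (cj m⁻¹) h3
      rw [cj_inv_cj] at h5
      rw [h5]
      exact conj_eq_of_mem (M'.inv_mem hm)
    rw [h4]
    exact hM'
  have hJtop : J ≠ ⊤ := by
    intro e
    obtain ⟨A, hA⟩ := hne
    obtain ⟨M, hM⟩ := hLP A hA
    apply hnn A hA M hM
    intro a ha
    have h1 : a ∈ J := by rw [e]; trivial
    have h2 := (hmemJ a).mp h1 A hA M hM
    have h3 : cj a A = A := conj_eq_of_mem ha
    rw [h3] at h2
    exact mem_normalizer_iff_conj.mpr (h2.unique hM)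
  have hTtop : (T : Subgroup G) ≠ ⊤ := by
    intro e
    obtain ⟨A, hA⟩ := hne
    obtain ⟨M, hM⟩ := hLP A hA
    rw [e, top_inf_eq] at hM
    exact hM.ne (le_antisymm hM.le hM.ov)
  have hTJ := key _ le_rfl hTtop
  have hJco : IsCoatom J := by
    refine ⟨hJtop, fun Y hY => ?_⟩
    by_contra hne'
    exact absurd (key Y (hTJ.trans hY.le) hne') (not_le_of_gt hY)
  refine ⟨J, ⟨hJco, hTJ⟩, ?_⟩
  rintro M ⟨hM, hTM⟩
  have h1 := key M hTM hM.1
  by_contra hne'
  exact hJtop (hM.2 J (lt_of_le_of_ne h1 hne'))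

end UniqueCoatom

section Comm

variable {Γ : Type*} [Group Γ]

theorem closure_isPGroup {C : Subgroup Γ} (hC : ∀ a ∈ C, ∀ b ∈ C, a * b = b * a) {X : Subgroup Γ}
    (hX : X ≤ C) (gen : ∃ S : Set Γ, X = closure S ∧ ∀ a ∈ S, ∃ k : ℕ, a ^ (p ^ k) = 1) :
    IsPGroup p X := by
  obtain ⟨S, rfl, hS⟩ := gen
  let P : Subgroup Γ :=
    { carrier := {a | a ∈ C ∧ ∃ k : ℕ, a ^ (p ^ k) = 1}
      one_mem' := ⟨C.one_mem, 0, by simp⟩
      mul_mem' := by
        rintro a b ⟨ha, k, hk⟩ ⟨hb, l, hl⟩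
        refine ⟨C.mul_mem ha hb, k + l, ?_⟩
        have hc : Commute a b := hC a ha b hb
        rw [hc.mul_pow, pow_add, pow_mul, hk, mul_comm, pow_mul, hl]
        simp
      inv_mem' := by
        rintro a ⟨ha, k, hk⟩
        exact ⟨C.inv_mem ha, k, by rw [inv_pow, hk, inv_one]⟩ }
  have hle : closure S ≤ P := by
    rw [closure_le]
    intro a ha
    exact ⟨hX (subset_closure ha), hS a ha⟩
  rintro ⟨g, hg⟩
  obtain ⟨-, k, hk⟩ := hle hg
  exact ⟨k, Subtype.ext (by simpa using hk)⟩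

/-- The main commutator computation. -/
theorem comm_isPGroup {U V : Subgroup Γ} (𝓔 : Set (Subgroup Γ))
    (hgen : ∀ T : Subgroup Γ, (∀ B ∈ 𝓔, B ≤ T) → V ≤ T)
    (hE : ∀ B ∈ 𝓔, B ≤ V ∧ ∀ e ∈ B, ∃ m : ℕ, e ^ (p ^ m) ∈ ⁅V, V⁆)
    (hUV : U ≤ normalizer (V : Set Γ)) (hVU : V ≤ normalizer (U : Set Γ))
    (hc : U ⊓ V ≤ centralizer (V : Set Γ)) : IsPGroup p (⁅U, V⁆ : Subgroup Γ) := by
  have hval : ∀ x ∈ U, ∀ v ∈ V, ⁅x, v⁆ ∈ U ⊓ V := by
    intro x hx v hv
    exact ⟨commutator_le_left_of_normalizer hVU (commutator_mem_commutator hx hv),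
      commutator_le_right_of_normalizer hUV (commutator_mem_commutator hx hv)⟩
  have hcent : ∀ a ∈ U ⊓ V, ∀ v ∈ V, a * v = v * a := by
    intro a ha v hv
    exact ((mem_centralizer_iff.mp (hc ha)) v hv).symm
  have habel : ∀ a ∈ U ⊓ V, ∀ b ∈ U ⊓ V, a * b = b * a := fun a ha b hb => hcent a ha b hb.2
  have hmulc : ∀ x ∈ U, ∀ v ∈ V, ∀ w ∈ V, ⁅x, v * w⁆ = ⁅x, v⁆ * ⁅x, w⁆ := by
    intro x hx v hv w hw
    have h1 : v * ⁅x, w⁆ = ⁅x, w⁆ * v := (hcent _ (hval x hx w hw) v hv).symm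
    have h2 : ⁅x, v⁆ * ⁅x, w⁆ = ⁅x, v⁆ * v * ⁅x, w⁆ * v⁻¹ := by
      rw [mul_assoc ⁅x, v⁆ v, h1]; group
    rw [h2]
    simp only [commutatorElement_def]
    group
  have hone : ∀ x : Γ, ⁅x, (1 : Γ)⁆ = 1 := by intro x; simp [commutatorElement_def]
  have hinvc : ∀ x ∈ U, ∀ v ∈ V, ⁅x, v⁻¹⁆ = ⁅x, v⁆⁻¹ := by
    intro x hx v hv
    have h := hmulc x hx v hv v⁻¹ (V.inv_mem hv)
    rw [mul_inv_cancel, hone] at h
    exact eq_inv_of_mul_eq_one_right h.symm
  have hpow : ∀ x ∈ U, ∀ v ∈ V, ∀ n : ℕ, ⁅x, v ^ n⁆ = ⁅x, v⁆ ^ n := by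
    intro x hx v hv n
    induction n with
    | zero => simp [hone]
    | succ n ih => rw [pow_succ, hmulc x hx _ (V.pow_mem hv n) _ hv, ih, pow_succ]
  -- `x` centralizes the commutator subgroup of `V`
  have hcomm : ∀ x ∈ U, ⁅V, V⁆ ≤ centralizer ({x} : Set Γ) := by
    intro x hx
    rw [Subgroup.commutator_le]
    intro a ha b hb
    have h1 : ⁅x, ⁅a, b⁆⁆ = 1 := by
      have e : ⁅a, b⁆ = a * b * a⁻¹ * b⁻¹ := rfl
      have hab := V.mul_mem ha hb
      have hai := V.inv_mem ha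
      rw [e, hmulc x hx _ (V.mul_mem hab hai) _ (V.inv_mem hb),
        hmulc x hx _ hab _ hai, hmulc x hx _ ha _ hb, hinvc x hx _ ha, hinvc x hx _ hb,
        habel _ (hval x hx a ha) _ (hval x hx b hb)]
      group
    rw [mem_centralizer_iff]
    rintro _ rfl
    rw [commutatorElement_def] at h1
    have h2 := mul_inv_eq_one.mp h1
    have h3 := mul_inv_eq_iff_eq_mul.mp h2
    exact h3
  -- the elements of `V` with `p`-torsion commutator
  have htor : ∀ x ∈ U, ∀ v ∈ V, ∃ k : ℕ, ⁅x, v⁆ ^ (p ^ k) = 1 := by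
    intro x hx
    let T : Subgroup Γ :=
      { carrier := {v | v ∈ V ∧ ∃ k : ℕ, ⁅x, v⁆ ^ (p ^ k) = 1}
        one_mem' := ⟨V.one_mem, 0, by simp [hone]⟩
        mul_mem' := by
          rintro a b ⟨ha, k, hk⟩ ⟨hb, l, hl⟩
          refine ⟨V.mul_mem ha hb, k + l, ?_⟩
          rw [hmulc x hx a ha b hb]
          have hc' : Commute ⁅x, a⁆ ⁅x, b⁆ := habel _ (hval x hx a ha) _ (hval x hx b hb)
          rw [hc'.mul_pow, pow_add, pow_mul, hk, mul_comm, pow_mul, hl]
          simp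
        inv_mem' := by
          rintro a ⟨ha, k, hk⟩
          refine ⟨V.inv_mem ha, k, ?_⟩
          rw [hinvc x hx a ha, inv_pow, hk, inv_one] }
    have hVT : V ≤ T := by
      apply hgen
      intro B hB e he
      obtain ⟨hBV, hB2⟩ := hE B hB
      obtain ⟨m, hm⟩ := hB2 e he
      refine ⟨hBV he, m, ?_⟩
      rw [← hpow x hx e (hBV he)]
      have h1 := hcomm x hx hm
      rw [mem_centralizer_iff] at h1
      have h2 := h1 x rfl
      rw [commutatorElement_def, h2]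
      group
    intro v hv
    exact (hVT hv).2
  apply closure_isPGroup habel (C := U ⊓ V)
  · exact Subgroup.commutator_le.mpr hval
  · refine ⟨{g | ∃ x ∈ U, ∃ v ∈ V, ⁅x, v⁆ = g}, rfl, ?_⟩
    rintro _ ⟨x, hx, v, hv, rfl⟩
    exact htor x hx v hv

end Comm

section Gamma

variable {Γ : Type*} [Group Γ] [Finite Γ]

theorem le_pCore_of_normalized {S W : Subgroup Γ} (hS : S.Normal) (hWS : W ≤ S)
    (hN : S ≤ normalizer (W : Set Γ)) (hW : IsPGroup p W) : W ≤ pCore p Γ := by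
  have h1 : W ≤ pCoreOf p S := le_pCoreOf_of_normal hW hWS hN
  have h2 : (pCoreOf p S).Normal := normal_map_of_characteristic S (pCore p S)
  exact h1.trans (le_pCore h2 (pCoreOf_isPGroup S))

theorem eq_bot_of_normalized (hO : pCore p Γ = ⊥) {S W : Subgroup Γ} (hS : S.Normal) (hWS : W ≤ S)
    (hN : S ≤ normalizer (W : Set Γ)) (hW : IsPGroup p W) : W = ⊥ := by
  have := le_pCore_of_normalized hS hWS hN hW
  rwa [hO, le_bot_iff] at this

omit [Finite Γ] hp in
theorem rsP_conj_le (g : Γ) (A : Subgroup Γ) : (pResidual p (cj g A)).map (cj g A).subtype ≤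
    cj g ((pResidual p A).map A.subtype) := by
  rw [map_pResidual_eq_closure, closure_le]
  rintro x ⟨hx, hc⟩
  rw [SetLike.mem_coe, mem_conj_iff]
  apply mem_map_pResidual_of_coprime (mem_conj_iff.mp hx)
  have e : orderOf (g⁻¹ * x * g) = orderOf x := by
    have := orderOf_conj' g⁻¹ x
    rwa [inv_inv] at this
  rw [e]
  exact hc

omit [Finite Γ] hp in
theorem rsP_conj (g : Γ) (A : Subgroup Γ) : (pResidual p (cj g A)).map (cj g A).subtype =
    cj g ((pResidual p A).map A.subtype) := by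
  apply le_antisymm (rsP_conj_le g A)
  have h := rsP_conj_le (p := p) g⁻¹ (cj g A)
  have e : cj g⁻¹ (cj g A) = A := cj_inv_cj g A
  have h2 : (pResidual p A).map A.subtype ≤ cj g⁻¹ ((pResidual p (cj g A)).map (cj g A).subtype) := by
    rw [e] at h
    exact h
  have h3 : cj g ((pResidual p A).map A.subtype) ≤
      cj g (cj g⁻¹ ((pResidual p (cj g A)).map (cj g A).subtype)) := conj_mono g h2
  rwa [cj_cj_inv] at h3

/-- The group theoretic heart, in the quotient by `O_p`. -/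
theorem main_gamma (hO : pCore p Γ = ⊥) (𝓑 : Set (Subgroup Γ)) (hne : 𝓑.Nonempty)
    (hinv : ∀ g : Γ, ∀ B ∈ 𝓑, cj g B ∈ 𝓑)
    (htr : ∀ B ∈ 𝓑, ∀ C ∈ 𝓑, ∃ g : Γ, C = cj g B)
    (hres : pResidual p Γ ≤ sSup 𝓑)
    (hnorm : ∀ B ∈ 𝓑, sSup 𝓑 ≤ normalizer (B : Set Γ))
    (hdvd : ∀ B ∈ 𝓑, p ∣ Nat.card B)
    (hD : ∀ B ∈ 𝓑, ∀ U : Subgroup Γ, B ≤ normalizer (U : Set Γ) →
      rsP p B ≤ U ∨ U ⊓ B ≤ centralizer (B : Set Γ))
    (hpw : ∀ B ∈ 𝓑, ∀ b ∈ B, ∃ m : ℕ, b ^ (p ^ m) ∈ (⁅B, B⁆ : Subgroup Γ)) :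
    IsPIrreducible p Γ ∧ ∀ B ∈ 𝓑, ∀ C ∈ 𝓑, rsP p B ≤ C ∨ (⁅B, C⁆ : Subgroup Γ) = ⊥ := by
  set S : Subgroup Γ := sSup 𝓑 with hSdef
  have hBS : ∀ B ∈ 𝓑, B ≤ S := fun B hB => le_sSup hB
  have hSn : S.Normal := by
    refine ⟨fun x hx g => ?_⟩
    have h1 : S ≤ S.comap (MulAut.conj g).toMonoidHom := by
      apply sSup_le
      intro B hB b hb
      show (MulAut.conj g).toMonoidHom b ∈ S
      exact hBS _ (hinv g B hB) ⟨b, hb, rfl⟩
    exact h1 hx
  have hSnorm : ∀ X : Subgroup Γ, X.Normal → S ≤ normalizer (X : Set Γ) := by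
    intro X hX
    rw [normalizer_eq_top_iff.mpr hX]
    exact le_top
  -- the basic dichotomy
  have hL2 : ∀ B ∈ 𝓑, ∀ U : Subgroup Γ, U ≤ normalizer (B : Set Γ) → S ≤ normalizer (U : Set Γ) →
      rsP p B ≤ U ∨ (⁅U, B⁆ : Subgroup Γ) = ⊥ := by
    intro B hB U hUB hSU
    rcases hD B hB U ((hBS B hB).trans hSU) with h | h
    · exact Or.inl h
    · right
      have h1 : IsPGroup p (⁅U, B⁆ : Subgroup Γ) := by
        apply comm_isPGroup {B} (fun T hT => hT B (Set.mem_singleton B))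
        · intro B' hB'
          rw [Set.mem_singleton_iff] at hB'
          rw [hB']
          exact ⟨le_rfl, hpw B hB⟩
        · exact hUB
        · exact (hBS B hB).trans hSU
        · exact h
      exact eq_bot_of_normalized hO hSn ((commutator_le_right_of_normalizer hUB).trans (hBS B hB))
        (le_normalizer_commutator hSU (hnorm B hB)) h1
  refine ⟨⟨?_, ?_⟩, ?_⟩
  · intro hcl
    obtain ⟨B, hB⟩ := hne
    obtain ⟨x, hx⟩ := exists_prime_orderOf_dvd_card' (G := B) p (hdvd B hB)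
    have hp1 : IsPGroup p (zpowers (x : Γ)) := by
      apply IsPGroup.of_card (n := 1)
      rw [Nat.card_zpowers, pow_one, Subgroup.orderOf_coe, hx]
    have h2 := (isPClosed_iff_le_pCore'.mp hcl) _ hp1
    rw [hO, le_bot_iff, zpowers_eq_bot] at h2
    have h3 : x = 1 := Subtype.ext h2
    rw [h3, orderOf_one] at hx
    exact hp.out.one_lt.ne hx
  · intro N hN hncl
    set U₀ : Subgroup Γ := N ⊓ S with hU₀
    have hU₀n : U₀.Normal := by
      haveI := hN
      haveI := hSn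
      exact Subgroup.normal_inf_normal N S
    by_cases hcase : ∃ B ∈ 𝓑, rsP p B ≤ U₀
    · obtain ⟨B, hB, hBU⟩ := hcase
      have hall : ∀ C ∈ 𝓑, rsP p C ≤ N := by
        intro C hC
        obtain ⟨g, rfl⟩ := htr B hB C hC
        have h1 : rsP p (cj g B) = cj g (rsP p B) := rsP_conj g B
        rw [h1]
        rintro _ ⟨y, hy, rfl⟩
        exact hN.conj_mem _ (hBU hy).1 g
      haveI := hN
      set ρ := QuotientGroup.mk' N with hρ
      have hpC : ∀ C ∈ 𝓑, IsPGroup p (C.map ρ) := by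
        intro C hC
        rintro ⟨y, c, hc, rfl⟩
        obtain ⟨k, hk⟩ := pow_mem_rsP (p := p) c hc
        refine ⟨k, Subtype.ext ?_⟩
        show ρ c ^ p ^ k = 1
        rw [← map_pow]
        exact (QuotientGroup.eq_one_iff _).mpr (hall C hC hk)
      have hle : S ≤ (pCoreOf p (S.map ρ)).comap ρ := by
        apply sSup_le
        intro C hC
        rw [← Subgroup.map_le_iff_le_comap]
        apply le_pCoreOf_of_normal (hpC C hC) (Subgroup.map_mono (hBS C hC))
        exact (Subgroup.map_mono (hnorm C hC)).trans (Subgroup.le_normalizer_map ρ)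
      have hpS : IsPGroup p (S.map ρ) :=
        (pCoreOf_isPGroup (p := p) (S.map ρ)).to_le (Subgroup.map_le_iff_le_comap.mpr hle)
      apply Cfsg.Agent.Lib.Transfer.pResidual_le_of_forall
      intro g hg
      have h1 : g ∈ S := hres (Cfsg.Agent.Lib.Transfer.mem_pResidual_of_coprime hg)
      obtain ⟨k, hk⟩ := hpS ⟨ρ g, g, h1, rfl⟩
      have h2 : ρ g ^ p ^ k = 1 := by simpa using congrArg Subtype.val hk
      rw [← map_pow] at h2
      have h3 : g ^ p ^ k ∈ N := (QuotientGroup.eq_one_iff _).mp h2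
      exact mem_of_pow_coprime (Nat.Coprime.pow_right k hg) h3
    · exfalso
      apply hncl
      push Not at hcase
      have hU₀B : ∀ B ∈ 𝓑, (⁅U₀, B⁆ : Subgroup Γ) = ⊥ := by
        intro B hB
        rcases hL2 B hB U₀ (inf_le_right.trans (hnorm B hB)) (hSnorm U₀ hU₀n) with h | h
        · exact absurd h (hcase B hB)
        · exact h
      have hU₀S : U₀ ≤ centralizer (S : Set Γ) := by
        rw [Subgroup.le_centralizer_iff]
        apply sSup_le
        intro B hB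
        rw [Subgroup.le_centralizer_iff]
        exact Subgroup.commutator_eq_bot_iff_le_centralizer.mp (hU₀B B hB)
      have h1 : IsPGroup p (⁅N, S⁆ : Subgroup Γ) := by
        apply comm_isPGroup 𝓑 (fun T hT => sSup_le hT)
        · intro B hB
          refine ⟨hBS B hB, fun e he => ?_⟩
          obtain ⟨m, hm⟩ := hpw B hB e he
          exact ⟨m, Subgroup.commutator_mono (hBS B hB) (hBS B hB) hm⟩
        · rw [normalizer_eq_top_iff.mpr hSn]
          exact le_top
        · exact hSnorm N hN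
        · exact hU₀S
      haveI := hN
      haveI := hSn
      have h2 : (⁅N, S⁆ : Subgroup Γ) ≤ pCore p Γ := le_pCore inferInstance h1
      rw [hO, le_bot_iff] at h2
      have hNS : N ≤ centralizer (S : Set Γ) := Subgroup.commutator_eq_bot_iff_le_centralizer.mp h2
      have hq : IsPGroup p (Γ ⧸ S) := by
        intro y
        obtain ⟨x, rfl⟩ := QuotientGroup.mk'_surjective S y
        haveI := Cfsg.Agent.Lib.Techniques.pResidual_normal Γ p
        obtain ⟨k, hk⟩ := (Cfsg.Agent.Lib.Transfer.isPGroup_quotient_pResidual (G := Γ) (p := p))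
          (QuotientGroup.mk' _ x)
        refine ⟨k, ?_⟩
        rw [← map_pow] at hk ⊢
        exact (QuotientGroup.eq_one_iff _).mpr (hres ((QuotientGroup.eq_one_iff _).mp hk))
      haveI : Group.IsNilpotent (Γ ⧸ S) := hq.isNilpotent
      have hnil : Group.IsNilpotent N := by
        apply _root_.isNilpotent_of_ker_le_center ((QuotientGroup.mk' S).comp N.subtype)
        rintro ⟨x, hxN⟩ hx
        have hxS : x ∈ S := by
          have : QuotientGroup.mk' S x = 1 := hx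
          exact (QuotientGroup.eq_one_iff _).mp this
        rw [Subgroup.mem_center_iff]
        rintro ⟨y, hyN⟩
        apply Subtype.ext
        exact ((mem_centralizer_iff.mp (hNS hyN)) x hxS).symm
      have htf := (Group.isNilpotent_of_finite_tfae (G := N)).out 0 3
      exact fun P => (htf.mp hnil) p inferInstance P
  · intro B hB C hC
    rcases hL2 B hB C ((hBS C hC).trans (hnorm B hB)) (hnorm C hC) with h | h
    · exact Or.inl h
    · right
      rw [Subgroup.commutator_comm]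
      exact h

end Gamma

end Cfsg.Agent.Lib.Amalgam.TransFam
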