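import Cfsg.Agent.Lib.InvolChar.Transfer
import Cfsg.Agent.Lib.Amalgam.NormMap
import Cfsg.Agent.Lib.Hall.CoprimeLemmas

/-!
# Transfer of a central involution to `ℤ/2`
-/

set_option autoImplicit false

namespace Cfsg.Agent.Lib.Amalgam

open Cfsg MulAction

variable {G : Type*} [Group G] [Finite G]

/-- Transfer of an involution `z` central in a 2-subgroup `St` of odd index, `N_G(St)` fixing `z`, `z` outside
a subgroup `M` of index 2 of `St`. -/
theorem exists_parity_of_central_involution (St : Subgroup G) (hSt2 : IsPGroup 2 St)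
    (hodd : ¬ 2 ∣ St.index) {z : G} (hzS : z ∈ St)
    (hzc : ∀ s ∈ St, s * z = z * s) (hz2 : z ^ 2 = 1)
    (M : Subgroup ↥St) (hM : M.index = 2) (hzM : (⟨z, hzS⟩ : St) ∉ M)
    (hN : ∀ g ∈ Subgroup.normalizer (St : Set G), g * z * g⁻¹ = z) :
    ∃ τ : G →* Multiplicative (ZMod 2), τ z ≠ 1 := by
  classical
  haveI : Fact (Nat.Prime 2) := ⟨Nat.prime_two⟩
  have hMn : M.Normal := Subgroup.normal_of_index_eq_two hM
  set ϕ := Cfsg.Agent.Lib.InvolChar.parityHom M hM with hϕ
  refine ⟨ϕ.transfer, ?_⟩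
  letI : Fintype (G ⧸ St) := Fintype.ofFinite _
  letI : Fintype (Quotient (orbitRel (Subgroup.zpowers z) (G ⧸ St))) := Fintype.ofFinite _
  -- the predicate
  let good : G ⧸ St → Prop := fun c => ∃ h : (Quotient.out c)⁻¹ * z * Quotient.out c ∈ St, (⟨_, h⟩ : St) ∉ M
  have hrep : ∀ g : G, good (QuotientGroup.mk g) ↔ ∃ h : g⁻¹ * z * g ∈ St, (⟨_, h⟩ : St) ∉ M := by
    intro g
    have h1 : (Quotient.out (QuotientGroup.mk g : G ⧸ St))⁻¹ * g ∈ St :=
      QuotientGroup.eq.mp (QuotientGroup.out_eq' _)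
    set g₀ := Quotient.out (QuotientGroup.mk g : G ⧸ St) with hg₀
    set s := g₀⁻¹ * g with hs
    have hg : g = g₀ * s := by rw [hs]; group
    have e : g⁻¹ * z * g = s⁻¹ * (g₀⁻¹ * z * g₀) * s := by rw [hg]; group
    have e' : g₀⁻¹ * z * g₀ = s * (g⁻¹ * z * g) * s⁻¹ := by rw [hg]; group
    constructor
    · rintro ⟨h2, h3⟩
      have h4 : g⁻¹ * z * g ∈ St := by
        rw [e]
        exact St.mul_mem (St.mul_mem (St.inv_mem h1) h2) h1
      refine ⟨h4, fun h5 => h3 ?_⟩
      have := hMn.conj_mem _ h5 ⟨s, h1⟩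
      convert this using 1
      exact Subtype.ext e'
    · rintro ⟨h2, h3⟩
      have h4 : g₀⁻¹ * z * g₀ ∈ St := by
        rw [e']
        exact St.mul_mem (St.mul_mem h1 h2) (St.inv_mem h1)
      refine ⟨h4, fun h5 => h3 ?_⟩
      have := hMn.conj_mem _ h5 (⟨s, h1⟩ : St)⁻¹
      convert this using 1
      apply Subtype.ext
      show g⁻¹ * z * g = s⁻¹ * (g₀⁻¹ * z * g₀) * s⁻¹⁻¹
      rw [e]; simp
  -- invariance under `St`
  have hinv : ∀ (s : St) (c : G ⧸ St), good (s • c) ↔ good c := by
    rintro ⟨s, hs⟩ c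
    obtain ⟨g, rfl⟩ := QuotientGroup.mk_surjective c
    have e1 : (⟨s, hs⟩ : St) • (QuotientGroup.mk g : G ⧸ St) = QuotientGroup.mk (s * g) := rfl
    rw [e1, hrep, hrep]
    have e2 : (s * g)⁻¹ * z * (s * g) = g⁻¹ * z * g := by
      have h1 := hzc s hs
      calc (s * g)⁻¹ * z * (s * g) = g⁻¹ * s⁻¹ * (z * s) * g := by group
        _ = g⁻¹ * s⁻¹ * (s * z) * g := by rw [h1]
        _ = _ := by group
    simp only [e2]
  -- fixed points are good
  have hfix : ∀ c : G ⧸ St, (∀ s : St, s • c = c) → good c := by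
    intro c hc
    obtain ⟨g, rfl⟩ := QuotientGroup.mk_surjective c
    have h1 : ∀ s ∈ St, g⁻¹ * s * g ∈ St := by
      intro s hs
      have h0 := hc ⟨s, hs⟩
      have e1 : (⟨s, hs⟩ : St) • (QuotientGroup.mk g : G ⧸ St) = QuotientGroup.mk (s * g) := rfl
      rw [e1] at h0
      have h2 : (s * g)⁻¹ * g ∈ St := QuotientGroup.eq.mp h0
      have h3 : g⁻¹ * s * g = ((s * g)⁻¹ * g)⁻¹ := by group
      rw [h3]
      exact St.inv_mem h2
    have h2 : g⁻¹ ∈ Subgroup.normalizer (St : Set G) :=
      Cfsg.Agent.Lib.Hall.mem_normalizer_of_conj_le (by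
        intro a ha
        simpa using h1 a ha)
    have h3 := hN _ h2
    have h4 : g⁻¹ * z * g = z := by simpa using h3
    rw [hrep]
    have h5 : g⁻¹ * z * g ∈ St := by rw [h4]; exact hzS
    refine ⟨h5, ?_⟩
    have h6 : (⟨g⁻¹ * z * g, h5⟩ : St) = ⟨z, hzS⟩ := Subtype.ext h4
    rw [h6]
    exact hzM
  -- good cosets are fixed by `z`
  have hgoodfix : ∀ c : G ⧸ St, good c → z • c = c := by
    rintro c ⟨h, -⟩
    conv_lhs => rw [← QuotientGroup.out_eq' c]
    conv_rhs => rw [← QuotientGroup.out_eq' c]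
    show (QuotientGroup.mk (z * Quotient.out c) : G ⧸ St) = QuotientGroup.mk (Quotient.out c)
    rw [QuotientGroup.eq]
    have e : (z * Quotient.out c)⁻¹ * Quotient.out c = ((Quotient.out c)⁻¹ * z * Quotient.out c)⁻¹ := by group
    rw [e]
    exact St.inv_mem h
  -- counting
  let W' : SubMulAction St (G ⧸ St) :=
    { carrier := {c | ¬ good c}
      smul_mem' := fun s c hc h => hc ((hinv s c).mp h) }
  have hW' : Nat.card W' ≡ Nat.card (fixedPoints St W') [MOD 2] :=
    hSt2.card_modEq_card_fixedPoints W'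
  have hempty : IsEmpty (fixedPoints St W') :=
    ⟨fun ⟨⟨c, hc⟩, hf⟩ => hc (hfix c (fun s => congrArg Subtype.val (hf s)))⟩
  have hW'0 : Nat.card (fixedPoints St W') = 0 := Nat.card_of_isEmpty
  rw [hW'0] at hW'
  have hcard : (Finset.univ.filter good).card + (Finset.univ.filter (fun c => ¬ good c)).card = St.index := by
    rw [Finset.card_filter_add_card_filter_not]
    rw [Subgroup.index, Nat.card_eq_fintype_card, Finset.card_univ]
  have hW'card : Nat.card W' = (Finset.univ.filter (fun c => ¬ good c)).card := by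
    show Nat.card {c // ¬ good c} = _
    rw [Nat.card_eq_fintype_card, Fintype.card_subtype]
  have hoddW : ¬ 2 ∣ (Finset.univ.filter good).card := by
    intro h1
    apply hodd
    rw [← hcard]
    refine Nat.dvd_add h1 ?_
    rw [← hW'card]
    exact (Nat.modEq_zero_iff_dvd.mp hW')
  -- the transfer
  rw [MonoidHom.transfer_eq_prod_quotient_orbitRel_zpowers_quot]
  have hterm : ∀ q : Quotient (orbitRel (Subgroup.zpowers z) (G ⧸ St)),
      ϕ ⟨(Quotient.out (q.out))⁻¹ * z ^ Function.minimalPeriod (z • ·) q.out * Quotient.out (q.out),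
          QuotientGroup.out_conj_pow_minimalPeriod_mem St z q.out⟩ =
      Multiplicative.ofAdd (if good q.out then (1 : ZMod 2) else 0) := by
    intro q
    set c := q.out with hc
    by_cases hzc' : z • c = c
    · have hl : Function.minimalPeriod (z • ·) c = 1 :=
        Function.minimalPeriod_eq_one_iff_isFixedPt.mpr hzc'
      have hmem : (Quotient.out c)⁻¹ * z * Quotient.out c ∈ St := by
        have := QuotientGroup.out_conj_pow_minimalPeriod_mem St z c
        rwa [hl, pow_one] at this
      have e : (⟨(Quotient.out c)⁻¹ * z ^ Function.minimalPeriod (z • ·) c * Quotient.out c,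
          QuotientGroup.out_conj_pow_minimalPeriod_mem St z c⟩ : St) =
          ⟨(Quotient.out c)⁻¹ * z * Quotient.out c, hmem⟩ := Subtype.ext (by simp only [hl, pow_one])
      rw [e]
      by_cases hM' : (⟨(Quotient.out c)⁻¹ * z * Quotient.out c, hmem⟩ : St) ∈ M
      · have hng : ¬ good c := by
          rintro ⟨_, h2⟩
          exact h2 hM'
        rw [if_neg hng, Cfsg.Agent.Lib.InvolChar.parityHom_of_mem M hM hM']
        rfl
      · have hg : good c := ⟨hmem, hM'⟩
        rw [if_pos hg, Cfsg.Agent.Lib.InvolChar.parityHom_of_not_mem M hM hM']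
    · have hng : ¬ good c := fun h => hzc' (hgoodfix c h)
      rw [if_neg hng]
      have hl : Function.minimalPeriod (z • ·) c ∣ 2 := by
        apply Function.IsPeriodicPt.minimalPeriod_dvd
        show (z • ·)^[2] c = c
        rw [smul_iterate, hz2]; simp
      have hl2 : Function.minimalPeriod (z • ·) c = 2 := by
        rcases (Nat.dvd_prime Nat.prime_two).mp hl with h | h
        · exact absurd (Function.minimalPeriod_eq_one_iff_isFixedPt.mp h) hzc'
        · exact h
      have e : (⟨(Quotient.out c)⁻¹ * z ^ Function.minimalPeriod (z • ·) c * Quotient.out c,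
          QuotientGroup.out_conj_pow_minimalPeriod_mem St z c⟩ : St) = 1 :=
        Subtype.ext (by simp [hl2, hz2])
      rw [e, map_one]
      rfl
  rw [Finset.prod_congr rfl (fun q _ => hterm q), ← ofAdd_sum, Finset.sum_boole]
  have hbij : (Finset.univ.filter (fun q : Quotient (orbitRel (Subgroup.zpowers z) (G ⧸ St)) => good q.out)).card =
      (Finset.univ.filter good).card := by
    apply Finset.card_bij (fun q _ => q.out)
    · intro q hq
      simpa using hq
    · intro q _ q' _ h
      exact Quotient.out_injective h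
    · intro c hc
      have hc' : good c := by simpa using hc
      have h1 : (Quotient.mk'' c : Quotient (orbitRel (Subgroup.zpowers z) (G ⧸ St))).out ∈
          orbit (Subgroup.zpowers z) c := by
        exact orbitRel_apply.mp (Quotient.mk_out (s := orbitRel (Subgroup.zpowers z) (G ⧸ St)) c)
      obtain ⟨⟨k, hk⟩, hk'⟩ := h1
      obtain ⟨n, rfl⟩ := Subgroup.mem_zpowers_iff.mp hk
      have h2 : z ^ n • c = c := by
        have hfixed : z ∈ stabilizer G c := hgoodfix c hc'
        exact Subgroup.zpow_mem _ hfixed n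
      have h3 : (Quotient.mk'' c : Quotient (orbitRel (Subgroup.zpowers z) (G ⧸ St))).out = c := by
        rw [← hk']
        exact h2
      refine ⟨Quotient.mk'' c, ?_, h3⟩
      simp only [Finset.mem_filter, Finset.mem_univ, true_and]
      rw [h3]; exact hc'
  rw [hbij]
  intro h
  have h2 : (((Finset.univ.filter good).card : ℕ) : ZMod 2) = 0 := Multiplicative.ofAdd.injective h
  exact hoddW ((ZMod.natCast_eq_zero_iff _ _).mp h2)

end Cfsg.Agent.Lib.Amalgam
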